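import Cfsg.Agent.Lib.Lie.Crit
import Cfsg.Agent.Lib.Lin.SuzMat

/-!
# The Suzuki groups: `PropA` and `PropB`
-/

set_option autoImplicit false

namespace LT

open Cfsg GT Subgroup

variable {G : Type*} [Group G] [Finite G]

omit [Finite G] in
theorem exists_tits_of_isoSuzuki (h : Lie.IsoSuzuki G) :
    ∃ (F : Type) (_ : Field F) (_ : Finite F) (_ : CharP F 2) (T : LG.Tits F) (m : ℕ),
      CT.SzStr m T.Z T.Q T.K T.B T.w ∧ Nonempty (G ≃* T.grp) := by
  obtain ⟨F, _, _, m, hm, hq, ⟨e⟩⟩ := h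
  have : CharP F 2 := charP_of_card_eq_prime_pow hq
  let T : LG.Tits F := ⟨iterateFrobenius F 2 (m + 1), fun x => by
    rw [iterateFrobenius_def, iterateFrobenius_def, ← pow_mul, ← pow_add,
      show m + 1 + (m + 1) = (2 * m + 1) + 1 by ring, pow_succ, pow_mul, ← hq,
      FiniteField.pow_card]⟩
  rw [T.Sz_eq (fun x => iterateFrobenius_def ..)] at e
  exact ⟨F, _, inferInstance, this, T, m, T.szStr hm (Nat.card_eq_fintype_card.trans hq), ⟨e⟩⟩

theorem isSylowIn_of_szStr {m : ℕ} {Z Q K B : Subgroup G} {w : G} (S : CT.SzStr m Z Q K B w) :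
    IsSylowIn 2 Q ⊤ := by
  refine isSylowIn_top_iff'.2 ⟨IsPGroup.of_card (by rw [S.cardQ, ← pow_mul]), ?_⟩
  rw [← relIndex_mul_index S.QB, S.indexB, Nat.prime_two.dvd_mul]
  have h1 : Q.relIndex B = Nat.card K :=
    Nat.eq_of_mul_eq_mul_right (Nat.card_pos (α := Q.subgroupOf B)) (by
      rw [relIndex, index_mul_card, S.cardB, Nat.card_congr (subgroupOfEquivOfLe S.QB).toEquiv,
        mul_comm])
  have h2 : 2 ∣ (2 ^ (2 * m + 1)) ^ 2 := (dvd_pow_self 2 (by omega)).pow two_ne_zero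
  have h3 := S.odd_cardK
  rw [h1]
  rintro (h | h)
  · exact (Nat.not_even_iff_odd.2 h3) (even_iff_two_dvd.2 h)
  · omega

theorem propA_of_isoSuzuki (h : Lie.IsoSuzuki G) : PropA 2 G := by
  obtain ⟨F, _, _, _, T, m, S, ⟨e⟩⟩ := exists_tits_of_isoSuzuki h
  have hS := isSylowIn_of_szStr S
  refine propA_of_top e hS.isPGroup fun a ha hU => ?_
  have h1 : ∀ u ∈ T.Q, T.w * u * T.w⁻¹ ∈ ha.fix := fun u hu =>
    ha.conj_fix (Q := ⊥) hU hS bot_le (by rw [normalizer_eq_top]; exact le_top) (mem_top _)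
      (by rw [normalizer_eq_top]; exact mem_top _) (fun g _ _ => by
      by_cases hg : g ∈ T.B
      · exact Or.inl (S.mem_normalizer_Q hg)
      · obtain ⟨u, hu, b, hb, rfl⟩ := S.bruhat g hg
        exact Or.inr ⟨u, hu, by simpa [mul_assoc] using S.mem_normalizer_Q hb⟩) hu
  refine (S.eq_top_of_normal (N := normalClosure (T.Q : Set T.grp))
    (S.ZQ.trans le_normalClosure)).ge.trans ?_
  rw [normalClosure, closure_le]
  intro x hx
  obtain ⟨u, hu, h2⟩ := Group.mem_conjugatesOfSet_iff.1 hx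
  obtain ⟨g, rfl⟩ := isConj_iff.1 h2
  by_cases hg : g ∈ T.B
  · exact hU (by simpa using S.normQ _ (T.B.inv_mem hg) u hu)
  · obtain ⟨v, hv, b, hb, rfl⟩ := S.bruhat g hg
    have h3 := h1 _ (S.normQ _ (T.B.inv_mem hb) u hu)
    have := mul_mem (mul_mem (hU hv) h3) (inv_mem (hU hv))
    rw [SetLike.mem_coe]
    convert this using 1
    group

theorem propB_of_isoSuzuki (h : Lie.IsoSuzuki G) : PropB G := by
  obtain ⟨F, _, _, _, T, m, S, ⟨e⟩⟩ := exists_tits_of_isoSuzuki h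
  refine propB_of_surjective (K := (⊤ : Subgroup T.grp))
    (e.symm.toMonoidHom.comp (⊤ : Subgroup T.grp).subtype)
    (e.symm.surjective.comp fun x => ⟨⟨x, mem_top x⟩, rfl⟩) (isSylowIn_of_szStr S)
    (T := T.Q) (by simp) fun t ht => ⟨ht, ?_⟩
  have h1 : T.Z ≤ ⁅T.Q, T.Q⁆ := by
    by_contra h2
    have h3 := S.rad (⁅T.Q, T.Q⁆ ⊓ T.Z) T.Q
      (lt_of_le_of_ne inf_le_right fun e => h2 (inf_eq_right.1 e)) le_rfl
      fun u hu v hv => ⟨commutator_mem_commutator hv hu, S.comm v hv u hu⟩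
    rw [S.cardQ] at h3
    have := S.eight_le
    nlinarith
  obtain ⟨a, b, rfl⟩ := ht
  exact h1 ⟨_, by rw [sq, T.x_mul, CharTwo.add_self_eq_zero]⟩

end LT
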