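import Cfsg.Agent.Lib.Lie.TabChev

/-!
# Splitting the table checks into blocks of roots
-/

set_option autoImplicit false

namespace LT

open Cfsg.Lie

noncomputable section

/-- The check on the `j`-th block of length `b`. -/
def blk (b j : ℕ) (f : ℕ → Bool) : Bool := all b fun i => f (Nat.add (Nat.mul j b) i)

theorem all_of_blk {n : ℕ} (b m : ℕ) {f : ℕ → Bool} (hn : n = m * b)
    (h : ∀ j < m, blk b j f = true) : all n f = true := all_iff.2 fun r hr => by
  have hb : 0 < b := Nat.pos_of_ne_zero (by rintro rfl; omega)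
  have := all_iff.1 (h (r / b) (by rwa [Nat.div_lt_iff_lt_mul hb, ← hn])) _ (Nat.mod_lt r hb)
  rwa [Nat.add_eq, Nat.mul_eq, Nat.div_add_mod'] at this

namespace Tab
variable {D : ChevalleyDatum} (T : Tab D)

def r0 (r : ℕ) : Bool := Nat.beq (D.negIdx.getD r 0) (g8 T.neg r) &&
  (all D.rank fun i => ibeq ((D.cartanSR.getD i #[]).getD r 0) (g4 (nth T.car i) r) &&
    ibeq ((D.coroot.getD r #[]).getD i 0) (g4 (nth T.cor i) r)) &&
  (T.R r (Nat.add D.rank r)).beq .nil && all D.nroots fun s => Nat.beq s (g8 T.neg r) ||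
    (T.R r (Nat.add D.rank s)).beq (slowFV D.rank (D.chain.getD r #[]).toList s)

def s1 : Bool := all D.rank fun i => decide (T.sm i < D.nroots) &&
    ibeq (g4 (nth T.car i) (T.sm i)) 2 &&
    all D.rank fun j => ibeq (T.wf (T.sm i) j) (if j = i then 1 else 0)

def r1 (r : ℕ) : Bool := decide (T.ng r < D.nroots) &&
    (all D.rank fun j => ibeq (T.wf (T.ng r) j) (-T.wf r j)) &&
    ((all D.rank fun j => decide (0 ≤ T.wf r j)) || all D.rank fun j => decide (T.wf r j ≤ 0)) &&
    !(all D.rank fun j => ibeq (T.wf r j) 0) &&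
    (all D.nroots fun s => Nat.beq r s || !(all D.rank fun j => ibeq (T.wf r j) (T.wf s j))) &&
    all D.rank fun i => decide (T.rf i r < D.nroots) && (Nat.beq r (T.sm i) ||
      Nat.beq r (T.ng (T.sm i)) || !(all D.rank fun j => Nat.beq j i || ibeq (T.wf r j) 0)) &&
      all D.rank fun j => ibeq (T.wf (T.rf i r) j) (T.wf r j - if j = i then
        sumTo D.rank fun k => T.wf r k * g4 (nth T.car i) (T.sm k) else 0)

def r2 (r : ℕ) : Bool := all (dm D) fun k => (T.R r k).all fun a j _ =>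
  Nat.blt 0 j && ibeq (T.hc a) (T.hc k + j * T.ht r)

def r3 (r : ℕ) : Bool := T.weq 0 [(r, .cons 0 2 1 (.mon 3 1))] [(r, .mon 2 1), (r, .mon 3 1)]

def r6 (i r : ℕ) : Bool :=
  T.ceq 0 (T.nu i) [(r, .mon 2 1)] [(T.rf i r, .mon 2 (g4 (nth T.eta i) r))]

/-- All checks on one block. -/
def rr (b j : ℕ) : Prop := blk b j T.r0 = true ∧ blk b j T.r1 = true ∧ blk b j T.r2 = true ∧
  blk b j T.r3 = true ∧ ∀ i < D.rank, blk b j (T.r6 i) = true

theorem ok_of_blk (b m : ℕ) (hn : D.nroots = m * b) (h1 : T.s1 = true) (h4 : T.chk4 = true)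
    (h5 : T.chk5 = true) (h : ∀ j < m, T.rr b j) : T.OK where
  c0 := all_of_blk b m hn fun j hj => (h j hj).1
  c1 := (Bool.and_eq_true _ _).mpr ⟨h1, all_of_blk b m hn fun j hj => (h j hj).2.1⟩
  c2 := all_of_blk b m hn fun j hj => (h j hj).2.2.1
  c3 := all_of_blk b m hn fun j hj => (h j hj).2.2.2.1
  c4 := h4
  c5 := h5
  c6 i hi := all_of_blk b m hn fun j hj => (h j hj).2.2.2.2 i hi

end Tab
end
end LT
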