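import Cfsg.Agent.Lib.Lie.DatE7
import Cfsg.Agent.Lib.Lie.Blk

set_option maxRecDepth 100000
set_option Elab.async false

namespace LT

theorem tabE7_3_0 : blk 14 3 tabE7.r0 = true := by decide +kernel
theorem tabE7_3_1 : blk 14 3 tabE7.r1 = true := by decide +kernel
theorem tabE7_3_2 : blk 14 3 tabE7.r2 = true := by decide +kernel
theorem tabE7_3_3 : blk 14 3 tabE7.r3 = true := by decide +kernel
theorem tabE7_3_6_0 : blk 14 3 (tabE7.r6 0) = true := by decide +kernel
theorem tabE7_3_6_1 : blk 14 3 (tabE7.r6 1) = true := by decide +kernel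
theorem tabE7_3_6_2 : blk 14 3 (tabE7.r6 2) = true := by decide +kernel
theorem tabE7_3_6_3 : blk 14 3 (tabE7.r6 3) = true := by decide +kernel
theorem tabE7_3_6_4 : blk 14 3 (tabE7.r6 4) = true := by decide +kernel
theorem tabE7_3_6_5 : blk 14 3 (tabE7.r6 5) = true := by decide +kernel
theorem tabE7_3_6_6 : blk 14 3 (tabE7.r6 6) = true := by decide +kernel
theorem tabE7_3 : tabE7.rr 14 3 :=
  ⟨tabE7_3_0, tabE7_3_1, tabE7_3_2, tabE7_3_3, fun i (hi : i < 7) => by
    interval_cases i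
    exacts [tabE7_3_6_0, tabE7_3_6_1, tabE7_3_6_2, tabE7_3_6_3, tabE7_3_6_4, tabE7_3_6_5, tabE7_3_6_6]⟩

theorem tabE7_4_0 : blk 14 4 tabE7.r0 = true := by decide +kernel
theorem tabE7_4_1 : blk 14 4 tabE7.r1 = true := by decide +kernel
theorem tabE7_4_2 : blk 14 4 tabE7.r2 = true := by decide +kernel
theorem tabE7_4_3 : blk 14 4 tabE7.r3 = true := by decide +kernel
theorem tabE7_4_6_0 : blk 14 4 (tabE7.r6 0) = true := by decide +kernel
theorem tabE7_4_6_1 : blk 14 4 (tabE7.r6 1) = true := by decide +kernel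
theorem tabE7_4_6_2 : blk 14 4 (tabE7.r6 2) = true := by decide +kernel
theorem tabE7_4_6_3 : blk 14 4 (tabE7.r6 3) = true := by decide +kernel
theorem tabE7_4_6_4 : blk 14 4 (tabE7.r6 4) = true := by decide +kernel
theorem tabE7_4_6_5 : blk 14 4 (tabE7.r6 5) = true := by decide +kernel
theorem tabE7_4_6_6 : blk 14 4 (tabE7.r6 6) = true := by decide +kernel
theorem tabE7_4 : tabE7.rr 14 4 :=
  ⟨tabE7_4_0, tabE7_4_1, tabE7_4_2, tabE7_4_3, fun i (hi : i < 7) => by
    interval_cases i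
    exacts [tabE7_4_6_0, tabE7_4_6_1, tabE7_4_6_2, tabE7_4_6_3, tabE7_4_6_4, tabE7_4_6_5, tabE7_4_6_6]⟩

theorem tabE7_5_0 : blk 14 5 tabE7.r0 = true := by decide +kernel
theorem tabE7_5_1 : blk 14 5 tabE7.r1 = true := by decide +kernel
theorem tabE7_5_2 : blk 14 5 tabE7.r2 = true := by decide +kernel
theorem tabE7_5_3 : blk 14 5 tabE7.r3 = true := by decide +kernel
theorem tabE7_5_6_0 : blk 14 5 (tabE7.r6 0) = true := by decide +kernel
theorem tabE7_5_6_1 : blk 14 5 (tabE7.r6 1) = true := by decide +kernel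
theorem tabE7_5_6_2 : blk 14 5 (tabE7.r6 2) = true := by decide +kernel
theorem tabE7_5_6_3 : blk 14 5 (tabE7.r6 3) = true := by decide +kernel
theorem tabE7_5_6_4 : blk 14 5 (tabE7.r6 4) = true := by decide +kernel
theorem tabE7_5_6_5 : blk 14 5 (tabE7.r6 5) = true := by decide +kernel
theorem tabE7_5_6_6 : blk 14 5 (tabE7.r6 6) = true := by decide +kernel
theorem tabE7_5 : tabE7.rr 14 5 :=
  ⟨tabE7_5_0, tabE7_5_1, tabE7_5_2, tabE7_5_3, fun i (hi : i < 7) => by
    interval_cases i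
    exacts [tabE7_5_6_0, tabE7_5_6_1, tabE7_5_6_2, tabE7_5_6_3, tabE7_5_6_4, tabE7_5_6_5, tabE7_5_6_6]⟩

end LT
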