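import Cfsg.Agent.Lib.Lie.DatE7
import Cfsg.Agent.Lib.Lie.Blk

set_option maxRecDepth 100000
set_option Elab.async false

namespace LT

theorem tabE7_6_0 : blk 14 6 tabE7.r0 = true := by decide +kernel
theorem tabE7_6_1 : blk 14 6 tabE7.r1 = true := by decide +kernel
theorem tabE7_6_2 : blk 14 6 tabE7.r2 = true := by decide +kernel
theorem tabE7_6_3 : blk 14 6 tabE7.r3 = true := by decide +kernel
theorem tabE7_6_6_0 : blk 14 6 (tabE7.r6 0) = true := by decide +kernel
theorem tabE7_6_6_1 : blk 14 6 (tabE7.r6 1) = true := by decide +kernel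
theorem tabE7_6_6_2 : blk 14 6 (tabE7.r6 2) = true := by decide +kernel
theorem tabE7_6_6_3 : blk 14 6 (tabE7.r6 3) = true := by decide +kernel
theorem tabE7_6_6_4 : blk 14 6 (tabE7.r6 4) = true := by decide +kernel
theorem tabE7_6_6_5 : blk 14 6 (tabE7.r6 5) = true := by decide +kernel
theorem tabE7_6_6_6 : blk 14 6 (tabE7.r6 6) = true := by decide +kernel
theorem tabE7_6 : tabE7.rr 14 6 :=
  ⟨tabE7_6_0, tabE7_6_1, tabE7_6_2, tabE7_6_3, fun i (hi : i < 7) => by
    interval_cases i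
    exacts [tabE7_6_6_0, tabE7_6_6_1, tabE7_6_6_2, tabE7_6_6_3, tabE7_6_6_4, tabE7_6_6_5, tabE7_6_6_6]⟩

theorem tabE7_7_0 : blk 14 7 tabE7.r0 = true := by decide +kernel
theorem tabE7_7_1 : blk 14 7 tabE7.r1 = true := by decide +kernel
theorem tabE7_7_2 : blk 14 7 tabE7.r2 = true := by decide +kernel
theorem tabE7_7_3 : blk 14 7 tabE7.r3 = true := by decide +kernel
theorem tabE7_7_6_0 : blk 14 7 (tabE7.r6 0) = true := by decide +kernel
theorem tabE7_7_6_1 : blk 14 7 (tabE7.r6 1) = true := by decide +kernel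
theorem tabE7_7_6_2 : blk 14 7 (tabE7.r6 2) = true := by decide +kernel
theorem tabE7_7_6_3 : blk 14 7 (tabE7.r6 3) = true := by decide +kernel
theorem tabE7_7_6_4 : blk 14 7 (tabE7.r6 4) = true := by decide +kernel
theorem tabE7_7_6_5 : blk 14 7 (tabE7.r6 5) = true := by decide +kernel
theorem tabE7_7_6_6 : blk 14 7 (tabE7.r6 6) = true := by decide +kernel
theorem tabE7_7 : tabE7.rr 14 7 :=
  ⟨tabE7_7_0, tabE7_7_1, tabE7_7_2, tabE7_7_3, fun i (hi : i < 7) => by
    interval_cases i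
    exacts [tabE7_7_6_0, tabE7_7_6_1, tabE7_7_6_2, tabE7_7_6_3, tabE7_7_6_4, tabE7_7_6_5, tabE7_7_6_6]⟩

theorem tabE7_8_0 : blk 14 8 tabE7.r0 = true := by decide +kernel
theorem tabE7_8_1 : blk 14 8 tabE7.r1 = true := by decide +kernel
theorem tabE7_8_2 : blk 14 8 tabE7.r2 = true := by decide +kernel
theorem tabE7_8_3 : blk 14 8 tabE7.r3 = true := by decide +kernel
theorem tabE7_8_6_0 : blk 14 8 (tabE7.r6 0) = true := by decide +kernel
theorem tabE7_8_6_1 : blk 14 8 (tabE7.r6 1) = true := by decide +kernel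
theorem tabE7_8_6_2 : blk 14 8 (tabE7.r6 2) = true := by decide +kernel
theorem tabE7_8_6_3 : blk 14 8 (tabE7.r6 3) = true := by decide +kernel
theorem tabE7_8_6_4 : blk 14 8 (tabE7.r6 4) = true := by decide +kernel
theorem tabE7_8_6_5 : blk 14 8 (tabE7.r6 5) = true := by decide +kernel
theorem tabE7_8_6_6 : blk 14 8 (tabE7.r6 6) = true := by decide +kernel
theorem tabE7_8 : tabE7.rr 14 8 :=
  ⟨tabE7_8_0, tabE7_8_1, tabE7_8_2, tabE7_8_3, fun i (hi : i < 7) => by
    interval_cases i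
    exacts [tabE7_8_6_0, tabE7_8_6_1, tabE7_8_6_2, tabE7_8_6_3, tabE7_8_6_4, tabE7_8_6_5, tabE7_8_6_6]⟩

end LT
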