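import Cfsg.Agent.Lib.Lie.ChkE7a
import Cfsg.Agent.Lib.Lie.ChkE7b
import Cfsg.Agent.Lib.Lie.ChkE7c

set_option maxRecDepth 100000

namespace LT

theorem tabE7_ok : tabE7.OK :=
  tabE7.ok_of_blk 14 9 rfl (by decide +kernel) (by decide +kernel) (by decide +kernel) fun j hj => by
    interval_cases j
    exacts [tabE7_0, tabE7_1, tabE7_2, tabE7_3, tabE7_4, tabE7_5, tabE7_6, tabE7_7, tabE7_8]

end LT
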