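import Cfsg.Agent.Lib.Lie.DatE8
import Cfsg.Agent.Lib.Lie.Blk

set_option maxRecDepth 100000
set_option Elab.async false

namespace LT

theorem tabE8_4_0 : blk 10 4 tabE8.r0 = true := by decide +kernel
theorem tabE8_4_1 : blk 10 4 tabE8.r1 = true := by decide +kernel
theorem tabE8_4_2 : blk 10 4 tabE8.r2 = true := by decide +kernel
theorem tabE8_4_3 : blk 10 4 tabE8.r3 = true := by decide +kernel
theorem tabE8_4_6_0 : blk 10 4 (tabE8.r6 0) = true := by decide +kernel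
theorem tabE8_4_6_1 : blk 10 4 (tabE8.r6 1) = true := by decide +kernel
theorem tabE8_4_6_2 : blk 10 4 (tabE8.r6 2) = true := by decide +kernel
theorem tabE8_4_6_3 : blk 10 4 (tabE8.r6 3) = true := by decide +kernel
theorem tabE8_4_6_4 : blk 10 4 (tabE8.r6 4) = true := by decide +kernel
theorem tabE8_4_6_5 : blk 10 4 (tabE8.r6 5) = true := by decide +kernel
theorem tabE8_4_6_6 : blk 10 4 (tabE8.r6 6) = true := by decide +kernel
theorem tabE8_4_6_7 : blk 10 4 (tabE8.r6 7) = true := by decide +kernel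
theorem tabE8_4 : tabE8.rr 10 4 :=
  ⟨tabE8_4_0, tabE8_4_1, tabE8_4_2, tabE8_4_3, fun i (hi : i < 8) => by
    interval_cases i
    exacts [tabE8_4_6_0, tabE8_4_6_1, tabE8_4_6_2, tabE8_4_6_3, tabE8_4_6_4, tabE8_4_6_5, tabE8_4_6_6, tabE8_4_6_7]⟩

theorem tabE8_5_0 : blk 10 5 tabE8.r0 = true := by decide +kernel
theorem tabE8_5_1 : blk 10 5 tabE8.r1 = true := by decide +kernel
theorem tabE8_5_2 : blk 10 5 tabE8.r2 = true := by decide +kernel
theorem tabE8_5_3 : blk 10 5 tabE8.r3 = true := by decide +kernel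
theorem tabE8_5_6_0 : blk 10 5 (tabE8.r6 0) = true := by decide +kernel
theorem tabE8_5_6_1 : blk 10 5 (tabE8.r6 1) = true := by decide +kernel
theorem tabE8_5_6_2 : blk 10 5 (tabE8.r6 2) = true := by decide +kernel
theorem tabE8_5_6_3 : blk 10 5 (tabE8.r6 3) = true := by decide +kernel
theorem tabE8_5_6_4 : blk 10 5 (tabE8.r6 4) = true := by decide +kernel
theorem tabE8_5_6_5 : blk 10 5 (tabE8.r6 5) = true := by decide +kernel
theorem tabE8_5_6_6 : blk 10 5 (tabE8.r6 6) = true := by decide +kernel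
theorem tabE8_5_6_7 : blk 10 5 (tabE8.r6 7) = true := by decide +kernel
theorem tabE8_5 : tabE8.rr 10 5 :=
  ⟨tabE8_5_0, tabE8_5_1, tabE8_5_2, tabE8_5_3, fun i (hi : i < 8) => by
    interval_cases i
    exacts [tabE8_5_6_0, tabE8_5_6_1, tabE8_5_6_2, tabE8_5_6_3, tabE8_5_6_4, tabE8_5_6_5, tabE8_5_6_6, tabE8_5_6_7]⟩

theorem tabE8_6_0 : blk 10 6 tabE8.r0 = true := by decide +kernel
theorem tabE8_6_1 : blk 10 6 tabE8.r1 = true := by decide +kernel
theorem tabE8_6_2 : blk 10 6 tabE8.r2 = true := by decide +kernel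
theorem tabE8_6_3 : blk 10 6 tabE8.r3 = true := by decide +kernel
theorem tabE8_6_6_0 : blk 10 6 (tabE8.r6 0) = true := by decide +kernel
theorem tabE8_6_6_1 : blk 10 6 (tabE8.r6 1) = true := by decide +kernel
theorem tabE8_6_6_2 : blk 10 6 (tabE8.r6 2) = true := by decide +kernel
theorem tabE8_6_6_3 : blk 10 6 (tabE8.r6 3) = true := by decide +kernel
theorem tabE8_6_6_4 : blk 10 6 (tabE8.r6 4) = true := by decide +kernel
theorem tabE8_6_6_5 : blk 10 6 (tabE8.r6 5) = true := by decide +kernel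
theorem tabE8_6_6_6 : blk 10 6 (tabE8.r6 6) = true := by decide +kernel
theorem tabE8_6_6_7 : blk 10 6 (tabE8.r6 7) = true := by decide +kernel
theorem tabE8_6 : tabE8.rr 10 6 :=
  ⟨tabE8_6_0, tabE8_6_1, tabE8_6_2, tabE8_6_3, fun i (hi : i < 8) => by
    interval_cases i
    exacts [tabE8_6_6_0, tabE8_6_6_1, tabE8_6_6_2, tabE8_6_6_3, tabE8_6_6_4, tabE8_6_6_5, tabE8_6_6_6, tabE8_6_6_7]⟩

theorem tabE8_7_0 : blk 10 7 tabE8.r0 = true := by decide +kernel
theorem tabE8_7_1 : blk 10 7 tabE8.r1 = true := by decide +kernel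
theorem tabE8_7_2 : blk 10 7 tabE8.r2 = true := by decide +kernel
theorem tabE8_7_3 : blk 10 7 tabE8.r3 = true := by decide +kernel
theorem tabE8_7_6_0 : blk 10 7 (tabE8.r6 0) = true := by decide +kernel
theorem tabE8_7_6_1 : blk 10 7 (tabE8.r6 1) = true := by decide +kernel
theorem tabE8_7_6_2 : blk 10 7 (tabE8.r6 2) = true := by decide +kernel
theorem tabE8_7_6_3 : blk 10 7 (tabE8.r6 3) = true := by decide +kernel
theorem tabE8_7_6_4 : blk 10 7 (tabE8.r6 4) = true := by decide +kernel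
theorem tabE8_7_6_5 : blk 10 7 (tabE8.r6 5) = true := by decide +kernel
theorem tabE8_7_6_6 : blk 10 7 (tabE8.r6 6) = true := by decide +kernel
theorem tabE8_7_6_7 : blk 10 7 (tabE8.r6 7) = true := by decide +kernel
theorem tabE8_7 : tabE8.rr 10 7 :=
  ⟨tabE8_7_0, tabE8_7_1, tabE8_7_2, tabE8_7_3, fun i (hi : i < 8) => by
    interval_cases i
    exacts [tabE8_7_6_0, tabE8_7_6_1, tabE8_7_6_2, tabE8_7_6_3, tabE8_7_6_4, tabE8_7_6_5, tabE8_7_6_6, tabE8_7_6_7]⟩

end LT
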