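import Cfsg.Agent.Lib.Lie.DatE8
import Cfsg.Agent.Lib.Lie.Blk

set_option maxRecDepth 100000
set_option Elab.async false

namespace LT

theorem tabE8_8_0 : blk 10 8 tabE8.r0 = true := by decide +kernel
theorem tabE8_8_1 : blk 10 8 tabE8.r1 = true := by decide +kernel
theorem tabE8_8_2 : blk 10 8 tabE8.r2 = true := by decide +kernel
theorem tabE8_8_3 : blk 10 8 tabE8.r3 = true := by decide +kernel
theorem tabE8_8_6_0 : blk 10 8 (tabE8.r6 0) = true := by decide +kernel
theorem tabE8_8_6_1 : blk 10 8 (tabE8.r6 1) = true := by decide +kernel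
theorem tabE8_8_6_2 : blk 10 8 (tabE8.r6 2) = true := by decide +kernel
theorem tabE8_8_6_3 : blk 10 8 (tabE8.r6 3) = true := by decide +kernel
theorem tabE8_8_6_4 : blk 10 8 (tabE8.r6 4) = true := by decide +kernel
theorem tabE8_8_6_5 : blk 10 8 (tabE8.r6 5) = true := by decide +kernel
theorem tabE8_8_6_6 : blk 10 8 (tabE8.r6 6) = true := by decide +kernel
theorem tabE8_8_6_7 : blk 10 8 (tabE8.r6 7) = true := by decide +kernel
theorem tabE8_8 : tabE8.rr 10 8 :=
  ⟨tabE8_8_0, tabE8_8_1, tabE8_8_2, tabE8_8_3, fun i (hi : i < 8) => by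
    interval_cases i
    exacts [tabE8_8_6_0, tabE8_8_6_1, tabE8_8_6_2, tabE8_8_6_3, tabE8_8_6_4, tabE8_8_6_5, tabE8_8_6_6, tabE8_8_6_7]⟩

theorem tabE8_9_0 : blk 10 9 tabE8.r0 = true := by decide +kernel
theorem tabE8_9_1 : blk 10 9 tabE8.r1 = true := by decide +kernel
theorem tabE8_9_2 : blk 10 9 tabE8.r2 = true := by decide +kernel
theorem tabE8_9_3 : blk 10 9 tabE8.r3 = true := by decide +kernel
theorem tabE8_9_6_0 : blk 10 9 (tabE8.r6 0) = true := by decide +kernel
theorem tabE8_9_6_1 : blk 10 9 (tabE8.r6 1) = true := by decide +kernel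
theorem tabE8_9_6_2 : blk 10 9 (tabE8.r6 2) = true := by decide +kernel
theorem tabE8_9_6_3 : blk 10 9 (tabE8.r6 3) = true := by decide +kernel
theorem tabE8_9_6_4 : blk 10 9 (tabE8.r6 4) = true := by decide +kernel
theorem tabE8_9_6_5 : blk 10 9 (tabE8.r6 5) = true := by decide +kernel
theorem tabE8_9_6_6 : blk 10 9 (tabE8.r6 6) = true := by decide +kernel
theorem tabE8_9_6_7 : blk 10 9 (tabE8.r6 7) = true := by decide +kernel
theorem tabE8_9 : tabE8.rr 10 9 :=
  ⟨tabE8_9_0, tabE8_9_1, tabE8_9_2, tabE8_9_3, fun i (hi : i < 8) => by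
    interval_cases i
    exacts [tabE8_9_6_0, tabE8_9_6_1, tabE8_9_6_2, tabE8_9_6_3, tabE8_9_6_4, tabE8_9_6_5, tabE8_9_6_6, tabE8_9_6_7]⟩

theorem tabE8_10_0 : blk 10 10 tabE8.r0 = true := by decide +kernel
theorem tabE8_10_1 : blk 10 10 tabE8.r1 = true := by decide +kernel
theorem tabE8_10_2 : blk 10 10 tabE8.r2 = true := by decide +kernel
theorem tabE8_10_3 : blk 10 10 tabE8.r3 = true := by decide +kernel
theorem tabE8_10_6_0 : blk 10 10 (tabE8.r6 0) = true := by decide +kernel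
theorem tabE8_10_6_1 : blk 10 10 (tabE8.r6 1) = true := by decide +kernel
theorem tabE8_10_6_2 : blk 10 10 (tabE8.r6 2) = true := by decide +kernel
theorem tabE8_10_6_3 : blk 10 10 (tabE8.r6 3) = true := by decide +kernel
theorem tabE8_10_6_4 : blk 10 10 (tabE8.r6 4) = true := by decide +kernel
theorem tabE8_10_6_5 : blk 10 10 (tabE8.r6 5) = true := by decide +kernel
theorem tabE8_10_6_6 : blk 10 10 (tabE8.r6 6) = true := by decide +kernel
theorem tabE8_10_6_7 : blk 10 10 (tabE8.r6 7) = true := by decide +kernel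
theorem tabE8_10 : tabE8.rr 10 10 :=
  ⟨tabE8_10_0, tabE8_10_1, tabE8_10_2, tabE8_10_3, fun i (hi : i < 8) => by
    interval_cases i
    exacts [tabE8_10_6_0, tabE8_10_6_1, tabE8_10_6_2, tabE8_10_6_3, tabE8_10_6_4, tabE8_10_6_5, tabE8_10_6_6, tabE8_10_6_7]⟩

theorem tabE8_11_0 : blk 10 11 tabE8.r0 = true := by decide +kernel
theorem tabE8_11_1 : blk 10 11 tabE8.r1 = true := by decide +kernel
theorem tabE8_11_2 : blk 10 11 tabE8.r2 = true := by decide +kernel
theorem tabE8_11_3 : blk 10 11 tabE8.r3 = true := by decide +kernel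
theorem tabE8_11_6_0 : blk 10 11 (tabE8.r6 0) = true := by decide +kernel
theorem tabE8_11_6_1 : blk 10 11 (tabE8.r6 1) = true := by decide +kernel
theorem tabE8_11_6_2 : blk 10 11 (tabE8.r6 2) = true := by decide +kernel
theorem tabE8_11_6_3 : blk 10 11 (tabE8.r6 3) = true := by decide +kernel
theorem tabE8_11_6_4 : blk 10 11 (tabE8.r6 4) = true := by decide +kernel
theorem tabE8_11_6_5 : blk 10 11 (tabE8.r6 5) = true := by decide +kernel
theorem tabE8_11_6_6 : blk 10 11 (tabE8.r6 6) = true := by decide +kernel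
theorem tabE8_11_6_7 : blk 10 11 (tabE8.r6 7) = true := by decide +kernel
theorem tabE8_11 : tabE8.rr 10 11 :=
  ⟨tabE8_11_0, tabE8_11_1, tabE8_11_2, tabE8_11_3, fun i (hi : i < 8) => by
    interval_cases i
    exacts [tabE8_11_6_0, tabE8_11_6_1, tabE8_11_6_2, tabE8_11_6_3, tabE8_11_6_4, tabE8_11_6_5, tabE8_11_6_6, tabE8_11_6_7]⟩

end LT
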