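import Cfsg.Agent.Lib.Lie.DatE8
import Cfsg.Agent.Lib.Lie.Blk

set_option maxRecDepth 100000
set_option Elab.async false

namespace LT

theorem tabE8_12_0 : blk 10 12 tabE8.r0 = true := by decide +kernel
theorem tabE8_12_1 : blk 10 12 tabE8.r1 = true := by decide +kernel
theorem tabE8_12_2 : blk 10 12 tabE8.r2 = true := by decide +kernel
theorem tabE8_12_3 : blk 10 12 tabE8.r3 = true := by decide +kernel
theorem tabE8_12_6_0 : blk 10 12 (tabE8.r6 0) = true := by decide +kernel
theorem tabE8_12_6_1 : blk 10 12 (tabE8.r6 1) = true := by decide +kernel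
theorem tabE8_12_6_2 : blk 10 12 (tabE8.r6 2) = true := by decide +kernel
theorem tabE8_12_6_3 : blk 10 12 (tabE8.r6 3) = true := by decide +kernel
theorem tabE8_12_6_4 : blk 10 12 (tabE8.r6 4) = true := by decide +kernel
theorem tabE8_12_6_5 : blk 10 12 (tabE8.r6 5) = true := by decide +kernel
theorem tabE8_12_6_6 : blk 10 12 (tabE8.r6 6) = true := by decide +kernel
theorem tabE8_12_6_7 : blk 10 12 (tabE8.r6 7) = true := by decide +kernel
theorem tabE8_12 : tabE8.rr 10 12 :=
  ⟨tabE8_12_0, tabE8_12_1, tabE8_12_2, tabE8_12_3, fun i (hi : i < 8) => by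
    interval_cases i
    exacts [tabE8_12_6_0, tabE8_12_6_1, tabE8_12_6_2, tabE8_12_6_3, tabE8_12_6_4, tabE8_12_6_5, tabE8_12_6_6, tabE8_12_6_7]⟩

theorem tabE8_13_0 : blk 10 13 tabE8.r0 = true := by decide +kernel
theorem tabE8_13_1 : blk 10 13 tabE8.r1 = true := by decide +kernel
theorem tabE8_13_2 : blk 10 13 tabE8.r2 = true := by decide +kernel
theorem tabE8_13_3 : blk 10 13 tabE8.r3 = true := by decide +kernel
theorem tabE8_13_6_0 : blk 10 13 (tabE8.r6 0) = true := by decide +kernel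
theorem tabE8_13_6_1 : blk 10 13 (tabE8.r6 1) = true := by decide +kernel
theorem tabE8_13_6_2 : blk 10 13 (tabE8.r6 2) = true := by decide +kernel
theorem tabE8_13_6_3 : blk 10 13 (tabE8.r6 3) = true := by decide +kernel
theorem tabE8_13_6_4 : blk 10 13 (tabE8.r6 4) = true := by decide +kernel
theorem tabE8_13_6_5 : blk 10 13 (tabE8.r6 5) = true := by decide +kernel
theorem tabE8_13_6_6 : blk 10 13 (tabE8.r6 6) = true := by decide +kernel
theorem tabE8_13_6_7 : blk 10 13 (tabE8.r6 7) = true := by decide +kernel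
theorem tabE8_13 : tabE8.rr 10 13 :=
  ⟨tabE8_13_0, tabE8_13_1, tabE8_13_2, tabE8_13_3, fun i (hi : i < 8) => by
    interval_cases i
    exacts [tabE8_13_6_0, tabE8_13_6_1, tabE8_13_6_2, tabE8_13_6_3, tabE8_13_6_4, tabE8_13_6_5, tabE8_13_6_6, tabE8_13_6_7]⟩

theorem tabE8_14_0 : blk 10 14 tabE8.r0 = true := by decide +kernel
theorem tabE8_14_1 : blk 10 14 tabE8.r1 = true := by decide +kernel
theorem tabE8_14_2 : blk 10 14 tabE8.r2 = true := by decide +kernel
theorem tabE8_14_3 : blk 10 14 tabE8.r3 = true := by decide +kernel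
theorem tabE8_14_6_0 : blk 10 14 (tabE8.r6 0) = true := by decide +kernel
theorem tabE8_14_6_1 : blk 10 14 (tabE8.r6 1) = true := by decide +kernel
theorem tabE8_14_6_2 : blk 10 14 (tabE8.r6 2) = true := by decide +kernel
theorem tabE8_14_6_3 : blk 10 14 (tabE8.r6 3) = true := by decide +kernel
theorem tabE8_14_6_4 : blk 10 14 (tabE8.r6 4) = true := by decide +kernel
theorem tabE8_14_6_5 : blk 10 14 (tabE8.r6 5) = true := by decide +kernel
theorem tabE8_14_6_6 : blk 10 14 (tabE8.r6 6) = true := by decide +kernel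
theorem tabE8_14_6_7 : blk 10 14 (tabE8.r6 7) = true := by decide +kernel
theorem tabE8_14 : tabE8.rr 10 14 :=
  ⟨tabE8_14_0, tabE8_14_1, tabE8_14_2, tabE8_14_3, fun i (hi : i < 8) => by
    interval_cases i
    exacts [tabE8_14_6_0, tabE8_14_6_1, tabE8_14_6_2, tabE8_14_6_3, tabE8_14_6_4, tabE8_14_6_5, tabE8_14_6_6, tabE8_14_6_7]⟩

theorem tabE8_15_0 : blk 10 15 tabE8.r0 = true := by decide +kernel
theorem tabE8_15_1 : blk 10 15 tabE8.r1 = true := by decide +kernel
theorem tabE8_15_2 : blk 10 15 tabE8.r2 = true := by decide +kernel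
theorem tabE8_15_3 : blk 10 15 tabE8.r3 = true := by decide +kernel
theorem tabE8_15_6_0 : blk 10 15 (tabE8.r6 0) = true := by decide +kernel
theorem tabE8_15_6_1 : blk 10 15 (tabE8.r6 1) = true := by decide +kernel
theorem tabE8_15_6_2 : blk 10 15 (tabE8.r6 2) = true := by decide +kernel
theorem tabE8_15_6_3 : blk 10 15 (tabE8.r6 3) = true := by decide +kernel
theorem tabE8_15_6_4 : blk 10 15 (tabE8.r6 4) = true := by decide +kernel
theorem tabE8_15_6_5 : blk 10 15 (tabE8.r6 5) = true := by decide +kernel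
theorem tabE8_15_6_6 : blk 10 15 (tabE8.r6 6) = true := by decide +kernel
theorem tabE8_15_6_7 : blk 10 15 (tabE8.r6 7) = true := by decide +kernel
theorem tabE8_15 : tabE8.rr 10 15 :=
  ⟨tabE8_15_0, tabE8_15_1, tabE8_15_2, tabE8_15_3, fun i (hi : i < 8) => by
    interval_cases i
    exacts [tabE8_15_6_0, tabE8_15_6_1, tabE8_15_6_2, tabE8_15_6_3, tabE8_15_6_4, tabE8_15_6_5, tabE8_15_6_6, tabE8_15_6_7]⟩

end LT
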