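import Cfsg.Agent.Lib.Lie.DatE8
import Cfsg.Agent.Lib.Lie.Blk

set_option maxRecDepth 100000
set_option Elab.async false

namespace LT

theorem tabE8_16_0 : blk 10 16 tabE8.r0 = true := by decide +kernel
theorem tabE8_16_1 : blk 10 16 tabE8.r1 = true := by decide +kernel
theorem tabE8_16_2 : blk 10 16 tabE8.r2 = true := by decide +kernel
theorem tabE8_16_3 : blk 10 16 tabE8.r3 = true := by decide +kernel
theorem tabE8_16_6_0 : blk 10 16 (tabE8.r6 0) = true := by decide +kernel
theorem tabE8_16_6_1 : blk 10 16 (tabE8.r6 1) = true := by decide +kernel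
theorem tabE8_16_6_2 : blk 10 16 (tabE8.r6 2) = true := by decide +kernel
theorem tabE8_16_6_3 : blk 10 16 (tabE8.r6 3) = true := by decide +kernel
theorem tabE8_16_6_4 : blk 10 16 (tabE8.r6 4) = true := by decide +kernel
theorem tabE8_16_6_5 : blk 10 16 (tabE8.r6 5) = true := by decide +kernel
theorem tabE8_16_6_6 : blk 10 16 (tabE8.r6 6) = true := by decide +kernel
theorem tabE8_16_6_7 : blk 10 16 (tabE8.r6 7) = true := by decide +kernel
theorem tabE8_16 : tabE8.rr 10 16 :=
  ⟨tabE8_16_0, tabE8_16_1, tabE8_16_2, tabE8_16_3, fun i (hi : i < 8) => by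
    interval_cases i
    exacts [tabE8_16_6_0, tabE8_16_6_1, tabE8_16_6_2, tabE8_16_6_3, tabE8_16_6_4, tabE8_16_6_5, tabE8_16_6_6, tabE8_16_6_7]⟩

theorem tabE8_17_0 : blk 10 17 tabE8.r0 = true := by decide +kernel
theorem tabE8_17_1 : blk 10 17 tabE8.r1 = true := by decide +kernel
theorem tabE8_17_2 : blk 10 17 tabE8.r2 = true := by decide +kernel
theorem tabE8_17_3 : blk 10 17 tabE8.r3 = true := by decide +kernel
theorem tabE8_17_6_0 : blk 10 17 (tabE8.r6 0) = true := by decide +kernel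
theorem tabE8_17_6_1 : blk 10 17 (tabE8.r6 1) = true := by decide +kernel
theorem tabE8_17_6_2 : blk 10 17 (tabE8.r6 2) = true := by decide +kernel
theorem tabE8_17_6_3 : blk 10 17 (tabE8.r6 3) = true := by decide +kernel
theorem tabE8_17_6_4 : blk 10 17 (tabE8.r6 4) = true := by decide +kernel
theorem tabE8_17_6_5 : blk 10 17 (tabE8.r6 5) = true := by decide +kernel
theorem tabE8_17_6_6 : blk 10 17 (tabE8.r6 6) = true := by decide +kernel
theorem tabE8_17_6_7 : blk 10 17 (tabE8.r6 7) = true := by decide +kernel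
theorem tabE8_17 : tabE8.rr 10 17 :=
  ⟨tabE8_17_0, tabE8_17_1, tabE8_17_2, tabE8_17_3, fun i (hi : i < 8) => by
    interval_cases i
    exacts [tabE8_17_6_0, tabE8_17_6_1, tabE8_17_6_2, tabE8_17_6_3, tabE8_17_6_4, tabE8_17_6_5, tabE8_17_6_6, tabE8_17_6_7]⟩

theorem tabE8_18_0 : blk 10 18 tabE8.r0 = true := by decide +kernel
theorem tabE8_18_1 : blk 10 18 tabE8.r1 = true := by decide +kernel
theorem tabE8_18_2 : blk 10 18 tabE8.r2 = true := by decide +kernel
theorem tabE8_18_3 : blk 10 18 tabE8.r3 = true := by decide +kernel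
theorem tabE8_18_6_0 : blk 10 18 (tabE8.r6 0) = true := by decide +kernel
theorem tabE8_18_6_1 : blk 10 18 (tabE8.r6 1) = true := by decide +kernel
theorem tabE8_18_6_2 : blk 10 18 (tabE8.r6 2) = true := by decide +kernel
theorem tabE8_18_6_3 : blk 10 18 (tabE8.r6 3) = true := by decide +kernel
theorem tabE8_18_6_4 : blk 10 18 (tabE8.r6 4) = true := by decide +kernel
theorem tabE8_18_6_5 : blk 10 18 (tabE8.r6 5) = true := by decide +kernel
theorem tabE8_18_6_6 : blk 10 18 (tabE8.r6 6) = true := by decide +kernel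
theorem tabE8_18_6_7 : blk 10 18 (tabE8.r6 7) = true := by decide +kernel
theorem tabE8_18 : tabE8.rr 10 18 :=
  ⟨tabE8_18_0, tabE8_18_1, tabE8_18_2, tabE8_18_3, fun i (hi : i < 8) => by
    interval_cases i
    exacts [tabE8_18_6_0, tabE8_18_6_1, tabE8_18_6_2, tabE8_18_6_3, tabE8_18_6_4, tabE8_18_6_5, tabE8_18_6_6, tabE8_18_6_7]⟩

theorem tabE8_19_0 : blk 10 19 tabE8.r0 = true := by decide +kernel
theorem tabE8_19_1 : blk 10 19 tabE8.r1 = true := by decide +kernel
theorem tabE8_19_2 : blk 10 19 tabE8.r2 = true := by decide +kernel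
theorem tabE8_19_3 : blk 10 19 tabE8.r3 = true := by decide +kernel
theorem tabE8_19_6_0 : blk 10 19 (tabE8.r6 0) = true := by decide +kernel
theorem tabE8_19_6_1 : blk 10 19 (tabE8.r6 1) = true := by decide +kernel
theorem tabE8_19_6_2 : blk 10 19 (tabE8.r6 2) = true := by decide +kernel
theorem tabE8_19_6_3 : blk 10 19 (tabE8.r6 3) = true := by decide +kernel
theorem tabE8_19_6_4 : blk 10 19 (tabE8.r6 4) = true := by decide +kernel
theorem tabE8_19_6_5 : blk 10 19 (tabE8.r6 5) = true := by decide +kernel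
theorem tabE8_19_6_6 : blk 10 19 (tabE8.r6 6) = true := by decide +kernel
theorem tabE8_19_6_7 : blk 10 19 (tabE8.r6 7) = true := by decide +kernel
theorem tabE8_19 : tabE8.rr 10 19 :=
  ⟨tabE8_19_0, tabE8_19_1, tabE8_19_2, tabE8_19_3, fun i (hi : i < 8) => by
    interval_cases i
    exacts [tabE8_19_6_0, tabE8_19_6_1, tabE8_19_6_2, tabE8_19_6_3, tabE8_19_6_4, tabE8_19_6_5, tabE8_19_6_6, tabE8_19_6_7]⟩

end LT
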