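import Cfsg.Agent.Lib.Lie.DatE8
import Cfsg.Agent.Lib.Lie.Blk

set_option maxRecDepth 100000
set_option Elab.async false

namespace LT

theorem tabE8_20_0 : blk 10 20 tabE8.r0 = true := by decide +kernel
theorem tabE8_20_1 : blk 10 20 tabE8.r1 = true := by decide +kernel
theorem tabE8_20_2 : blk 10 20 tabE8.r2 = true := by decide +kernel
theorem tabE8_20_3 : blk 10 20 tabE8.r3 = true := by decide +kernel
theorem tabE8_20_6_0 : blk 10 20 (tabE8.r6 0) = true := by decide +kernel
theorem tabE8_20_6_1 : blk 10 20 (tabE8.r6 1) = true := by decide +kernel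
theorem tabE8_20_6_2 : blk 10 20 (tabE8.r6 2) = true := by decide +kernel
theorem tabE8_20_6_3 : blk 10 20 (tabE8.r6 3) = true := by decide +kernel
theorem tabE8_20_6_4 : blk 10 20 (tabE8.r6 4) = true := by decide +kernel
theorem tabE8_20_6_5 : blk 10 20 (tabE8.r6 5) = true := by decide +kernel
theorem tabE8_20_6_6 : blk 10 20 (tabE8.r6 6) = true := by decide +kernel
theorem tabE8_20_6_7 : blk 10 20 (tabE8.r6 7) = true := by decide +kernel
theorem tabE8_20 : tabE8.rr 10 20 :=
  ⟨tabE8_20_0, tabE8_20_1, tabE8_20_2, tabE8_20_3, fun i (hi : i < 8) => by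
    interval_cases i
    exacts [tabE8_20_6_0, tabE8_20_6_1, tabE8_20_6_2, tabE8_20_6_3, tabE8_20_6_4, tabE8_20_6_5, tabE8_20_6_6, tabE8_20_6_7]⟩

theorem tabE8_21_0 : blk 10 21 tabE8.r0 = true := by decide +kernel
theorem tabE8_21_1 : blk 10 21 tabE8.r1 = true := by decide +kernel
theorem tabE8_21_2 : blk 10 21 tabE8.r2 = true := by decide +kernel
theorem tabE8_21_3 : blk 10 21 tabE8.r3 = true := by decide +kernel
theorem tabE8_21_6_0 : blk 10 21 (tabE8.r6 0) = true := by decide +kernel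
theorem tabE8_21_6_1 : blk 10 21 (tabE8.r6 1) = true := by decide +kernel
theorem tabE8_21_6_2 : blk 10 21 (tabE8.r6 2) = true := by decide +kernel
theorem tabE8_21_6_3 : blk 10 21 (tabE8.r6 3) = true := by decide +kernel
theorem tabE8_21_6_4 : blk 10 21 (tabE8.r6 4) = true := by decide +kernel
theorem tabE8_21_6_5 : blk 10 21 (tabE8.r6 5) = true := by decide +kernel
theorem tabE8_21_6_6 : blk 10 21 (tabE8.r6 6) = true := by decide +kernel
theorem tabE8_21_6_7 : blk 10 21 (tabE8.r6 7) = true := by decide +kernel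
theorem tabE8_21 : tabE8.rr 10 21 :=
  ⟨tabE8_21_0, tabE8_21_1, tabE8_21_2, tabE8_21_3, fun i (hi : i < 8) => by
    interval_cases i
    exacts [tabE8_21_6_0, tabE8_21_6_1, tabE8_21_6_2, tabE8_21_6_3, tabE8_21_6_4, tabE8_21_6_5, tabE8_21_6_6, tabE8_21_6_7]⟩

theorem tabE8_22_0 : blk 10 22 tabE8.r0 = true := by decide +kernel
theorem tabE8_22_1 : blk 10 22 tabE8.r1 = true := by decide +kernel
theorem tabE8_22_2 : blk 10 22 tabE8.r2 = true := by decide +kernel
theorem tabE8_22_3 : blk 10 22 tabE8.r3 = true := by decide +kernel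
theorem tabE8_22_6_0 : blk 10 22 (tabE8.r6 0) = true := by decide +kernel
theorem tabE8_22_6_1 : blk 10 22 (tabE8.r6 1) = true := by decide +kernel
theorem tabE8_22_6_2 : blk 10 22 (tabE8.r6 2) = true := by decide +kernel
theorem tabE8_22_6_3 : blk 10 22 (tabE8.r6 3) = true := by decide +kernel
theorem tabE8_22_6_4 : blk 10 22 (tabE8.r6 4) = true := by decide +kernel
theorem tabE8_22_6_5 : blk 10 22 (tabE8.r6 5) = true := by decide +kernel
theorem tabE8_22_6_6 : blk 10 22 (tabE8.r6 6) = true := by decide +kernel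
theorem tabE8_22_6_7 : blk 10 22 (tabE8.r6 7) = true := by decide +kernel
theorem tabE8_22 : tabE8.rr 10 22 :=
  ⟨tabE8_22_0, tabE8_22_1, tabE8_22_2, tabE8_22_3, fun i (hi : i < 8) => by
    interval_cases i
    exacts [tabE8_22_6_0, tabE8_22_6_1, tabE8_22_6_2, tabE8_22_6_3, tabE8_22_6_4, tabE8_22_6_5, tabE8_22_6_6, tabE8_22_6_7]⟩

theorem tabE8_23_0 : blk 10 23 tabE8.r0 = true := by decide +kernel
theorem tabE8_23_1 : blk 10 23 tabE8.r1 = true := by decide +kernel
theorem tabE8_23_2 : blk 10 23 tabE8.r2 = true := by decide +kernel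
theorem tabE8_23_3 : blk 10 23 tabE8.r3 = true := by decide +kernel
theorem tabE8_23_6_0 : blk 10 23 (tabE8.r6 0) = true := by decide +kernel
theorem tabE8_23_6_1 : blk 10 23 (tabE8.r6 1) = true := by decide +kernel
theorem tabE8_23_6_2 : blk 10 23 (tabE8.r6 2) = true := by decide +kernel
theorem tabE8_23_6_3 : blk 10 23 (tabE8.r6 3) = true := by decide +kernel
theorem tabE8_23_6_4 : blk 10 23 (tabE8.r6 4) = true := by decide +kernel
theorem tabE8_23_6_5 : blk 10 23 (tabE8.r6 5) = true := by decide +kernel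
theorem tabE8_23_6_6 : blk 10 23 (tabE8.r6 6) = true := by decide +kernel
theorem tabE8_23_6_7 : blk 10 23 (tabE8.r6 7) = true := by decide +kernel
theorem tabE8_23 : tabE8.rr 10 23 :=
  ⟨tabE8_23_0, tabE8_23_1, tabE8_23_2, tabE8_23_3, fun i (hi : i < 8) => by
    interval_cases i
    exacts [tabE8_23_6_0, tabE8_23_6_1, tabE8_23_6_2, tabE8_23_6_3, tabE8_23_6_4, tabE8_23_6_5, tabE8_23_6_6, tabE8_23_6_7]⟩

end LT
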