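import Cfsg.Agent.Lib.Lie.ChkE8a
import Cfsg.Agent.Lib.Lie.ChkE8b
import Cfsg.Agent.Lib.Lie.ChkE8c
import Cfsg.Agent.Lib.Lie.ChkE8d
import Cfsg.Agent.Lib.Lie.ChkE8e
import Cfsg.Agent.Lib.Lie.ChkE8f

set_option maxRecDepth 100000

namespace LT

theorem tabE8_ok : tabE8.OK :=
  tabE8.ok_of_blk 10 24 rfl (by decide +kernel) (by decide +kernel) (by decide +kernel) fun j hj => by
    interval_cases j
    exacts [tabE8_0, tabE8_1, tabE8_2, tabE8_3, tabE8_4, tabE8_5, tabE8_6, tabE8_7, tabE8_8, tabE8_9, tabE8_10, tabE8_11, tabE8_12, tabE8_13, tabE8_14, tabE8_15, tabE8_16, tabE8_17, tabE8_18, tabE8_19, tabE8_20, tabE8_21, tabE8_22, tabE8_23]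

end LT
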