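import Cfsg.Agent.Lib.Lie.ChevTw
import Cfsg.Agent.Lib.Lie.TabD4
import Cfsg.Agent.Lib.Lie.TabE6
import Cfsg.Prelude.Def_LieTypeChar

/-!
# `PropA` and `PropB` for the twisted groups of types `²E₆` and `³D₄`
-/

set_option autoImplicit false
set_option maxRecDepth 100000

namespace LT

open Cfsg Cfsg.Lie

/-- The symmetry of the diagram of type `E₆`. -/
def πE6 : Equiv.Perm (Fin chevE6.rank) :=
  (⟨![5, 1, 4, 3, 2, 0], ![5, 1, 4, 3, 2, 0], by decide, by decide⟩ : Equiv.Perm (Fin 6))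

/-- Its orbits. -/
def orbE6 : List (List (Fin chevE6.rank)) := ([[1], [3], [0, 5], [2, 4]] : List (List (Fin 6)))

/-- A symmetry of order three of the diagram of type `D₄`. -/
def πD4 : Equiv.Perm (Fin chevD4.rank) :=
  (⟨![2, 1, 3, 0], ![3, 1, 0, 2], by decide, by decide⟩ : Equiv.Perm (Fin 4))

/-- Its orbits. -/
def orbD4 : List (List (Fin chevD4.rank)) := ([[1], [0, 2, 3]] : List (List (Fin 4)))

/-- The action on the roots. -/
def ρE6 : Equiv.Perm (Fin 72) := permOfTab 72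
  29276844748229341191405720952282101597032501385129086604950628646966980078418310591469299495646297338943124870273030242974048336867639996714054718619776
  29276844748229341191405720952282101597032501385129086604950628646966980078418310591469299495646297338943124870273030242974048336867639996714054718619776
  (by decide +kernel)

/-- The action on the roots. -/
def ρD4 : Equiv.Perm (Fin 24) := permOfTab 24 67734528851472965847314813109947412065500981723264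
  67735058483198009877919787426800656700666642743424 (by decide +kernel)

/-- Signs given by the bits of `a`. -/
def sgnOf (a r : ℕ) : ℤ := if a >>> r % 2 = 0 then 1 else -1

theorem sgnOf_sq (a r : ℕ) : sgnOf a r * sgnOf a r = 1 := by
  unfold sgnOf; split_ifs <;> rfl

instance decOrbs {ι R : Type*} [Fintype ι] [DecidableEq ι] [Fintype R] [DecidableEq R] (Φ : RootSys ι R)
    (π : Equiv.Perm ι) (L : List (List ι)) : Decidable (Chev.Aut.Orbs Φ π L) := by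
  unfold Chev.Aut.Orbs RootSys.Orth; infer_instance

theorem e6Words_iff {K : Type*} [Field K] {q : ℕ} (h : ∀ t : K, t ^ q ^ 2 = t) (w : List (ℕ × K)) :
    w ∈ e6Words K q ↔ ∃ l ∈ ([[1], [3], [0, 5], [2, 4]] : List (List (Fin 6))),
      ∃ c ∈ ([![56, 46, 42, 39, 37, 36], ![15, 25, 29, 32, 34, 35]] : List (Fin 6 → ℕ)),
      ∃ t : Fin 6 → K, (∀ j ∈ l, t (πE6 j) = t j ^ q) ∧ w = l.map fun j => (c j, t j) := by
  have h' : ∀ t : K, (t ^ q) ^ q = t := fun t => by rw [← pow_mul, ← sq, h]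
  simp only [e6Words, Set.mem_union, Set.mem_ofPred_eq, List.mem_cons, List.not_mem_nil, or_false,
    exists_eq_or_imp, exists_eq_left, forall_eq_or_imp, forall_eq, List.map_cons, List.map_nil]
  constructor
  · rintro (⟨t, ht, rfl | rfl | rfl | rfl⟩ | ⟨t, rfl | rfl | rfl | rfl⟩)
    · exact .inl (.inl ⟨fun _ => t, ht.symm, rfl⟩)
    · exact .inl (.inr ⟨fun _ => t, ht.symm, rfl⟩)
    · exact .inr (.inl (.inl ⟨fun _ => t, ht.symm, rfl⟩))
    · exact .inr (.inl (.inr ⟨fun _ => t, ht.symm, rfl⟩))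
    · exact .inr (.inr (.inl (.inl ⟨![t, t, t, t, t, t ^ q], ⟨rfl, (h' t).symm⟩, rfl⟩)))
    · exact .inr (.inr (.inl (.inr ⟨![t, t, t, t, t, t ^ q], ⟨rfl, (h' t).symm⟩, rfl⟩)))
    · exact .inr (.inr (.inr (.inl ⟨![t, t, t, t, t ^ q, t], ⟨rfl, (h' t).symm⟩, rfl⟩)))
    · exact .inr (.inr (.inr (.inr ⟨![t, t, t, t, t ^ q, t], ⟨rfl, (h' t).symm⟩, rfl⟩)))
  · rintro ((⟨t, ht, rfl⟩ | ⟨t, ht, rfl⟩) | (⟨t, ht, rfl⟩ | ⟨t, ht, rfl⟩) |
      (⟨t, ht, rfl⟩ | ⟨t, ht, rfl⟩) | (⟨t, ht, rfl⟩ | ⟨t, ht, rfl⟩))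
    · exact .inl ⟨t 1, ht.symm, .inl rfl⟩
    · exact .inl ⟨t 1, ht.symm, .inr (.inl rfl)⟩
    · exact .inl ⟨t 3, ht.symm, .inr (.inr (.inl rfl))⟩
    · exact .inl ⟨t 3, ht.symm, .inr (.inr (.inr rfl))⟩
    · exact .inr ⟨t 0, .inl (ht.1 ▸ rfl)⟩
    · exact .inr ⟨t 0, .inr (.inl (ht.1 ▸ rfl))⟩
    · exact .inr ⟨t 2, .inr (.inr (.inl (ht.1 ▸ rfl)))⟩
    · exact .inr ⟨t 2, .inr (.inr (.inr (ht.1 ▸ rfl)))⟩

theorem d4Words_iff {K : Type*} [Field K] {q : ℕ} (h : ∀ t : K, t ^ q ^ 3 = t) (w : List (ℕ × K)) :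
    w ∈ d4Words K q ↔ ∃ l ∈ ([[1], [0, 2, 3]] : List (List (Fin 4))),
      ∃ c ∈ ([![18, 14, 13, 12], ![5, 9, 10, 11]] : List (Fin 4 → ℕ)),
      ∃ t : Fin 4 → K, (∀ j ∈ l, t (πD4 j) = t j ^ q) ∧ w = l.map fun j => (c j, t j) := by
  have h1 : ∀ t : K, t ^ q ^ 2 = (t ^ q) ^ q := fun t => by rw [← pow_mul, ← sq]
  have h2 : ∀ t : K, t = (t ^ q ^ 2) ^ q := fun t => by rw [← pow_mul, ← pow_succ, h]
  simp only [d4Words, Set.mem_union, Set.mem_ofPred_eq, List.mem_cons, List.not_mem_nil, or_false,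
    exists_eq_or_imp, exists_eq_left, forall_eq_or_imp, forall_eq, List.map_cons, List.map_nil]
  constructor
  · rintro (⟨t, ht, rfl | rfl⟩ | ⟨t, rfl | rfl⟩)
    · exact .inl (.inl ⟨fun _ => t, ht.symm, rfl⟩)
    · exact .inl (.inr ⟨fun _ => t, ht.symm, rfl⟩)
    · exact .inr (.inl ⟨![t, t, t ^ q, t ^ q ^ 2], ⟨rfl, h1 t, h2 t⟩, rfl⟩)
    · exact .inr (.inr ⟨![t, t, t ^ q, t ^ q ^ 2], ⟨rfl, h1 t, h2 t⟩, rfl⟩)
  · rintro ((⟨t, ht, rfl⟩ | ⟨t, ht, rfl⟩) | (⟨t, ht, rfl⟩ | ⟨t, ht, rfl⟩))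
    · exact .inl ⟨t 1, ht.symm, .inl rfl⟩
    · exact .inl ⟨t 1, ht.symm, .inr rfl⟩
    · exact .inr ⟨t 0, .inl (by rw [h1, ← ht.1]; exact ht.2.1 ▸ rfl)⟩
    · exact .inr ⟨t 0, .inr (by rw [h1, ← ht.1]; exact ht.2.1 ▸ rfl)⟩

variable {K : Type} [Field K] [Fintype K] {p q : ℕ} [Fact p.Prime] [CharP K p]

theorem exists_twE6 (hq : IsPrimePow q) (h : Fintype.card K = q ^ 2) :
    ∃ (A : (Tab.chev K tabE6_ok).Aut) (L : _), Chev.Aut.Orbs (Tab.Φ tabE6_ok.c1) A.π L ∧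
      Tw (A.sym p) (twistedE6 K q) := by
  obtain ⟨φ, hφ⟩ := exists_frob (p := p) hq h
  let A := autOfTab φ (Tab.chev K tabE6_ok) (fun _ _ => rfl) πE6 ρE6
    (fun r => sgnOf 173717956742448109200 r) (fun _ => sgnOf_sq _ _) (by decide +kernel)
    (by decide +kernel)
  have hL : Chev.Aut.Orbs (Tab.Φ tabE6_ok.c1) πE6 orbE6 := by decide +kernel
  refine ⟨A, _, hL, tw_of_words (fun _ _ => rfl) A p hL (a := ![56, 46, 42, 39, 37, 36])
    (b := ![15, 25, 29, 32, 34, 35]) (show ∀ i : Fin 6, tabE6.sm i = _ ∧ tabE6.ng (tabE6.sm i) = _ by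
      decide +kernel) fun w => ?_⟩
  simp only [show ∀ t, A.φ t = t ^ q from hφ]
  exact e6Words_iff (fun t => h ▸ FiniteField.pow_card t) w

theorem exists_twD4 (hq : IsPrimePow q) (h : Fintype.card K = q ^ 3) :
    ∃ (A : (Tab.chev K tabD4_ok).Aut) (L : _), Chev.Aut.Orbs (Tab.Φ tabD4_ok.c1) A.π L ∧
      Tw (A.sym p) (twistedD4 K q) := by
  obtain ⟨φ, hφ⟩ := exists_frob (p := p) hq h
  let A := autOfTab φ (Tab.chev K tabD4_ok) (fun _ _ => rfl) πD4 ρD4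
    (fun r => sgnOf 2785620 r) (fun _ => sgnOf_sq _ _) (by decide +kernel) (by decide +kernel)
  have hL : Chev.Aut.Orbs (Tab.Φ tabD4_ok.c1) πD4 orbD4 := by decide +kernel
  refine ⟨A, _, hL, tw_of_words (fun _ _ => rfl) A p hL (a := ![18, 14, 13, 12])
    (b := ![5, 9, 10, 11]) (show ∀ i : Fin 4, tabD4.sm i = _ ∧ tabD4.ng (tabD4.sm i) = _ by
      decide +kernel) fun w => ?_⟩
  simp only [show ∀ t, A.φ t = t ^ q from hφ]
  exact d4Words_iff (fun t => h ▸ FiniteField.pow_card t) w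

variable {G : Type*} [Group G] [Finite G]

theorem propA_of_isTwistedE6D4Char (h : IsTwistedE6D4Char p G) : PropA p G := by
  obtain ⟨K, _, _, _, q, hq, ⟨h, ⟨e⟩⟩ | ⟨h, ⟨e⟩⟩⟩ := h
  · obtain ⟨A, L, -, T⟩ := exists_twE6 (p := p) hq h
    exact T.propA e
  · obtain ⟨A, L, -, T⟩ := exists_twD4 (p := p) hq h
    exact T.propA e

theorem propB_of_isTwistedE6D4Char (h : IsTwistedE6D4Char 2 G) : PropB G := by
  obtain ⟨K, _, _, _, q, hq, ⟨h, ⟨e⟩⟩ | ⟨h, ⟨e⟩⟩⟩ := h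
  · obtain ⟨A, L, hL, T⟩ := exists_twE6 (p := 2) hq h
    exact T.propB (fun i x hx => A.sq_mem hL i x hx _) e
  · obtain ⟨A, L, hL, T⟩ := exists_twD4 (p := 2) hq h
    exact T.propB (fun i x hx => A.sq_mem hL i x hx _) e

end LT
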