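import Cfsg.Agent.Lib.Lie.ChevCo
import Cfsg.Prelude.Def_ChevF4

/-!
# Tables for the exceptional symmetry of type `F₄` in characteristic `2`
-/

set_option autoImplicit false
set_option maxRecDepth 100000

namespace LT

open Cfsg Cfsg.Lie

/-- The root with a given index. -/
def f4r (n : ℕ) : Fin chevF4.nroots := ⟨n % 48, Nat.mod_lt _ (by decide)⟩

/-- The simple root with a given index. -/
def f4i (n : ℕ) : Fin chevF4.rank := ⟨n % 4, Nat.mod_lt _ (by decide)⟩

/-- The symmetry of the root system. -/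
def f4rho (r : Fin chevF4.nroots) : Fin chevF4.nroots := f4r <| [3, 7, 8, 0, 9, 11, 18, 1, 2, 4, 15, 5, 16, 21, 23, 10, 12, 19, 6,
  17, 22, 13, 20, 14, 33, 27, 34, 25, 30, 41, 28, 35, 37, 24, 26, 31, 42, 32, 43, 45, 46, 29, 36,
  38, 47, 39, 40, 44].getD r.val 0

/-- `2` for short roots and `1` for long roots. -/
def f4lam (r : Fin chevF4.nroots) : ℕ := if r.val ∈ [3, 7, 8, 9, 10, 11, 12, 13, 14, 18, 19, 20, 27, 28, 29,
  33, 34, 35, 36, 37, 38, 39, 40, 44] then 2 else 1

/-- The basis vectors of the ideal generated by the short root vectors. -/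
def f4S : chevF4.Idx → Bool
  | .inl i => i.val < 2
  | .inr r => f4lam r = 2

/-- The symmetry on the basis vectors. -/
def f4κ : chevF4.Idx → chevF4.Idx
  | .inl i => .inl (Fin.rev i)
  | .inr r => .inr (f4rho r)

theorem f4rho_invol : Function.Involutive f4rho := by intro r; revert r; decide +kernel

theorem f4κ_invol : Function.Involutive f4κ := by intro r; revert r; decide +kernel

theorem f4_chk1 : ∀ (r : Fin chevF4.nroots) (i j : chevF4.Idx), ¬ f4S i → f4S j →
    nfL 2 (coL chevF4 r i j) = [] := by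
  decide +kernel

theorem f4_chk2 : ∀ (r : Fin chevF4.nroots) (i j : chevF4.Idx), f4S i → f4S j →
    nfL 2 (coL chevF4 r (f4κ i) (f4κ j)) = (nfL 2 (coL chevF4 (f4rho r) i j)).map
      fun km => (f4lam r * km.1, km.2) := by
  decide +kernel

end LT
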