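import Cfsg.Agent.Lib.Lie.ChevCls
import Cfsg.Agent.Lib.Lie.F4Tab
import Cfsg.Agent.Lib.Lie.TabF4
import Cfsg.Prelude.Def_LieTwisted

/-!
# The Ree groups of type `F₄`
-/

set_option autoImplicit false
set_option linter.unusedSectionVars false
set_option maxRecDepth 100000

namespace LT

open Cfsg Cfsg.Lie GT Subgroup

theorem tw_f4 {F : Type*} [Field F] [Finite F] [CharP F 2] {θ : F →+* F}
    (hθ : ∀ t, θ (θ t) ^ 2 = t) {e : ℕ} (he : ∀ t, θ t = t ^ e) (hF : 2 < Nat.card F) :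
    ∃ T : Sym ((Tab.chev F tabF4_ok).rgd 2), Tw T (twistedF4 F e) ∧
      ∀ i, ∀ x ∈ ((Tab.chev F tabF4_ok).rgd 2).UJ (T.orb i) ⊓ T.F,
        x ^ 2 ∈ ⁅((Tab.chev F tabF4_ok).rgd 2).UJ (T.orb i) ⊓ T.F,
          ((Tab.chev F tabF4_ok).rgd 2).UJ (T.orb i) ⊓ T.F⁆ := by
  have hx : ∀ r t, ((Tab.chev F tabF4_ok).x r t).1 = chevF4.xMat F r t := fun _ _ => rfl
  generalize Tab.chev F tabF4_ok = C at hx ⊢
  obtain ⟨T, hπ, hT⟩ := C.exists_sym_block (p := 2) hx (f4S ·) f4κ_invol.toPerm f4rho_invol.toPerm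
    Fin.revPerm f4lam θ hθ (by decide +kernel) (by decide +kernel) f4_chk1 f4_chk2
    (by simp only [RootSys.pos, Pi.le_def]; decide +kernel) (by decide +kernel)
    (by decide +kernel) (by decide +kernel)
  have hU := fun i l l' => T.UJ_eq (fun i => by rw [hπ]; exact i.rev_rev) i (l := l) (l' := l')
  rw [hπ] at hU
  have P := fun a b h1 h2 A => C.pair_class hx hθ hT a b (f4i 1) h1 h2 (A := A)
  have B := fun r f h1 h2 A hA => C.b2_class hθ hx hT r f h1 h2 hF (A := A) hA fun _ _ => rfl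
  have P1 := P (f4r 33) (f4r 24) (by decide +kernel) (by decide +kernel)
  have P2 := P (f4r 14) (f4r 23) (by decide +kernel) (by decide +kernel)
  have B1 := B ![f4r 27, f4r 25, f4r 28, f4r 30] ![.inr (f4r 37), .inr (f4r 35), .inr (f4r 34),
    .inr (f4r 33)] (by decide +kernel) (by decide +kernel)
  have B2 := B ![f4r 20, f4r 22, f4r 19, f4r 17] ![.inr (f4r 10), .inr (f4r 12), .inr (f4r 13),
    .inr (f4r 14)] (by decide +kernel) (by decide +kernel)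
  have U1 : ∀ i, i = f4i 0 ∨ i = f4i 3 → _ := fun i hi =>
    hU i [f4r 33, f4r 24] [f4r 14, f4r 23] (by revert i; decide +kernel)
  have U2 : ∀ i, ¬ (i = f4i 0 ∨ i = f4i 3) → _ := fun i hi =>
    hU i [f4r 27, f4r 25, f4r 28, f4r 30] [f4r 20, f4r 22, f4r 19, f4r 17]
      (by revert i; decide +kernel)
  have w1 : ∀ (a b : Fin chevF4.nroots) t, C.word (f4PairWord e a b t) = C.x a (θ t) * C.x b t :=
    fun a b t => by simp [Chev.word, Chev.xN, f4PairWord, he]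
  have w2 : ∀ (r : Fin 4 → Fin chevF4.nroots) t u,
      C.word (b2ClassWord e (r 0) (r 1) (r 2) (r 3) t u) = C.x (r 0) (θ t) * C.x (r 1) t *
        C.x (r 2) (θ t * t + u) * C.x (r 3) (θ u ^ 2) := fun r t u => by
    simp [Chev.word, Chev.xN, b2ClassWord, he, mul_assoc, pow_succ _ e, mul_comm 2 e, pow_mul]
  have hK := C.genSubgroup_eq hx (f4Words F e)
  have k1 : ∀ t, _ ∈ twistedF4 F e := fun t =>
    hK.ge (subset_closure ⟨_, Or.inl ⟨t, Or.inl rfl⟩, w1 (f4r 33) (f4r 24) t⟩)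
  have k2 : ∀ t, _ ∈ twistedF4 F e := fun t =>
    hK.ge (subset_closure ⟨_, Or.inl ⟨t, Or.inr rfl⟩, w1 (f4r 14) (f4r 23) t⟩)
  have k3 : ∀ t u, _ ∈ twistedF4 F e := fun t u => hK.ge (subset_closure
    ⟨_, Or.inr ⟨t, u, Or.inl rfl⟩, w2 ![f4r 27, f4r 25, f4r 28, f4r 30] t u⟩)
  have k4 : ∀ t u, _ ∈ twistedF4 F e := fun t u => hK.ge (subset_closure
    ⟨_, Or.inr ⟨t, u, Or.inr rfl⟩, w2 ![f4r 20, f4r 22, f4r 19, f4r 17] t u⟩)
  have h0 := U1 _ (Or.inl rfl)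
  have h1 := U2 (f4i 1) (by decide)
  have hg : ∀ g ∈ C.word '' f4Words F e, g ∈ T.F ∧ (g ∈ (C.rgd 2).U ∨
      ∃ i, g ∈ (C.rgd 2).VJ (T.orb i)) := by
    rintro _ ⟨_, ⟨t, rfl | rfl⟩ | ⟨t, u, rfl | rfl⟩, rfl⟩
    · have := (w1 ..).symm ▸ (P1 _ h0.1).1 t
      exact ⟨this.2, Or.inl (RGD.UJ_le _ _ this.1)⟩
    · have := (w1 ..).symm ▸ (P2 _ h0.2).1 t
      exact ⟨this.2, Or.inr ⟨_, this.1⟩⟩
    · have := (w2 ..).symm ▸ (B1 _ h1.1).1 t u
      exact ⟨this.2, Or.inl (RGD.UJ_le _ _ this.1)⟩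
    · have := (w2 ..).symm ▸ (B2 _ h1.2).1 t u
      exact ⟨this.2, Or.inr ⟨_, this.1⟩⟩
  refine ⟨T, ⟨hK.le.trans ((closure_le _).2 fun g h => (hg g h).1), fun i g h => ?_,
    fun i g h => ?_, hK.le.trans (closure_mono fun g h => ⟨hK.ge (subset_closure h), (hg g h).2⟩),
    fun i => ?_⟩, fun i g h => ?_⟩ <;> by_cases hi : i = f4i 0 ∨ i = f4i 3
  · obtain ⟨-, t, rfl⟩ := (P1 _ (U1 i hi).1).2.1 g h
    exact k1 t
  · obtain ⟨-, t, u, rfl⟩ := (B1 _ (U2 i hi).1).2.1 g h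
    exact k3 t u
  · obtain ⟨-, t, rfl⟩ := (P2 _ (U1 i hi).2).2.1 g h
    exact k2 t
  · obtain ⟨-, t, u, rfl⟩ := (B2 _ (U2 i hi).2).2.1 g h
    exact k4 t u
  · exact ⟨_, k2 1, ((P2 _ (U1 i hi).2).1 1).1, (P2 _ (U1 i hi).2).2.2⟩
  · exact ⟨_, k4 1 0, ((B2 _ (U2 i hi).2).1 1 0).1, (B2 _ (U2 i hi).2).2.2⟩
  · rw [((P1 _ (U1 i hi).1).2.1 g h).1]
    exact one_mem _
  · exact ((B1 _ (U2 i hi).1).2.1 g h).1

theorem iterateFrobenius_sq {F : Type*} [Field F] [Fintype F] {p m : ℕ} [Fact p.Prime] [CharP F p]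
    (h : Fintype.card F = p ^ (2 * m + 1)) (t : F) :
    iterateFrobenius F p m (iterateFrobenius F p m t) ^ p = t := by
  rw [iterateFrobenius_def, iterateFrobenius_def, ← pow_mul, ← pow_mul, ← pow_succ, ← pow_add,
    show m + (m + 1) = 2 * m + 1 by ring, ← h, FiniteField.pow_card]

theorem prop_of_iso2F4 {G : Type*} [Group G] [Finite G] (h : Iso2F4 G) : PropA 2 G ∧ PropB G := by
  obtain ⟨F, _, _, m, hm, hq, ⟨e⟩⟩ := h
  have : CharP F 2 := charP_of_card_eq_prime_pow hq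
  obtain ⟨T, h1, h2⟩ := tw_f4 (iterateFrobenius_sq hq) (iterateFrobenius_def 2 m) (by
    rw [Nat.card_eq_fintype_card, hq]
    exact Nat.pow_lt_pow_right (n := 2 * m + 1) (m := 1) one_lt_two (by omega))
  exact ⟨h1.propA e, h1.propB h2 e⟩

theorem propA_of_iso2F4 {G : Type*} [Group G] [Finite G] (h : Iso2F4 G) : PropA 2 G :=
  (prop_of_iso2F4 h).1

theorem propB_of_iso2F4 {G : Type*} [Group G] [Finite G] (h : Iso2F4 G) : PropB G :=
  (prop_of_iso2F4 h).2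

end LT
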