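import Cfsg.Agent.Lib.Lie.ChevCo
import Cfsg.Prelude.Def_ChevG2

/-!
# Tables for the exceptional symmetry of type `G₂` in characteristic `3`
-/

set_option autoImplicit false
set_option maxRecDepth 100000

namespace LT

open Cfsg Cfsg.Lie

/-- The root with a given index. -/
def g2rt (n : ℕ) : Fin chevG2.nroots := ⟨n % 12, Nat.mod_lt _ (by decide)⟩

/-- The simple root with a given index. -/
def g2i (n : ℕ) : Fin chevG2.rank := ⟨n % 2, Nat.mod_lt _ (by decide)⟩

/-- The symmetry of the root system. -/
def g2rho (r : Fin chevG2.nroots) : Fin chevG2.nroots := g2rt <| [2, 3, 0, 1, 5, 4, 7, 6, 10, 11, 8, 9].getD r.val 0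

/-- `3` for short roots and `1` for long roots. -/
def g2lam (r : Fin chevG2.nroots) : ℕ := if r.val ∈ [2, 3, 4, 7, 8, 9] then 3 else 1

/-- The basis vectors of the ideal generated by the short root vectors. -/
def g2S : chevG2.Idx → Bool
  | .inl i => i.val < 1
  | .inr r => g2lam r = 3

/-- The symmetry on the basis vectors. -/
def g2κ : chevG2.Idx → chevG2.Idx
  | .inl i => .inl (Fin.rev i)
  | .inr r => .inr (g2rho r)

theorem g2rho_invol : Function.Involutive g2rho := by intro r; revert r; decide +kernel

theorem g2κ_invol : Function.Involutive g2κ := by intro r; revert r; decide +kernel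

theorem g2_chk1 : ∀ (r : Fin chevG2.nroots) (i j : chevG2.Idx), ¬ g2S i → g2S j →
    nfL 3 (coL chevG2 r i j) = [] := by
  decide +kernel

theorem g2_chk2 : ∀ (r : Fin chevG2.nroots) (i j : chevG2.Idx), g2S i → g2S j →
    nfL 3 (coL chevG2 r (g2κ i) (g2κ j)) = (nfL 3 (coL chevG2 (g2rho r) i j)).map
      fun km => (g2lam r * km.1, km.2) := by
  decide +kernel

end LT
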