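import Cfsg.Agent.Lib.Lie.TabChev
import Cfsg.Prelude.Def_ChevG2

/-! # Tables for the Chevalley groups of type G2 (generated by docs/gen*.py) -/

set_option autoImplicit false
set_option maxRecDepth 100000

namespace LT
open Cfsg.Lie

/-- Tables for type G2. -/
def tabG2 : Tab chevG2 where
  neg := 1218426182456967898401291
  smp := 1543
  ref := [3411626608196089407097472256,
    3108190913232640688152248321]
  eta := [166547986814841,
    133691988343191]
  wt := [206337082881621,
    186476901463926]
  car := [153483436529496,
    166616720046231]
  cor := [168953687537271,
    186622930343286]
  row := [204323204703203159418015603045872741735441960920855520099581955110988965148030354935458781096600379026453823488,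
    16623233590184474045912406151042195094851082082713563645672309052982257768910631903424388832297672231296080426882369060864,
    62323717469664360673056851583227681986995005185027428649299736887440277934568656044815046685882780621159935416834854828640305152,
    235648629055330748020249506087906462673254435895385676063202172209790776317054378611772183426936326115372591117037194759842562048,
    4138509660055021083379996363926730356532161759656869507530118135589217239078241624310049555129075207676470715398225920,
    27275014337292971978240646254281873098719123020942374155525865218782242662748358138335358524435444381345861430864450158592,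
    434480377813159147159553910406028341534265366067962490407407966623669663270469302405423650854346881894541426711,
    5844060866465144566084451917359906624469930993689982053494179877852573452249970071552298205015179264,
    6390873211475362972070218339687010007295496614277057514555535011583934658460380983964099405324521511,
    90015505791365488150384010179880147841101193658832154146357039403226831206106043270000697,
    19272149375345965165722366478636667238452174923166001689353382789209,
    255926755324603439345892955835704703064281850320707911680]
  cm := [(9, 1, [(4, 1, 1, 1), (8, 1, 2, 1), (11, -1, 3, 1), (6, 2, 3, 2)]),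
    (9, 4, [(8, 2, 1, 1), (6, -3, 1, 2), (11, -3, 2, 1)]),
    (9, 6, []),
    (9, 8, [(11, -3, 1, 1)]),
    (9, 11, []),
    (11, 3, [(9, -1, 1, 1), (7, -1, 1, 2), (5, 1, 1, 3), (10, 1, 2, 3)]),
    (11, 5, [(10, -1, 1, 1)]),
    (11, 7, []),
    (11, 9, []),
    (11, 10, [])]

theorem tabG2_0 : tabG2.chk0 = true := by decide +kernel
theorem tabG2_1 : tabG2.chk1 = true := by decide +kernel
theorem tabG2_2 : tabG2.chk2 = true := by decide +kernel
theorem tabG2_3 : tabG2.chk3 = true := by decide +kernel
theorem tabG2_4 : tabG2.chk4 = true := by decide +kernel
theorem tabG2_5 : tabG2.chk5 = true := by decide +kernel
theorem tabG2_6_0 : tabG2.chk6 0 = true := by decide +kernel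
theorem tabG2_6_1 : tabG2.chk6 1 = true := by decide +kernel

theorem tabG2_ok : tabG2.OK :=
  ⟨tabG2_0, tabG2_1, tabG2_2, tabG2_3, tabG2_4, tabG2_5, fun i (hi : i < 2) => by
    interval_cases i
    exacts [tabG2_6_0, tabG2_6_1]⟩

end LT
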