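import Cfsg.Agent.Lib.Lie.ChevCls
import Cfsg.Agent.Lib.Lie.G2Tab
import Cfsg.Agent.Lib.Lie.TabG2
import Cfsg.Agent.Lib.Lie.TwF4

/-!
# The Ree groups of type `G₂`
-/

set_option autoImplicit false
set_option linter.unusedSectionVars false
set_option maxRecDepth 100000

namespace LT

open Cfsg Cfsg.Lie GT Subgroup

theorem tw_g2 {F : Type*} [Field F] [Finite F] [CharP F 3] {θ : F →+* F}
    (hθ : ∀ t, θ (θ t) ^ 3 = t) {e : ℕ} (he : ∀ t, θ t = t ^ e) :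
    ∃ T : Sym ((Tab.chev F tabG2_ok).rgd 3), Tw T (twistedG2 F e) := by
  have hx : ∀ r t, ((Tab.chev F tabG2_ok).x r t).1 = chevG2.xMat F r t := fun _ _ => rfl
  generalize Tab.chev F tabG2_ok = C at hx ⊢
  obtain ⟨T, hπ, hT⟩ := C.exists_sym_block (p := 3) hx (g2S ·) g2κ_invol.toPerm g2rho_invol.toPerm
    Fin.revPerm g2lam θ hθ (by decide +kernel) (by decide +kernel) g2_chk1 g2_chk2
    (by simp only [RootSys.pos, Pi.le_def]; decide +kernel) (by decide +kernel)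
    (by decide +kernel) (by decide +kernel)
  have hU := fun i => T.UJ_eq (fun i => by rw [hπ]; exact i.rev_rev) i
    (l := [g2rt 7, g2rt 6, g2rt 8, g2rt 9, g2rt 10, g2rt 11])
    (l' := [g2rt 4, g2rt 5, g2rt 3, g2rt 2, g2rt 1, g2rt 0])
    (by rw [hπ]; revert i; decide +kernel)
  have B := fun r f h1 ε h2 A hA => C.g2_class hθ hx hT r f h1 ε h2 (A := A) hA fun _ _ _ => rfl
  have B1 := fun i => B ![g2rt 7, g2rt 6, g2rt 8, g2rt 9, g2rt 10, g2rt 11]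
    ![.inr (g2rt 9), .inr (g2rt 8), .inr (g2rt 7), .inl (g2i 0), .inr (g2rt 4), .inr (g2rt 3),
      .inr (g2rt 2)] (by decide +kernel) 0 (by decide +kernel) _ (hU i).1
  have B2 := fun i => B ![g2rt 4, g2rt 5, g2rt 3, g2rt 2, g2rt 1, g2rt 0]
    ![.inr (g2rt 2), .inr (g2rt 3), .inr (g2rt 4), .inl (g2i 0), .inr (g2rt 7), .inr (g2rt 8),
      .inr (g2rt 9)] (by decide +kernel) 1 (by decide +kernel) _ (hU i).2
  have w : ∀ (r : Fin 6 → Fin chevG2.nroots) (c : Fin 6 → F),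
      C.word [(r 0, c 0), (r 1, c 1), (r 2, c 2), (r 3, c 3), (r 4, c 4), (r 5, c 5)] =
        C.x (r 0) (c 0) * C.x (r 1) (c 1) * C.x (r 2) (c 2) * C.x (r 3) (c 3) * C.x (r 4) (c 4) *
          C.x (r 5) (c 5) := fun r c => by simp [Chev.word, Chev.xN, mul_assoc]
  have h1 : ∀ t u : F, t ^ (e + 1) + u ^ e = θ t * t + θ u := fun t u => by rw [he, he, pow_succ]
  have h2 : ∀ t u : F, t ^ (2 * e + 1) + u ^ e = θ t ^ 2 * t + θ u := fun t u => by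
    rw [he, he, pow_succ, mul_comm 2, pow_mul]
  have w1 := fun t u v => w ![g2rt 7, g2rt 6, g2rt 8, g2rt 9, g2rt 10, g2rt 11]
    ![(-1) ^ 0 * θ t, (-1) ^ 0 * t, (-1) ^ 0 * (θ t * t + θ u), (-1) ^ 0 * (θ t ^ 2 * t + θ v),
      (-1) ^ 0 * u, (-1) ^ 0 * v]
  have w2 := fun t u v => w ![g2rt 4, g2rt 5, g2rt 3, g2rt 2, g2rt 1, g2rt 0]
    ![(-1) ^ 1 * θ t, (-1) ^ 1 * t, (-1) ^ 1 * (θ t * t + θ u), (-1) ^ 1 * (θ t ^ 2 * t + θ v),
      (-1) ^ 1 * u, (-1) ^ 1 * v]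
  have e1 : ∀ t u v, C.word (reeWordU e t u v) = _ := fun t u v => Eq.trans (by
    simp only [reeWordU, h1, h2, ← he t, pow_zero, one_mul]; rfl) (w1 t u v)
  have e2 : ∀ t u v, C.word (reeWordV e t u v) = _ := fun t u v => Eq.trans (by
    simp only [reeWordV, reeWordU, h1, h2, ← he t, pow_one, neg_one_mul]; rfl) (w2 t u v)
  have hK := C.genSubgroup_eq hx (g2Words F e)
  have k1 : ∀ t u v, _ ∈ twistedG2 F e := fun t u v =>
    hK.ge (subset_closure ⟨_, ⟨t, u, v, Or.inl rfl⟩, e1 t u v⟩)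
  have k2 : ∀ t u v, _ ∈ twistedG2 F e := fun t u v =>
    hK.ge (subset_closure ⟨_, ⟨t, u, v, Or.inr rfl⟩, e2 t u v⟩)
  have hg : ∀ g ∈ C.word '' g2Words F e, g ∈ T.F ∧ (g ∈ (C.rgd 3).U ∨
      ∃ i, g ∈ (C.rgd 3).VJ (T.orb i)) := by
    rintro _ ⟨_, ⟨t, u, v, rfl | rfl⟩, rfl⟩
    · have := (e1 t u v).symm ▸ (B1 (g2i 0)).1 t u v
      exact ⟨this.2, Or.inl (RGD.UJ_le _ _ this.1)⟩
    · have := (e2 t u v).symm ▸ (B2 (g2i 0)).1 t u v
      exact ⟨this.2, Or.inr ⟨_, this.1⟩⟩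
  refine ⟨T, hK.le.trans ((closure_le _).2 fun g h => (hg g h).1), fun i g h => ?_,
    fun i g h => ?_, hK.le.trans (closure_mono fun g h => ⟨hK.ge (subset_closure h), (hg g h).2⟩),
    fun i => ⟨_, k2 1 0 0, ((B2 i).1 1 0 0).1, (B2 i).2.2⟩⟩
  · obtain ⟨t, u, v, rfl⟩ := (B1 i).2.1 g h
    exact k1 t u v
  · obtain ⟨t, u, v, rfl⟩ := (B2 i).2.1 g h
    exact k2 t u v

theorem propA_of_isoRee {G : Type*} [Group G] [Finite G] (h : IsoRee G) : PropA 3 G := by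
  obtain ⟨F, _, _, m, -, hq, ⟨e⟩⟩ := h
  have : CharP F 3 := charP_of_card_eq_prime_pow hq
  obtain ⟨T, h1⟩ := tw_g2 (iterateFrobenius_sq hq) (iterateFrobenius_def 3 m)
  exact h1.propA e

end LT
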