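import Cfsg.Agent.Lib.Lie.Classical
import Cfsg.Agent.Lib.Lie.TwE6D4
import Cfsg.Agent.Lib.Lie.TwF4
import Cfsg.Agent.Lib.Lie.TwG2
import Cfsg.Agent.Lib.Lie.Sz
import Cfsg.Agent.Lib.Lie.TabE7
import Cfsg.Agent.Lib.Lie.TabE8

/-! # All families of groups of Lie type -/

set_option autoImplicit false

namespace LT

open Cfsg

variable {G : Type*} [Group G] [Finite G]

theorem propA_of_isLieTypeChar {p : ℕ} [Fact p.Prime] [IsSimpleGroup G] (h : IsLieTypeChar p G) :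
    PropA p G := by
  rcases h with h | h | h | h | h | h | ⟨F, _, _, _, ⟨-, ⟨e⟩⟩ | ⟨⟨e⟩⟩ | ⟨⟨e⟩⟩ | ⟨⟨e⟩⟩ | ⟨⟨e⟩⟩⟩ | h |
    ⟨rfl, h⟩ | ⟨rfl, h⟩ | ⟨rfl, h⟩
  exacts [propA_of_isPSLChar h, propA_of_isPSpChar h, propA_of_isPSUChar h,
    propA_of_isPOmegaOddChar h, propA_of_isPOmegaPlusChar h, propA_of_isPOmegaMinusChar h,
    Tab.propA tabG2_ok p e, Tab.propA tabF4_ok p e, Tab.propA tabE6_ok p e, Tab.propA tabE7_ok p e,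
    Tab.propA tabE8_ok p e, propA_of_isTwistedE6D4Char h, propA_of_isoSuzuki h, propA_of_iso2F4 h,
    propA_of_isoRee h]

theorem propB_of_isLieTypeChar (h : IsLieTypeChar 2 G) : PropB G := by
  rcases h with h | h | h | h | h | h | ⟨F, _, _, _, ⟨-, ⟨e⟩⟩ | ⟨⟨e⟩⟩ | ⟨⟨e⟩⟩ | ⟨⟨e⟩⟩ | ⟨⟨e⟩⟩⟩ | h |
    ⟨-, h⟩ | ⟨-, h⟩ | ⟨h, -⟩
  exacts [propB_of_isPSLChar h, propB_of_isPSpChar h, propB_of_isPSUChar h,
    propB_of_isPOmegaOddChar h, propB_of_isPOmegaPlusChar h, propB_of_isPOmegaMinusChar h,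
    Tab.propB tabG2_ok e, Tab.propB tabF4_ok e, Tab.propB tabE6_ok e, Tab.propB tabE7_ok e,
    Tab.propB tabE8_ok e, propB_of_isTwistedE6D4Char h, propB_of_isoSuzuki h, propB_of_iso2F4 h,
    absurd h (by decide)]

end LT
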