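import Cfsg.Agent.Lib.Lie.Twist

/-!
# Root group data of matrix Chevalley groups
-/

set_option autoImplicit false
set_option linter.unusedSectionVars false

namespace LT

open Cfsg GT Subgroup RootSys Matrix

/-- A submonoid of a finite group is a subgroup. -/
def toSub {G : Type*} [Group G] [Finite G] (S : Submonoid G) : Subgroup G where
  toSubmonoid := S
  inv_mem' {a} ha := by
    have h := S.pow_mem ha (orderOf a - 1)
    rwa [← mul_one (a ^ _), ← mul_inv_cancel a, ← mul_assoc, ← pow_succ,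
      Nat.sub_add_cancel (orderOf_pos a), pow_orderOf_eq_one, one_mul] at h

section Tri
variable {I F : Type*} [Fintype I] [DecidableEq I] [Field F]

/-- Matrices that are unitriangular with respect to `f`. -/
def tri (F : Type*) [Field F] (f : I → ℤ) : Submonoid (GL I F) where
  carrier := {g | ∀ a k, f a ≤ f k → g.1 a k = (1 : Matrix I I F) a k}
  one_mem' _ _ _ := rfl
  mul_mem' {g h} hg hh a k hak := by
    rw [Units.val_mul, mul_apply, Finset.sum_eq_single a (fun b _ hb => ?_) (by simp), hg a a le_rfl,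
      hh a k hak, one_apply_eq, one_mul]
    rcases le_or_gt (f a) (f b) with h1 | h1
    · rw [hg a b h1, one_apply_ne hb.symm, zero_mul]
    · rw [hh b k (by omega), one_apply_ne (by rintro rfl; omega), mul_zero]

theorem pow_eq_one_of_tri {p : ℕ} [Fact p.Prime] [CharP F p] {f : I → ℤ} {g : GL I F}
    (hg : g ∈ tri F f) : ∃ n, g ^ p ^ n = 1 := by
  rcases isEmpty_or_nonempty I with h | h
  · exact ⟨0, Units.ext (Subsingleton.elim _ _)⟩
  have h1 : ∀ (m : ℕ) a k, f a < f k + m → ((g.1 - 1) ^ m) a k = 0 := fun m => by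
    induction m with
    | zero => exact fun a k h => one_apply_ne (by rintro rfl; omega)
    | succ m ih =>
      refine fun a k h => by
        rw [pow_succ, mul_apply]
        refine Finset.sum_eq_zero fun b _ => ?_
        rcases le_or_gt (f b) (f k) with h2 | h2
        · rw [sub_apply g.1, hg b k h2, sub_self, mul_zero]
        · rw [ih a b (by omega), zero_mul]
  obtain ⟨⟨a, k⟩, h2⟩ := Finite.exists_max fun x : I × I => f x.1 - f x.2
  refine ⟨(f a - f k).toNat, Units.ext ?_⟩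
  have h3 := Nat.lt_pow_self (n := (f a - f k).toNat) (Fact.out : p.Prime).one_lt
  rw [Units.val_pow_eq_pow_val, ← sub_add_cancel g.1 1,
    add_pow_char_pow_of_commute _ _ (Commute.one_right _), one_pow, Units.val_one, add_eq_right]
  exact Matrix.ext fun b c => h1 _ b c (by have := h2 (b, c); dsimp only at this; omega)

theorem eq_one_of_tri {f : I → ℤ} {g : GL I F} (h : g ∈ tri F f) (h' : g ∈ tri F (-f)) : g = 1 :=
  Units.ext (Matrix.ext fun a k => (le_total (f a) (f k)).elim (h a k) fun h1 =>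
    h' a k (neg_le_neg h1))

/-- The diagonal matrix `s ^ f`. -/
def dg (f : I → ℤ) (s : Fˣ) : GL I F :=
  ⟨diagonal fun a => ↑(s ^ f a), diagonal fun a => ↑(s ^ f a)⁻¹,
    by simp only [diagonal_mul_diagonal, Units.mul_inv, diagonal_one],
    by simp only [diagonal_mul_diagonal, Units.inv_mul, diagonal_one]⟩

end Tri

variable {ι R : Type*} [Fintype ι] [DecidableEq ι] [Fintype R] [DecidableEq R]

/-- The height of a root. -/
def RootSys.ht (Φ : RootSys ι R) (r : R) : ℤ := ∑ i, Φ.wt r i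

/-- The height of a basis vector. -/
def RootSys.hti (Φ : RootSys ι R) : ι ⊕ R → ℤ := Sum.elim 0 Φ.ht

theorem RootSys.ht_smp (Φ : RootSys ι R) (i : ι) : Φ.ht (Φ.smp i) = 1 := by simp [ht, Φ.wt_smp]

theorem RootSys.ht_neg (Φ : RootSys ι R) (r : R) : Φ.ht (Φ.neg r) = -Φ.ht r := by
  simp [ht, Φ.wt_neg]

theorem RootSys.ht_pos {Φ : RootSys ι R} {r : R} (h : Φ.pos r) : 0 < Φ.ht r := by
  obtain ⟨j, hj⟩ := Function.ne_iff.1 (Φ.wt_ne r)
  exact Finset.sum_pos' (fun i _ => h i) ⟨j, Finset.mem_univ j, lt_of_le_of_ne (h j) hj.symm⟩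

theorem RootSys.ht_lt {Φ : RootSys ι R} {r : R} (h : ¬ Φ.pos r) : Φ.ht r < 0 := by
  have := ht_pos (Φ.pos_neg.2 h); rw [ht_neg] at this; omega

theorem RootSys.neg_ne (Φ : RootSys ι R) (r : R) : Φ.neg r ≠ r := fun h => by
  have := Φ.pos_neg (r := r); rw [h] at this; tauto

/-- The basis vector of a root. -/
abbrev eR (F : Type*) [Field F] (ι : Type*) [DecidableEq ι] (r : R) : ι ⊕ R → F :=
  Pi.single (Sum.inr r) 1

/-- The relations satisfied by the root elements of an adjoint Chevalley group. -/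
structure Chev (F : Type*) [Field F] (Φ : RootSys ι R) where
  x : R → F → GL (ι ⊕ R) F
  ν : ι → GL (ι ⊕ R) F
  add : ∀ r t u, x r (t + u) = x r t * x r u
  ν_eq : ∀ i, ν i = x (Φ.smp i) 1 * x (Φ.neg (Φ.smp i)) (-1) * x (Φ.smp i) 1
  ν_x : ∀ i r t, ∃ u, ν i * x r t = x (Φ.σ i r) u * ν i
  ν_e : ∀ i r, ∃ c : F, (ν i).1 *ᵥ eR F ι r = c • eR F ι (Φ.σ i r)
  tor : ∀ r (s : Fˣ) t, dg Φ.hti s * x r t = x r (↑(s ^ Φ.ht r) * t) * dg Φ.hti s
  tri : ∀ r t a k, (x r t).1 a k = (1 : Matrix _ _ F) a k ∨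
    ∃ j : ℤ, 0 < j ∧ Φ.hti a = Φ.hti k + j * Φ.ht r
  sl2 : ∀ i r, r = Φ.smp i ∨ r = Φ.neg (Φ.smp i) → ∃ ε : F, ε ≠ 0 ∧ ∀ t,
    (x r t).1 *ᵥ eR F ι (Φ.neg r) =
      eR F ι (Φ.neg r) + (ε * t) • Pi.single (Sum.inl i) 1 - t ^ 2 • eR F ι r
  comm : ∀ a, (∀ i, Φ.ht (Φ.σ i a) ≤ Φ.ht a) → ∀ b, (∀ i, Φ.σ i a = a → Φ.ht (Φ.σ i b) ≤ Φ.ht b) →
    b ≠ a → b ≠ Φ.neg a → ∀ t u, x a t * x b u * (x a t)⁻¹ * (x b u)⁻¹ ∈
      XS (fun r => closure (Set.range (x r))) (Φ.cone a b)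

namespace Chev

variable {F : Type*} [Field F] {Φ : RootSys ι R} (C : Chev F Φ)

theorem zero (r : R) : C.x r 0 = 1 := by
  have := C.add r 0 0
  rwa [add_zero, left_eq_mul] at this

theorem neg (r : R) (t : F) : C.x r (-t) = (C.x r t)⁻¹ :=
  eq_inv_of_mul_eq_one_left (by rw [← C.add, neg_add_cancel, C.zero])

/-- The root groups. -/
abbrev X (r : R) : Subgroup (GL (ι ⊕ R) F) := closure (Set.range (C.x r))

theorem x_mem (r : R) (t : F) : C.x r t ∈ C.X r := subset_closure ⟨t, rfl⟩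

theorem mem_X {r : R} {g : GL (ι ⊕ R) F} (h : g ∈ C.X r) : ∃ t, C.x r t = g := by
  induction h using closure_induction with
  | mem x hx => exact hx
  | one => exact ⟨0, C.zero r⟩
  | mul x y _ _ hx hy => obtain ⟨t, rfl⟩ := hx; obtain ⟨u, rfl⟩ := hy; exact ⟨_, C.add r t u⟩
  | inv x _ hx => obtain ⟨t, rfl⟩ := hx; exact ⟨_, C.neg r t⟩

variable [Finite F]

/-- The monomial group. -/
def N : Subgroup (GL (ι ⊕ R) F × Equiv.Perm R) := toSub
  { carrier := {g | g.2 ∈ Φ.W Set.univ ∧ (∀ r t, ∃ u, g.1 * C.x r t = C.x (g.2 r) u * g.1) ∧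
      ∀ r, ∃ c : F, g.1.1 *ᵥ eR F ι r = c • eR F ι (g.2 r)}
    one_mem' := ⟨one_mem _, fun r t => ⟨t, by simp⟩, fun r => ⟨1, by simp [-mulVec_single]⟩⟩
    mul_mem' := fun {g h} hg hh => ⟨mul_mem hg.1 hh.1, fun r t => by
      obtain ⟨u, hu⟩ := hh.2.1 r t
      obtain ⟨v, hv⟩ := hg.2.1 (h.2 r) u
      exact ⟨v, by rw [Prod.fst_mul, mul_assoc, hu, ← mul_assoc, hv, mul_assoc]; rfl⟩, fun r => by
      obtain ⟨c, hc⟩ := hh.2.2 r
      obtain ⟨d, hd⟩ := hg.2.2 (h.2 r)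
      refine ⟨c * d, ?_⟩
      rw [Prod.fst_mul, Units.val_mul, ← mulVec_mulVec, hc, mulVec_smul, hd, smul_smul]; rfl⟩ }

theorem N_X {g : GL (ι ⊕ R) F × Equiv.Perm R} (hg : g ∈ C.N) (r : R) (y : GL (ι ⊕ R) F)
    (hy : y ∈ C.X r) : g.1 * y * g.1⁻¹ ∈ C.X (g.2 r) := by
  obtain ⟨t, rfl⟩ := C.mem_X hy
  obtain ⟨u, hu⟩ := hg.2.1 r t
  rw [hu, mul_inv_cancel_right]
  exact C.x_mem _ u

theorem ν_mem (i : ι) : (C.ν i, Φ.σ i) ∈ C.N := ⟨Φ.σ_mem trivial, C.ν_x i, C.ν_e i⟩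

theorem dg_mem (s : Fˣ) : (dg Φ.hti s, 1) ∈ C.N :=
  ⟨one_mem _, fun r t => ⟨_, C.tor r s t⟩, fun r => ⟨_, by
    rw [dg, diagonal_mulVec_single, ← Pi.single_smul, smul_eq_mul]; rfl⟩⟩

theorem mem_tri {Ψ : R → Prop} {ε : ℤ} (h : ∀ r, Ψ r → 0 < ε * Φ.ht r) {g : GL (ι ⊕ R) F}
    (hg : g ∈ XS C.X Ψ) : g ∈ LT.tri F (ε • Φ.hti) :=
  XS_le (K := toSub (LT.tri F (ε • Φ.hti))) (fun r hr g hg a k hak => by
    obtain ⟨t, rfl⟩ := C.mem_X hg
    refine (C.tri r t a k).resolve_right fun ⟨j, hj, h1⟩ => ?_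
    have := mul_pos hj (h r hr)
    simp only [Pi.smul_apply, smul_eq_mul, h1] at hak
    linarith) hg

theorem diag_of_mem {g : GL (ι ⊕ R) F} (hg : (g, 1) ∈ C.N) (k : ι ⊕ R) :
    ∃ c : F, g.1 *ᵥ Pi.single k 1 = c • Pi.single k 1 := by
  rcases k with i | r
  swap; · exact hg.2.2 r
  have h1 : ∀ r, r = Φ.smp i ∨ r = Φ.neg (Φ.smp i) → ∃ c d : F,
      g.1 *ᵥ Pi.single (Sum.inl i) 1 = c • Pi.single (Sum.inl i) 1 + d • eR F ι r := fun r hr => by
    obtain ⟨ε, hε, h2⟩ := C.sl2 i r hr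
    obtain ⟨u, hu⟩ := hg.2.1 r 1
    obtain ⟨c, hc⟩ := hg.2.2 r
    obtain ⟨d, hd⟩ := hg.2.2 (Φ.neg r)
    have h3 := congrArg (fun y : GL (ι ⊕ R) F => y.1 *ᵥ eR F ι (Φ.neg r)) hu
    simp only [Units.val_mul, ← mulVec_mulVec, Equiv.Perm.one_apply] at h3 hc hd
    simp only [h2, mulVec_sub, mulVec_add, mulVec_smul, hc, hd] at h3
    refine ⟨d * u, ε⁻¹ * (c - d * u ^ 2), smul_right_injective _ hε ?_⟩
    simp only [smul_add, smul_smul, mul_inv_cancel_left₀ hε]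
    linear_combination (norm := module) h3
  obtain ⟨c, d, h2⟩ := h1 _ (Or.inl rfl)
  obtain ⟨c', d', h3⟩ := h1 _ (Or.inr rfl)
  have h4 := congrFun (h2.symm.trans h3) (Sum.inr (Φ.smp i))
  simp [Pi.single_apply, (Φ.neg_ne (Φ.smp i)).symm] at h4
  exact ⟨c, by simpa [h4] using h2⟩

theorem comm' (a b : R) (h1 : b ≠ a) (h2 : b ≠ Φ.neg a) (x : GL (ι ⊕ R) F) (hx : x ∈ C.X a)
    (y : GL (ι ⊕ R) F) (hy : y ∈ C.X b) : x * y * x⁻¹ * y⁻¹ ∈ XS C.X (Φ.cone a b) := by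
  obtain ⟨⟨w, hw⟩, h3⟩ := Finite.exists_max fun w : Φ.W Set.univ =>
    toLex (Φ.ht (w.1 a), Φ.ht (w.1 b))
  have h4 := fun i => Prod.Lex.toLex_le_toLex.1 (h3 ⟨_, mul_mem (Φ.σ_mem (Set.mem_univ i)) hw⟩)
  obtain ⟨n, hn⟩ : ∃ n, (n, w) ∈ C.N := Φ.W_ind (P := fun w => ∃ n, (n, w) ∈ C.N) ⟨1, one_mem _⟩
    (fun i _ _ _ ⟨n, h⟩ => ⟨_, mul_mem (C.ν_mem i) h⟩) hw
  obtain ⟨t, ht⟩ := C.mem_X (C.N_X hn a x hx)
  obtain ⟨u, hu⟩ := C.mem_X (C.N_X hn b y hy)
  have h5 := C.comm (w a) (fun i => (h4 i).elim le_of_lt fun h => h.1.le) (w b)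
    (fun i hi => (h4 i).elim (fun h => absurd (congrArg Φ.ht hi) h.ne) fun h => h.2)
    (w.injective.ne h1) (by rw [← W_neg hw]; exact w.injective.ne h2) t u
  obtain ⟨L, hL⟩ := exists_lin (inv_mem hw)
  convert conj_mem_XS (g := n⁻¹) (K := XS C.X (Φ.cone a b)) (fun c ⟨i, j, hi, hj, hc⟩ z hz =>
    mem_XS (r := w⁻¹ c) ⟨i, j, hi, hj, by rw [hL c, hc, map_add, map_zsmul, map_zsmul, ← hL, ← hL]; simp⟩ (C.N_X (inv_mem hn) c z hz)) h5
    using 1
  rw [ht, hu]; group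

theorem x_ne {i : ι} {r : R} (hr : r = Φ.smp i ∨ r = Φ.neg (Φ.smp i)) {t : F} (h : C.x r t = 1) :
    t = 0 := by
  obtain ⟨ε, hε, h2⟩ := C.sl2 i r hr
  simpa [h, hε] using congrFun (h2 t) (Sum.inl i)

/-- The root group datum. -/
def rgd (p : ℕ) [Fact p.Prime] [CharP F p] : RGD p (GL (ι ⊕ R) F) Φ where
  X := C.X
  N := C.N
  N_W _ h := h.1
  N_X _ := C.N_X
  H_ord g hg h := by
    have := Fintype.ofFinite F
    have h1 : g ^ (Fintype.card F - 1) = 1 := Units.ext (ext_of_mulVec_single fun k => by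
      obtain ⟨c, hc⟩ := C.diag_of_mem hg k
      have h2 : ∀ n : ℕ, (g ^ n).1 *ᵥ Pi.single k 1 = c ^ n • Pi.single k 1 := fun n => by
        induction n with
        | zero => simp [-mulVec_single]
        | succ n ih => rw [pow_succ, Units.val_mul, ← mulVec_mulVec, hc, mulVec_smul, ih, smul_smul,
            pow_succ']
      rw [h2, FiniteField.pow_card_sub_one_eq_one c (fun h3 => by
        simpa [-mulVec_single, h3] using congrFun (congrArg (g⁻¹.1 *ᵥ ·) hc) k), one_smul, Units.val_one, one_mulVec])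
    obtain ⟨n, hp, hn⟩ := FiniteField.card F p
    have h2 := (Nat.dvd_sub (hn ▸ dvd_pow_self p n.ne_zero) (h.trans (orderOf_dvd_of_pow_eq_one h1)))
    rw [Nat.sub_sub_self Fintype.card_pos] at h2
    exact hp.not_dvd_one h2
  ex_m i y hy hy1 := by
    obtain ⟨t, rfl⟩ := C.mem_X hy
    have ht : -t ≠ 0 := fun h => hy1 (by rw [neg_eq_zero.1 h, C.zero])
    have h1 := fun r u => mul_inv_eq_iff_eq_mul.2 (C.tor r (Units.mk0 _ ht)⁻¹ u)
    refine ⟨_, C.x_mem _ (-t)⁻¹, _, C.x_mem _ (-t)⁻¹, ?_⟩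
    convert mul_mem (mul_mem (C.dg_mem (Units.mk0 _ ht)⁻¹) (C.ν_mem i))
      (inv_mem (C.dg_mem (Units.mk0 _ ht)⁻¹)) using 1
    have h2 := h1 (Φ.smp i) 1
    have h3 := h1 (Φ.neg (Φ.smp i)) (-1)
    simp only [ht_neg, ht_smp, _root_.zpow_neg, zpow_one, inv_inv, Units.val_mk0, Units.val_inv_eq_inv_val,
      mul_one, mul_neg, _root_.neg_neg] at h2 h3
    rw [← h2, ← h3, C.ν_eq]
    ext1
    · simp only [Prod.fst_mul, Prod.fst_inv]; group
    · simp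
  ne_bot i h := one_ne_zero (C.x_ne (Or.inr rfl) (mem_bot.1 (h ▸ C.x_mem _ 1)))
  comm := C.comm'
  pgrp g := by
    obtain ⟨n, hn⟩ := pow_eq_one_of_tri (p := p)
      (C.mem_tri (ε := 1) (fun r hr => by simpa using ht_pos hr) g.2)
    exact ⟨n, Subtype.ext hn⟩
  disj y h h' := eq_one_of_tri (C.mem_tri (ε := 1) (fun r hr => by simpa using ht_pos hr) h)
    (by simpa using C.mem_tri (ε := -1) (fun r hr => by simpa using ht_lt hr) h')

end Chev
end LT
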