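import Mathlib

/-!
# The fixed points of the exceptional symmetries on classes of type `B₂` and `G₂`
-/

set_option autoImplicit false
set_option linter.unusedSectionVars false

namespace LT

open Matrix

variable {F Γ : Type*} [Field F] [Group Γ]

/-- The root elements of type `B₂` in characteristic `2` on the natural module. -/
def b2M (t : F) : Fin 4 → Matrix (Fin 4) (Fin 4) F :=
  ![!![1, t, 0, 0; 0, 1, 0, 0; 0, 0, 1, t; 0, 0, 0, 1],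
    !![1, 0, 0, 0; 0, 1, t, 0; 0, 0, 1, 0; 0, 0, 0, 1],
    !![1, 0, t, 0; 0, 1, 0, t; 0, 0, 1, 0; 0, 0, 0, 1],
    !![1, 0, 0, t; 0, 1, 0, 0; 0, 0, 1, 0; 0, 0, 0, 1]]

theorem b2_class [CharP F 2] (θ : F →+* F) (hθ : ∀ t, θ (θ t) ^ 2 = t) {A : Subgroup Γ}
    {x : Fin 4 → F → Γ} (mem : ∀ i t, x i t ∈ A) {β : Γ → Matrix (Fin 4) (Fin 4) F}
    (hβ : ∀ g ∈ A, ∀ h ∈ A, β (g * h) = β g * β h) (hx : ∀ i t, β (x i t) = b2M t i)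
    (nf : ∀ g ∈ A, ∃ a b c d, g = x 0 a * x 1 b * x 2 c * x 3 d) {τ : Γ → Γ}
    (hτ : ∀ g ∈ A, ∀ h ∈ A, τ (g * h) = τ g * τ h) (τ0 : ∀ t, τ (x 0 t) = x 1 (θ t ^ 2))
    (τ1 : ∀ t, τ (x 1 t) = x 0 (θ t)) (τ2 : ∀ t, τ (x 2 t) = x 3 (θ t ^ 2))
    (τ3 : ∀ t, τ (x 3 t) = x 2 (θ t)) {w : F → F → Γ}
    (hw : ∀ t u, w t u = x 0 (θ t) * x 1 t * x 2 (θ t * t + u) * x 3 (θ u ^ 2)) :
    (∀ t u, τ (w t u) = w t u) ∧ (∀ g ∈ A, τ g = g → ∃ t u, g = w t u) ∧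
      (∀ t u s v, w t u * w s v = w (t + s) (u + v + θ t * s)) ∧ w 1 0 ≠ 1 := by
  have h2 := CharTwo.two_eq_zero (R := F)
  have m2 : ∀ i j a b, x i a * x j b ∈ A := fun i j a b => mul_mem (mem i a) (mem j b)
  have m3 : ∀ i j k a b c, x i a * x j b * x k c ∈ A := fun i j k a b c =>
    mul_mem (m2 i j a b) (mem k c)
  have m4 : ∀ i j k l a b c d, x i a * x j b * x k c * x l d ∈ A := fun i j k l a b c d =>
    mul_mem (m3 i j k a b c) (mem l d)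
  have b4 : ∀ i j k l a b c d, β (x i a * x j b * x k c * x l d) =
      b2M a i * b2M b j * b2M c k * b2M d l := fun i j k l a b c d => by
    rw [hβ _ (m3 ..) _ (mem ..), hβ _ (m2 ..) _ (mem ..), hβ _ (mem ..) _ (mem ..), hx, hx, hx, hx]
  have bP : ∀ a b c d, β (x 0 a * x 1 b * x 2 c * x 3 d) =
      !![1, a, c + a * b, d + a * c; 0, 1, b, c; 0, 0, 1, a; 0, 0, 0, 1] := fun a b c d => by
    rw [b4]
    ext i j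
    fin_cases i <;> fin_cases j <;> simp [b2M, mul_apply, Fin.sum_univ_four, add_comm]
  have inj : ∀ {a b c d : F} {g}, g ∈ A → β g 0 1 = a → β g 1 2 = b → β g 1 3 = c →
      β g 0 3 = d + a * c → g = x 0 a * x 1 b * x 2 c * x 3 d := fun {a b c d g} hg h1 h2 h3 h4 => by
    obtain ⟨a', b', c', d', rfl⟩ := nf g hg
    rw [bP] at h1 h2 h3 h4
    simp at h1 h2 h3 h4
    subst h1 h2 h3
    rw [add_right_cancel h4]
  have hτP : ∀ a b c d, τ (x 0 a * x 1 b * x 2 c * x 3 d) = x 0 (θ b) * x 1 (θ a ^ 2) *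
      x 2 (θ d + θ b * θ a ^ 2) * x 3 (θ c ^ 2 + θ b ^ 2 * θ a ^ 2) := fun a b c d => by
    rw [hτ _ (m3 ..) _ (mem ..), hτ _ (m2 ..) _ (mem ..), hτ _ (mem ..) _ (mem ..), τ0, τ1, τ2, τ3]
    refine inj (m4 ..) ?_ ?_ ?_ ?_ <;> rw [b4] <;>
      simp [b2M, mul_apply, Fin.sum_univ_four] <;> ring_nf <;> reduce_mod_char!
  refine ⟨fun t u => ?_, fun g hg h => ?_, fun t u s v => ?_, fun h => ?_⟩
  · rw [hw, hτP, hθ, map_pow, hθ, add_comm u]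
    congr 2
    rw [map_add, map_mul, CharTwo.add_sq, mul_pow, hθ]
    linear_combination (θ t ^ 2 * t) * h2
  · obtain ⟨a, b, c, d, rfl⟩ := nf g hg
    have h1 := congrArg β (hτP a b c d)
    rw [h, bP, bP] at h1
    have h3 := congrFun₂ h1 0 1
    have h4 := congrFun₂ h1 1 2
    have h5 := congrFun₂ h1 1 3
    simp at h3 h4 h5
    rw [← h4] at h5
    refine ⟨b, θ d, ?_⟩
    rw [hw, hθ, ← h3, h5, ← h3, add_comm]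
  · rw [hw (t + s)]
    refine inj (mul_mem (hw t u ▸ m4 ..) (hw s v ▸ m4 ..)) ?_ ?_ ?_ ?_ <;>
      rw [hβ _ (hw t u ▸ m4 ..) _ (hw s v ▸ m4 ..), hw, hw, bP, bP] <;>
      simp [mul_apply, Fin.sum_univ_four, CharTwo.add_sq, mul_pow, hθ] <;> ring_nf <;>
      reduce_mod_char!
  · have h1 := congrArg β (h.symm.trans (hw 1 0))
    have h3 := hβ 1 (one_mem A) _ (mem 0 0)
    rw [one_mul, hx, h1, bP] at h3
    simpa [b2M, mul_apply, Fin.sum_univ_four] using congrFun₂ h3 0 1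

/-- The root elements of type `G₂` in characteristic `3` on the `7`-dimensional module. -/
def g2M (t : F) : Fin 6 → Matrix (Fin 7) (Fin 7) F :=
  ![!![1, t, 0, 0, 0, 0, 0; 0, 1, 0, 0, 0, 0, 0; 0, 0, 1, t, -t ^ 2, 0, 0; 0, 0, 0, 1, t, 0, 0;
      0, 0, 0, 0, 1, 0, 0; 0, 0, 0, 0, 0, 1, -t; 0, 0, 0, 0, 0, 0, 1],
    !![1, 0, 0, 0, 0, 0, 0; 0, 1, t, 0, 0, 0, 0; 0, 0, 1, 0, 0, 0, 0; 0, 0, 0, 1, 0, 0, 0;
      0, 0, 0, 0, 1, -t, 0; 0, 0, 0, 0, 0, 1, 0; 0, 0, 0, 0, 0, 0, 1],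
    !![1, 0, -t, 0, 0, 0, 0; 0, 1, 0, t, 0, -t ^ 2, 0; 0, 0, 1, 0, 0, 0, 0; 0, 0, 0, 1, 0, t, 0;
      0, 0, 0, 0, 1, 0, t; 0, 0, 0, 0, 0, 1, 0; 0, 0, 0, 0, 0, 0, 1],
    !![1, 0, 0, -t, 0, 0, -t ^ 2; 0, 1, 0, 0, -t, 0, 0; 0, 0, 1, 0, 0, t, 0; 0, 0, 0, 1, 0, 0, -t;
      0, 0, 0, 0, 1, 0, 0; 0, 0, 0, 0, 0, 1, 0; 0, 0, 0, 0, 0, 0, 1],
    !![1, 0, 0, 0, -t, 0, 0; 0, 1, 0, 0, 0, 0, 0; 0, 0, 1, 0, 0, 0, t; 0, 0, 0, 1, 0, 0, 0;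
      0, 0, 0, 0, 1, 0, 0; 0, 0, 0, 0, 0, 1, 0; 0, 0, 0, 0, 0, 0, 1],
    !![1, 0, 0, 0, 0, -t, 0; 0, 1, 0, 0, 0, 0, t; 0, 0, 1, 0, 0, 0, 0; 0, 0, 0, 1, 0, 0, 0;
      0, 0, 0, 0, 1, 0, 0; 0, 0, 0, 0, 0, 1, 0; 0, 0, 0, 0, 0, 0, 1]]

theorem g2M_prod [CharP F 3] (a b c d e f : F) {M : Matrix (Fin 7) (Fin 7) F}
    (h : M = g2M a 0 * g2M b 1 * g2M c 2 * g2M d 3 * g2M e 4 * g2M f 5) :
    M 0 1 = a ∧ M 1 2 = b ∧ M 1 3 = c ∧ M 1 4 = -d ∧ M 0 4 = -e - a * d ∧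
      M 1 6 = f - c * d + b * e := by
  subst h
  refine ⟨?_, ?_, ?_, ?_, ?_, ?_⟩ <;> simp [g2M, mul_apply, Fin.sum_univ_seven] <;> ring

theorem g2M_prod' [CharP F 3] (a b c d e f : F) {M : Matrix (Fin 7) (Fin 7) F}
    (h : M = g2M b 1 * g2M a 0 * g2M e 4 * g2M f 5 * g2M c 2 * g2M d 3) :
    M 0 1 = a ∧ M 1 2 = b ∧ M 1 3 = c + a * b ∧ M 1 4 = -d - a ^ 2 * b ∧ M 0 4 = -e - a * d ∧
      M 1 6 = f - c * d + b * e - a * b * d - a ^ 2 * b * c := by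
  subst h
  refine ⟨?_, ?_, ?_, ?_, ?_, ?_⟩ <;> simp [g2M, mul_apply, Fin.sum_univ_seven] <;> ring

theorem map_mul_six {M : Type*} [Monoid M] {A : Subgroup Γ} {x : Fin 6 → F → Γ}
    (mem : ∀ i t, x i t ∈ A) (φ : Γ → M) (h : ∀ g ∈ A, ∀ h ∈ A, φ (g * h) = φ g * φ h)
    (i j k l m n : Fin 6) (a b c d e f : F) : φ (x i a * x j b * x k c * x l d * x m e * x n f) =
      φ (x i a) * φ (x j b) * φ (x k c) * φ (x l d) * φ (x m e) * φ (x n f) := by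
  rw [h, h, h, h, h] <;> apply_rules [mul_mem]

theorem g2_class [CharP F 3] (θ : F →+* F) (hθ : ∀ t, θ (θ t) ^ 3 = t) {A : Subgroup Γ}
    {x : Fin 6 → F → Γ} (mem : ∀ i t, x i t ∈ A) {β : Γ → Matrix (Fin 7) (Fin 7) F}
    (hβ : ∀ g ∈ A, ∀ h ∈ A, β (g * h) = β g * β h) (hx : ∀ i t, β (x i t) = g2M t i)
    (nf : ∀ g ∈ A, ∃ a b c d e f, g = x 0 a * x 1 b * x 2 c * x 3 d * x 4 e * x 5 f) {τ : Γ → Γ}
    (hτ : ∀ g ∈ A, ∀ h ∈ A, τ (g * h) = τ g * τ h) (τ0 : ∀ t, τ (x 0 t) = x 1 (θ t ^ 3))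
    (τ1 : ∀ t, τ (x 1 t) = x 0 (θ t)) (τ2 : ∀ t, τ (x 2 t) = x 4 (θ t ^ 3))
    (τ3 : ∀ t, τ (x 3 t) = x 5 (θ t ^ 3)) (τ4 : ∀ t, τ (x 4 t) = x 2 (θ t))
    (τ5 : ∀ t, τ (x 5 t) = x 3 (θ t)) {w : F → F → F → Γ}
    (hw : ∀ t u v, w t u v = x 0 (θ t) * x 1 t * x 2 (θ t * t + θ u) * x 3 (θ t ^ 2 * t + θ v) *
      x 4 u * x 5 v) :
    (∀ t u v, τ (w t u v) = w t u v) ∧ (∀ g ∈ A, τ g = g → ∃ t u v, g = w t u v) ∧
      w 1 0 0 ≠ 1 := by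
  have h3 : (3 : F) = 0 := CharP.cast_eq_zero F 3
  have bP := fun a b c d e f => g2M_prod a b c d e f
    (M := β (x 0 a * x 1 b * x 2 c * x 3 d * x 4 e * x 5 f)) (by simp only [map_mul_six mem β hβ, hx])
  have hτP : ∀ a b c d e f, τ (x 0 a * x 1 b * x 2 c * x 3 d * x 4 e * x 5 f) =
      x 0 (θ b) * x 1 (θ a ^ 3) * x 2 (θ e + θ b * θ a ^ 3) * x 3 (θ f + θ b ^ 2 * θ a ^ 3) *
        x 4 (θ c ^ 3 - θ b ^ 3 * θ a ^ 3) * x 5 (θ d ^ 3 - θ b ^ 3 * (θ a ^ 3) ^ 2) := by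
    intro a b c d e f
    rw [map_mul_six mem τ hτ, τ0, τ1, τ2, τ3, τ4, τ5]
    generalize θ a ^ 3 = b', θ b = a', θ c ^ 3 = e', θ d ^ 3 = f', θ e = c', θ f = d'
    obtain ⟨a, b, c, d, e, f, h⟩ := nf (x 1 b' * x 0 a' * x 4 e' * x 5 f' * x 2 c' * x 3 d')
      (by apply_rules [mul_mem])
    obtain ⟨h0, h1, h2, h4, h5, h6⟩ := bP a b c d e f
    obtain ⟨k0, k1, k2, k4, k5, k6⟩ := g2M_prod' a' b' c' d' e' f'
      (M := β (x 0 a * x 1 b * x 2 c * x 3 d * x 4 e * x 5 f)) (by simp only [← h, map_mul_six mem β hβ, hx])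
    obtain rfl : a = a' := h0.symm.trans k0
    obtain rfl : b = b' := h1.symm.trans k1
    obtain rfl : c = c' + a * b := h2.symm.trans k2
    obtain rfl : d = d' + a ^ 2 * b := by linear_combination h4 - k4
    obtain rfl : e = e' - a ^ 3 * b := by linear_combination h5 - k5
    obtain rfl : f = f' - a ^ 3 * b ^ 2 := by
      linear_combination k6 - h6 + a ^ 3 * b ^ 2 * h3
    exact h
  refine ⟨fun t u v => ?_, fun g hg h => ?_, fun h => ?_⟩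
  · rw [hw, hτP, hθ, add_comm (θ u), add_comm (θ v)]
    simp only [map_add, map_mul, map_pow, add_pow_char, mul_pow, hθ, ← pow_mul (θ (θ t)) 2 3,
      mul_comm 2 3, pow_mul]
    congr 3 <;> ring
  · obtain ⟨a, b, c, d, e, f, rfl⟩ := nf g hg
    obtain ⟨h0, h1, h2, h4, -⟩ := bP a b c d e f
    rw [← h, hτP] at h0 h1 h2 h4
    obtain ⟨k0, k1, k2, k4, -⟩ := bP (θ b) (θ a ^ 3) (θ e + θ b * θ a ^ 3)
      (θ f + θ b ^ 2 * θ a ^ 3) (θ c ^ 3 - θ b ^ 3 * θ a ^ 3) (θ d ^ 3 - θ b ^ 3 * (θ a ^ 3) ^ 2)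
    rw [k0] at h0
    rw [k1] at h1
    rw [k2, h1] at h2
    rw [k4, h1, neg_inj] at h4
    exact ⟨b, e, f, by rw [hw, add_comm _ (θ e), add_comm _ (θ f), h2, h4, h0]⟩
  · have h1 := (bP (θ 1) 1 (θ 1 * 1 + θ 0) (θ 1 ^ 2 * 1 + θ 0) 0 0).2.1
    rw [← hw, h] at h1
    have h2 := congrFun₂ (hβ 1 (one_mem A) 1 (one_mem A)) 1 2
    have h4 := hβ 1 (one_mem A) _ (mem 0 0)
    rw [one_mul, hx] at h4
    have h5 := congrFun₂ h4 1 2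
    simp [g2M, mul_apply, Fin.sum_univ_seven, h1] at h5

end LT
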