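import Cfsg.Agent.Lib.Lie.ChevCo
import Cfsg.Agent.Lib.Lie.TwClass
import Cfsg.Agent.Lib.Lin.SuzMat

/-!
# Fixed points of the exceptional symmetries in the classes of roots
-/

set_option autoImplicit false
set_option linter.unusedSectionVars false

namespace LT

open Cfsg Cfsg.Lie GT Subgroup
open scoped commutatorElement

theorem sq_mem_of_suzuki {F Γ : Type*} [Field F] [Finite F] [CharP F 2] [Group Γ] (θ : F →+* F)
    (hθ : ∀ t, θ (θ t) ^ 2 = t) (hF : 2 < Nat.card F) {w : F → F → Γ}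
    (hw : ∀ t u s v, w t u * w s v = w (t + s) (u + v + θ t * s)) {U : Subgroup Γ}
    (hU : ∀ t u, w t u ∈ U) (t u : F) : w t u ^ 2 ∈ ⁅U, U⁆ := by
  have h2 := CharTwo.two_eq_zero (R := F)
  let H : AddSubgroup F :=
    { carrier := {c | w 0 c ∈ ⁅U, U⁆}
      add_mem' := fun {c d} hc hd => by simpa [hw] using mul_mem (s := ⁅U, U⁆) hc hd
      zero_mem' := by
        have := hw 0 0 0 0
        simp only [add_zero, mul_zero, mul_eq_left] at this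
        exact (this ▸ one_mem _ : w 0 0 ∈ ⁅U, U⁆)
      neg_mem' := fun {c} hc => by rwa [CharTwo.neg_eq] }
  have h1 : ∀ t s, θ t * s + θ s * t ∈ H := fun t s => by
    have h3 : w 0 (θ t * s + θ s * t) * (w s 0 * w t 0) = w t 0 * w s 0 := by
      rw [hw, hw, hw, zero_add, add_comm s t]
      congr 1
      simp only [map_zero]
      linear_combination (θ s * t) * h2
    change w 0 _ ∈ ⁅U, U⁆
    rw [eq_mul_inv_of_mul_eq h3, mul_inv_rev, ← mul_assoc, ← commutatorElement_def]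
    exact commutator_mem_commutator (hU ..) (hU ..)
  have h3 : H = ⊤ := by
    by_contra h3
    let T : LG.Tits F := ⟨(frobenius F 2).comp θ, fun x => by simp [frobenius_def, hθ]⟩
    have h4 : ∀ a c, c * T.θ a + a * T.θ c ∈ H := fun a c => by
      have := h1 (θ c ^ 2) (θ a ^ 2)
      rwa [map_pow, map_pow, hθ, hθ] at this
    obtain ⟨a, ha0, ha1⟩ : ∃ a : F, a ≠ 0 ∧ a ≠ 1 := by
      by_contra! h
      have := Set.ncard_le_ncard (s := Set.univ) (t := {0, 1})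
        fun a _ => (eq_or_ne a 0).imp_right (h a)
      rw [Set.ncard_univ, Set.ncard_pair zero_ne_one] at this
      omega
    exact ha1 (T.rad_unique h3 ha0 one_ne_zero (h4 a) (h4 1))
  have h4 : w 0 (θ t * t) ∈ ⁅U, U⁆ := h3.ge (AddSubgroup.mem_top (θ t * t))
  rwa [pow_two, hw, CharTwo.add_self_eq_zero, CharTwo.add_self_eq_zero, zero_add]

theorem Sym.UJ_eq {ι R Γ : Type*} [Fintype ι] [DecidableEq ι] [Finite R] [Group Γ] [Finite Γ]
    {p : ℕ} [Fact p.Prime] {Φ : RootSys ι R} {D : RGD p Γ Φ} (T : Sym D)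
    (hπ : ∀ i, T.π (T.π i) = i) (i : ι) {l l' : List R}
    (h : ∀ r, ((∀ j, 0 ≤ Φ.wt r j) ∧ (∀ j, ¬ (j = i ∨ j = T.π i) → Φ.wt r j = 0) ↔ r ∈ l) ∧
      (¬ (∀ j, 0 ≤ Φ.wt r j) ∧ (∀ j, ¬ (j = i ∨ j = T.π i) → Φ.wt r j = 0) ↔ r ∈ l')) :
    D.UJ (T.orb i) = XS D.X (· ∈ l) ∧ D.VJ (T.orb i) = XS D.X (· ∈ l') := by
  have h1 : ∀ r, Φ.sub (T.orb i) r ↔ ∀ j, ¬ (j = i ∨ j = T.π i) → Φ.wt r j = 0 := fun r =>
    forall_congr' fun j => imp_congr_left (not_congr (sameCycle_iff_of_invol hπ))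
  exact ⟨congrArg _ (funext fun r => propext ((and_congr_right' (h1 r)).trans (h r).1)),
    congrArg _ (funext fun r => propext ((and_congr_right' (h1 r)).trans (h r).2))⟩

/-- The monomials of `b2M`. -/
def b2L : Fin 4 → Fin 4 → Fin 4 → List (ℕ × ℤ) := fun k i j =>
  if i = j then [(0, 1)] else if (i.val, j.val) ∈
    (![[(0, 1), (2, 3)], [(1, 2)], [(0, 2), (1, 3)], [(0, 3)]] : Fin 4 → List (ℕ × ℕ)) k
    then [(1, 1)] else []

theorem evL_b2L {F : Type*} [Field F] (t : F) (k i j : Fin 4) : evL t (b2L k i j) = b2M t k i j := by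
  fin_cases k <;> fin_cases i <;> fin_cases j <;> simp [b2L, b2M, evL]

/-- The monomials of `g2M`. -/
def g2L : Fin 6 → Fin 7 → Fin 7 → List (ℕ × ℤ) := fun k i j =>
  if i = j then [(0, 1)] else
    (((![[(0, 1, 1, 1), (2, 3, 1, 1), (2, 4, 2, -1), (3, 4, 1, 1), (5, 6, 1, -1)],
      [(1, 2, 1, 1), (4, 5, 1, -1)],
      [(0, 2, 1, -1), (1, 3, 1, 1), (1, 5, 2, -1), (3, 5, 1, 1), (4, 6, 1, 1)],
      [(0, 3, 1, -1), (0, 6, 2, -1), (1, 4, 1, -1), (2, 5, 1, 1), (3, 6, 1, -1)],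
      [(0, 4, 1, -1), (2, 6, 1, 1)], [(0, 5, 1, -1), (1, 6, 1, 1)]] :
        Fin 6 → List (ℕ × ℕ × ℕ × ℤ)) k).filter fun q => q.1 = i.val ∧ q.2.1 = j.val).map
      fun q => q.2.2

theorem evL_g2L {F : Type*} [Field F] (t : F) (k : Fin 6) (i j : Fin 7) :
    evL t (g2L k i j) = g2M t k i j := by
  fin_cases k <;> fin_cases i <;> fin_cases j <;> simp [g2L, g2M, evL]

/-- The condition for splitting off the root group of `a`. -/
def SplitOK {ι R : Type*} (wt : R → ι → ℤ) (neg : R → R) : List R → Prop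
  | [] => True
  | a :: l => (∀ b ∈ l, b ≠ a ∧ b ≠ neg a ∧ ∀ c, coneB wt a b c → c ∈ l) ∧ SplitOK wt neg l

instance decSplitOK {ι R : Type*} [Fintype ι] [Fintype R] [DecidableEq R] (wt : R → ι → ℤ)
    (neg : R → R) : ∀ l, Decidable (SplitOK wt neg l)
  | [] => isTrue trivial
  | _ :: l => @instDecidableAnd _ _ _ (decSplitOK wt neg l)

variable {F : Type*} [Field F] [Finite F] {p : ℕ} [Fact p.Prime] [CharP F p] {D : ChevalleyDatum}
  {Φ : RootSys (Fin D.rank) (Fin D.nroots)} (C : Chev F Φ)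

theorem Chev.exists_prod (p : ℕ) [Fact p.Prime] [CharP F p] {l : List (Fin D.nroots)} (h : SplitOK Φ.wt Φ.neg l) {g : GL D.Idx F}
    (hg : g ∈ XS C.X (· ∈ l)) : ∃ c : ℕ → F, g = (l.zipIdx.map fun q => C.x q.1 (c q.2)).prod := by
  induction l generalizing g with
  | nil => exact ⟨0, XS_nil hg⟩
  | cons a l ih =>
    obtain ⟨x, hx, y, hy, rfl⟩ := (C.rgd p).XS_cons h.1 hg
    obtain ⟨t, rfl⟩ := C.mem_X hx
    obtain ⟨c, rfl⟩ := ih h.2 hy
    exact ⟨fun n => n.casesOn t c, by simp [List.zipIdx_succ, Function.comp_def]⟩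

variable (hx : ∀ r t, (C.x r t).1 = D.xMat F r t) {θ : F →+* F} (hθ : ∀ t, θ (θ t) ^ p = t)
  {ρ : Fin D.nroots → Fin D.nroots} {lam : Fin D.nroots → ℕ}
  {T : Sym (C.rgd p)} (hT : ∀ r t, T.τ (C.x r t) = C.x (ρ r) (θ t ^ lam r))

include hx hθ hT

theorem Chev.pair_class (a b : Fin D.nroots) (k : Fin D.rank)
    (h1 : b ≠ a ∧ b ≠ Φ.neg a ∧ ∀ c, ¬ coneB Φ.wt a b c)
    (h : nfL p (coL D a (.inr a) (.inl k)) = [(1, 1)] ∧ nfL p (coL D b (.inr a) (.inl k)) = [] ∧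
      ρ a = b ∧ ρ b = a ∧ lam a = p ∧ lam b = 1) {A : Subgroup (GL D.Idx F)}
    (hA : A = XS C.X (· ∈ [a, b])) :
    (∀ t, C.x a (θ t) * C.x b t ∈ A ⊓ T.F) ∧
      (∀ g ∈ A ⊓ T.F, g ^ p = 1 ∧ ∃ t, g = C.x a (θ t) * C.x b t) ∧
      C.x a (θ 1) * C.x b 1 ≠ 1 := by
  obtain ⟨h2, h3, h4, h5, h6, h7⟩ := h
  subst hA
  have hc : ∀ s t, C.x a s * C.x b t = C.x b t * C.x a s := fun s t =>
    (C.rgd p).commute h1 (C.x_mem a s) (C.x_mem b t)
  have hi : ∀ s t, C.x a s = C.x b t → s = 0 := fun s t h => by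
    have := C.x_apply (p := p) hx a s (.inr a) (.inl k)
    rw [h, C.x_apply (p := p) hx, h2, h3] at this
    simpa [evL] using this.symm
  have hG : ∀ r t, C.x r t ∈ (C.rgd p).G := fun r t => mem_XS trivial (C.x_mem r t)
  have hτ : ∀ s t, T.τ (C.x a s * C.x b t) = C.x a (θ t) * C.x b (θ s ^ p) := fun s t => by
    rw [T.mul _ (hG ..) _ (hG ..), hT, hT, h4, h5, h6, h7, pow_one, hc]
  have hp : ∀ r t (n : ℕ), C.x r t ^ n = C.x r (n * t) := fun r t n => by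
    induction n with
    | zero => simp [C.zero]
    | succ n ih => rw [pow_succ, ih, ← C.add, Nat.cast_succ, add_one_mul]
  refine ⟨fun t => ⟨mul_mem (mem_XS (by simp) (C.x_mem a _)) (mem_XS (by simp) (C.x_mem b _)),
    mul_mem (hG ..) (hG ..), by rw [hτ, hθ]⟩, fun g hg => ?_, fun h => ?_⟩
  · obtain ⟨c, rfl⟩ := C.exists_prod p (l := [a, b]) ⟨by
      simpa using ⟨h1.1, h1.2.1, fun c hc => (h1.2.2 c hc).elim⟩, by simp, trivial⟩ hg.1
    have h8 := hg.2.2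
    simp only [List.zipIdx, List.map, List.prod_cons, List.prod_nil, mul_one] at h8 ⊢
    refine ⟨?_, c (0 + 1), ?_⟩
    · rw [Commute.mul_pow (hc ..), hp, hp, CharP.cast_eq_zero, zero_mul, zero_mul, C.zero, C.zero,
        one_mul]
    · rw [hτ] at h8
      have h9 := hi (-c 0 + θ (c (0 + 1))) (c (0 + 1) + -θ (c 0) ^ p) (by
        rw [C.add, C.add, C.neg, C.neg, inv_mul_eq_iff_eq_mul, ← mul_assoc, ← h8,
          mul_inv_cancel_right])
      rw [neg_add_eq_zero.1 h9]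
  · simpa using hi _ _ ((eq_inv_of_mul_eq_one_left h).trans (C.neg ..).symm)

omit hx hθ hT

theorem Chev.b2_class [CharP F 2] (hθ : ∀ t, θ (θ t) ^ 2 = t)
    (hx : ∀ r t, (C.x r t).1 = D.xMat F r t) {T : Sym (C.rgd 2)}
    (hT : ∀ r t, T.τ (C.x r t) = C.x (ρ r) (θ t ^ lam r)) (r : Fin 4 → Fin D.nroots)
    (f : Fin 4 → D.Idx) (h5 : SplitOK Φ.wt Φ.neg [r 0, r 1, r 2, r 3])
    (h : Function.Injective f ∧
      (∀ k i j, (∀ l, f l ≠ i) → nfL 2 (coL D (r k) i (f j)) = []) ∧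
      (∀ k i j, nfL 2 (coL D (r k) (f i) (f j)) = b2L k i j) ∧
      ∀ k, ρ (r k) = r (![1, 0, 3, 2] k) ∧ lam (r k) = ![2, 1, 2, 1] k)
    (hF : 2 < Nat.card F) {A : Subgroup (GL D.Idx F)}
    (hA : A = XS C.X (· ∈ [r 0, r 1, r 2, r 3])) {w : F → F → GL D.Idx F}
    (hw : ∀ t u, w t u = C.x (r 0) (θ t) * C.x (r 1) t * C.x (r 2) (θ t * t + u) *
      C.x (r 3) (θ u ^ 2)) : (∀ t u, w t u ∈ A ⊓ T.F) ∧
      (∀ g ∈ A ⊓ T.F, g ^ 2 ∈ ⁅A ⊓ T.F, A ⊓ T.F⁆ ∧ ∃ t u, g = w t u) ∧ w 1 0 ≠ 1 := by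
  obtain ⟨h1, h2, h3, h4⟩ := h
  have hAG : A ≤ (C.rgd 2).G := hA ▸ (C.rgd 2).le_G _
  have mem : ∀ k t, C.x (r k) t ∈ A := fun k t =>
    hA ▸ mem_XS (by fin_cases k <;> simp) (C.x_mem (r k) t)
  obtain ⟨k1, k2, k3, k4⟩ := LT.b2_class θ hθ (x := fun k => C.x (r k)) mem
    (β := fun g => g.1.submatrix f f)
    (fun g _ k hk => C.submatrix_mul (p := 2) hx h1 (fun c hc => by
      simp only [List.mem_cons, List.not_mem_nil, or_false] at hc
      rcases hc with rfl | rfl | rfl | rfl <;> exact h2 _) g (hA ▸ hk))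
    (fun k t => Matrix.ext fun i j => by
      rw [Matrix.submatrix_apply, C.x_apply (p := 2) hx, h3, evL_b2L])
    (fun g hg => by
      obtain ⟨c, rfl⟩ := C.exists_prod 2 h5 (hA ▸ hg)
      exact ⟨c 0, c 1, c 2, c 3, by simp [List.zipIdx, mul_assoc]⟩)
    (τ := T.τ) (fun g hg k hk => T.mul g (hAG hg) k (hAG hk))
    (fun t => by rw [hT, (h4 0).1, (h4 0).2]; rfl) (fun t => by rw [hT, (h4 1).1, (h4 1).2]; simp)
    (fun t => by rw [hT, (h4 2).1, (h4 2).2]; rfl) (fun t => by rw [hT, (h4 3).1, (h4 3).2]; simp)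
    hw
  have h8 : ∀ t u, w t u ∈ A ⊓ T.F := fun t u => by
    have : w t u ∈ A := by rw [hw]; apply_rules [mul_mem]
    exact ⟨this, hAG this, k1 t u⟩
  refine ⟨h8, fun g hg => ?_, k4⟩
  obtain ⟨t, u, rfl⟩ := k2 g hg.1 hg.2.2
  exact ⟨sq_mem_of_suzuki θ hθ hF k3 h8 t u, t, u, rfl⟩

theorem Chev.g2_class [CharP F 3] (hθ : ∀ t, θ (θ t) ^ 3 = t)
    (hx : ∀ r t, (C.x r t).1 = D.xMat F r t) {T : Sym (C.rgd 3)}
    (hT : ∀ r t, T.τ (C.x r t) = C.x (ρ r) (θ t ^ lam r)) (r : Fin 6 → Fin D.nroots)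
    (f : Fin 7 → D.Idx) (h5 : SplitOK Φ.wt Φ.neg [r 0, r 1, r 2, r 3, r 4, r 5]) (ε : ℕ)
    (h : Function.Injective f ∧
      (∀ k i j, (∀ l, f l ≠ i) → nfL 3 (coL D (r k) i (f j)) = []) ∧
      (∀ k i j, ((nfL 3 (coL D (r k) (f i) (f j))).map fun km =>
        (km.1, ((-1) ^ ε) ^ km.1 * km.2)) = g2L k i j) ∧
      ∀ k, ρ (r k) = r (![1, 0, 4, 5, 2, 3] k) ∧ lam (r k) = ![3, 1, 3, 3, 1, 1] k)
    {A : Subgroup (GL D.Idx F)} (hA : A = XS C.X (· ∈ [r 0, r 1, r 2, r 3, r 4, r 5]))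
    {w : F → F → F → GL D.Idx F}
    (hw : ∀ t u v, w t u v = C.x (r 0) ((-1) ^ ε * θ t) * C.x (r 1) ((-1) ^ ε * t) *
      C.x (r 2) ((-1) ^ ε * (θ t * t + θ u)) * C.x (r 3) ((-1) ^ ε * (θ t ^ 2 * t + θ v)) *
      C.x (r 4) ((-1) ^ ε * u) * C.x (r 5) ((-1) ^ ε * v)) :
    (∀ t u v, w t u v ∈ A ⊓ T.F) ∧ (∀ g ∈ A ⊓ T.F, ∃ t u v, g = w t u v) ∧ w 1 0 0 ≠ 1 := by
  obtain ⟨h1, h2, h3, h4⟩ := h
  have hAG : A ≤ (C.rgd 3).G := hA ▸ (C.rgd 3).le_G _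
  have mem : ∀ k t, C.x (r k) t ∈ A := fun k t =>
    hA ▸ mem_XS (by fin_cases k <;> simp) (C.x_mem (r k) t)
  have he : ((-1 : F) ^ ε) ^ 3 = (-1) ^ ε := by rcases neg_one_pow_eq_or F ε with h | h <;> rw [h] <;> ring
  have he2 : ∀ t : F, (-1 : F) ^ ε * ((-1) ^ ε * t) = t := fun t => by
    rw [← mul_assoc, ← mul_pow]; simp
  obtain ⟨k1, k2, k3⟩ := LT.g2_class θ hθ (x := fun k t => C.x (r k) ((-1) ^ ε * t))
    (fun k t => mem k _) (β := fun g => g.1.submatrix f f)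
    (fun g _ k hk => C.submatrix_mul (p := 3) hx h1 (fun c hc => by
      simp only [List.mem_cons, List.not_mem_nil, or_false] at hc
      rcases hc with rfl | rfl | rfl | rfl | rfl | rfl <;> exact h2 _) g (hA ▸ hk))
    (fun k t => Matrix.ext fun i j => by
      rw [Matrix.submatrix_apply, C.x_apply (p := 3) hx, ← evL_g2L, ← h3]
      simp [evL, Function.comp_def, mul_pow, mul_assoc, mul_left_comm])
    (fun g hg => by
      obtain ⟨c, rfl⟩ := C.exists_prod 3 h5 (hA ▸ hg)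
      exact ⟨(-1) ^ ε * c 0, (-1) ^ ε * c 1, (-1) ^ ε * c 2, (-1) ^ ε * c 3, (-1) ^ ε * c 4,
        (-1) ^ ε * c 5, by simp [List.zipIdx, mul_assoc, he2]⟩)
    (τ := T.τ) (fun g hg k hk => T.mul g (hAG hg) k (hAG hk))
    (fun t => by rw [hT, (h4 0).1, (h4 0).2]; simp [mul_pow, he])
    (fun t => by rw [hT, (h4 1).1, (h4 1).2]; simp)
    (fun t => by rw [hT, (h4 2).1, (h4 2).2]; simp [mul_pow, he])
    (fun t => by rw [hT, (h4 3).1, (h4 3).2]; simp [mul_pow, he])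
    (fun t => by rw [hT, (h4 4).1, (h4 4).2]; simp)
    (fun t => by rw [hT, (h4 5).1, (h4 5).2]; simp) hw
  refine ⟨fun t u v => ?_, fun g hg => k2 g hg.1 hg.2.2, k3⟩
  have : w t u v ∈ A := by rw [hw]; apply_rules [mul_mem]
  exact ⟨this, hAG this, k1 t u v⟩

end LT
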