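import Cfsg.Agent.Lib.Lie.SymRel
import Cfsg.Agent.Lib.Lie.Chev
import Cfsg.Prelude.Def_ChevWords

/-!
# Entries of root elements; exceptional symmetries of matrix Chevalley groups
-/

set_option autoImplicit false
set_option linter.unusedSectionVars false

namespace LT

open Cfsg Cfsg.Lie GT Subgroup

section Split

variable {ι R : Type*} [Fintype ι] [DecidableEq ι] [Finite R] {Γ : Type*} [Group Γ] [Finite Γ]
variable {p : ℕ} [hp : Fact p.Prime] {Φ : RootSys ι R}

/-- A decidable consequence of `RootSys.cone`. -/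
def coneB (wt : R → ι → ℤ) (a b c : R) : Prop :=
  ∀ k, (0 ≤ wt a k → 0 ≤ wt b k → wt a k + wt b k ≤ wt c k) ∧
    (wt a k ≤ 0 → wt b k ≤ 0 → wt c k ≤ wt a k + wt b k)

instance decConeB (wt : R → ι → ℤ) (a b c : R) : Decidable (coneB wt a b c) :=
  inferInstanceAs (Decidable (∀ _, _ ∧ _))

theorem coneB_of_cone {a b c : R} (h : Φ.cone a b c) : coneB Φ.wt a b c := fun k => by
  obtain ⟨i, j, hi, hj, h⟩ := h
  rw [h, Pi.add_apply, Pi.smul_apply, Pi.smul_apply, smul_eq_mul, smul_eq_mul]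
  constructor <;> intro h1 h2 <;> nlinarith

theorem XS_nil {X : R → Subgroup Γ} {g : Γ} (hg : g ∈ XS X (· ∈ ([] : List R))) : g = 1 :=
  XS_le (K := ⊥) (fun _ h => absurd h List.not_mem_nil) hg

theorem RGD.XS_cons (D : RGD p Γ Φ) {a : R} {l : List R}
    (h : ∀ b ∈ l, b ≠ a ∧ b ≠ Φ.neg a ∧ ∀ c, coneB Φ.wt a b c → c ∈ l) {g : Γ}
    (hg : g ∈ XS D.X (· ∈ a :: l)) : ∃ x ∈ D.X a, ∃ y ∈ XS D.X (· ∈ l), x * y = g := by
  have h1 : D.X a ≤ normalizer (XS D.X (· ∈ l) : Set Γ) := fun x hx =>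
    mem_normalizer_of fun y => conj_mem_XS fun b hb y hy => by
      have := XS_mono (fun c hc => (h b hb).2.2 c (coneB_of_cone hc))
        (D.comm a b (h b hb).1 (h b hb).2.1 x hx y hy)
      simpa using mul_mem this (mem_XS (Ψ := (· ∈ l)) hb hy)
  have h2 : g ∈ ((D.X a ⊔ XS D.X (· ∈ l) : Subgroup Γ) : Set Γ) :=
    XS_le (fun r hr => (List.mem_cons.1 hr).elim (fun h => h ▸ le_sup_left)
      fun h x hx => mem_sup_right (mem_XS h hx)) hg
  rwa [coe_mul_of_left_le_normalizer_right _ _ h1] at h2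

theorem RGD.commute (D : RGD p Γ Φ) {a b : R}
    (h : b ≠ a ∧ b ≠ Φ.neg a ∧ ∀ c, ¬ coneB Φ.wt a b c) {x y : Γ} (hx : x ∈ D.X a)
    (hy : y ∈ D.X b) : x * y = y * x := by
  have := XS_nil (XS_mono (fun c hc => (h.2.2 c (coneB_of_cone hc)).elim)
    (D.comm a b h.1 h.2.1 x hx y hy))
  rwa [mul_inv_eq_one, mul_inv_eq_iff_eq_mul] at this

theorem sameCycle_iff_of_invol {π : Equiv.Perm ι} (h : ∀ i, π (π i) = i) {i j : ι} :
    π.SameCycle i j ↔ j = i ∨ j = π i := by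
  refine ⟨fun h1 => ?_, fun h1 => h1.elim (fun h => h ▸ .refl _ _) fun h => h ▸ ⟨1, rfl⟩⟩
  obtain ⟨k, rfl⟩ := h1.exists_nat_pow_eq
  clear h1
  induction k with
  | zero => exact Or.inl rfl
  | succ k ih =>
    rw [pow_succ', Equiv.Perm.mul_apply]
    exact ih.elim (fun h1 => Or.inr (by rw [h1])) fun h1 => Or.inl (by rw [h1, h])

end Split

variable {F : Type*} [Field F]

theorem BTri.submatrix_mul {I J : Type*} [Fintype I] [DecidableEq I] [Fintype J] {f : J → I}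
    (hf : Function.Injective f) {g h : Matrix I I F} (hh : BTri (· ∈ Set.range f) h) :
    (g * h).submatrix f f = g.submatrix f f * h.submatrix f f := by
  classical
  ext i j
  rw [Matrix.submatrix_apply, hh.mul_apply _ ⟨j, rfl⟩, Matrix.mul_apply,
    show Finset.univ.filter (· ∈ Set.range f) = Finset.univ.image f by ext; simp,
    Finset.sum_image hf.injOn]
  rfl

/-- Evaluation of a list of monomials. -/
def evL (t : F) (l : List (ℕ × ℤ)) : F := (l.map fun km => ((km.2 : ℤ) : F) * t ^ km.1).sum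

/-- The monomials of an entry of a root element. -/
def coL (D : ChevalleyDatum) (r : Fin D.nroots) : D.Idx → D.Idx → List (ℕ × ℤ)
  | .inl i', .inl i => if i' = i then [(0, 1)] else []
  | .inr u, .inl i => if u = r then [(1, -((D.cartanSR.getD i.val #[]).getD r.val 0))] else []
  | .inl i, .inr s =>
    if s ≠ r ∧ s.val = D.negIdx.getD r.val 0 then [(1, (D.coroot.getD r.val #[]).getD i.val 0)]
    else []
  | .inr u, .inr s =>
    if u = s then (0, 1) :: (if s = r ∨ s.val = D.negIdx.getD r.val 0 then []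
      else D.chainCoeff r.val s.val u.val)
    else if s = r then [] else if s.val = D.negIdx.getD r.val 0 then
      (if u = r then [(2, -1)] else []) else D.chainCoeff r.val s.val u.val

theorem xMat_eq_evL (D : ChevalleyDatum) (r : Fin D.nroots) (t : F) (i j : D.Idx) :
    D.xMat F r t i j = evL t (coL D r i j) := by
  rcases i with i | i <;> rcases j with j | j <;>
    simp only [ChevalleyDatum.xMat, Matrix.of_apply, coL] <;> split_ifs <;> simp_all [evL]

/-- Reduction of the coefficients modulo `p`. -/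
def nfL (p : ℕ) (l : List (ℕ × ℤ)) : List (ℕ × ℤ) :=
  (l.map fun km : ℕ × ℤ =>
    (km.1, if 2 * (km.2 % p) ≤ p then km.2 % p else km.2 % p - p)).filter
    fun km => km.2 != 0

theorem evL_nfL (p : ℕ) [CharP F p] (t : F) (l : List (ℕ × ℤ)) : evL t (nfL p l) = evL t l := by
  induction l with
  | nil => rfl
  | cons a l ih =>
    have h1 : (((if 2 * (a.2 % p) ≤ p then a.2 % p else a.2 % p - p) : ℤ) : F) = a.2 := by
      split_ifs <;> simp [(CharP.intCast_eq_intCast F p).2 (Int.mod_modEq a.2 p)]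
    simp only [nfL, evL, List.map_cons, List.filter_cons, List.sum_cons] at *
    generalize (if 2 * (a.2 % p) ≤ p then a.2 % p else a.2 % p - p) = c at h1 ⊢
    split_ifs with h
    · simp [ih, h1]
    · rw [ih, ← h1, show c = 0 by simpa using h]; simp

theorem evL_pow (t : F) (n : ℕ) (l : List (ℕ × ℤ)) :
    evL (t ^ n) l = evL t (l.map fun km => (n * km.1, km.2)) := by
  simp [evL, Function.comp_def, pow_mul]

theorem evL_neg (t : F) (l : List (ℕ × ℤ)) :
    evL (-t) l = evL t (l.map fun km => (km.1, (-1) ^ km.1 * km.2)) := by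
  simp [evL, Function.comp_def, neg_pow t, mul_assoc, mul_left_comm]

theorem map_evL (θ : F →+* F) (t : F) (l : List (ℕ × ℤ)) : θ (evL t l) = evL (θ t) l := by
  simp [evL, map_list_sum, Function.comp_def]

variable {p : ℕ} [hp : Fact p.Prime] [CharP F p] [Finite F] {D : ChevalleyDatum}
  {Φ : RootSys (Fin D.rank) (Fin D.nroots)} (C : Chev F Φ)
  (hx : ∀ r t, (C.x r t).1 = D.xMat F r t)

/-- The root elements indexed by natural numbers. -/
def Chev.xN (r : ℕ) (t : F) : GL D.Idx F := if h : r < D.nroots then C.x ⟨r, h⟩ t else 1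

/-- The group element of a word. -/
def Chev.word (w : List (ℕ × F)) : GL D.Idx F := (w.map fun q => C.xN q.1 q.2).prod

include hx

theorem Chev.x_apply (r : Fin D.nroots) (t : F) (i j : D.Idx) :
    (C.x r t).1 i j = evL t (nfL p (coL D r i j)) := by
  rw [hx, xMat_eq_evL, evL_nfL]

theorem Chev.genSubgroup_eq (S : Set (List (ℕ × F))) :
    D.genSubgroup F S = closure (C.word '' S) := by
  have h1 : ∀ w, (C.word w).1 = D.wordMat F w := fun w => by
    induction w with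
    | nil => rfl
    | cons a w ih =>
      rw [Chev.word, ChevalleyDatum.wordMat, List.map_cons, List.prod_cons, List.map_cons,
        List.prod_cons, Units.val_mul]
      refine congrArg₂ _ ?_ ih
      rw [Chev.xN, ChevalleyDatum.x]
      split_ifs
      · exact hx _ _
      · rfl
  exact congrArg Subgroup.closure (Set.ext fun g => ⟨fun ⟨w, hw, h⟩ => ⟨w, hw, Units.ext (h ▸ h1 w)⟩,
    fun ⟨w, hw, h⟩ => ⟨w, hw, h ▸ h1 w⟩⟩)

theorem Chev.btri {S : D.Idx → Prop} {Ψ : Fin D.nroots → Prop}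
    (h : ∀ r, Ψ r → ∀ i j, ¬ S i → S j → nfL p (coL D r i j) = []) {g : GL D.Idx F}
    (hg : g ∈ XS C.X Ψ) : BTri S g.1 := by
  classical
  refine XS_le (K := toSub ⟨⟨{g : GL D.Idx F | BTri S g.1}, fun hg hh => hg.mul hh⟩, BTri.one⟩)
    (fun r hr g hg => ?_) hg
  obtain ⟨t, rfl⟩ := C.mem_X hg
  exact fun i j hi hj => by rw [C.x_apply (p := p) hx, h r hr i j hi hj]; rfl

theorem Chev.exists_sym_block (S : D.Idx → Prop) [DecidablePred S] (κ : Equiv.Perm D.Idx)
    (ρ : Equiv.Perm (Fin D.nroots)) (π : Equiv.Perm (Fin D.rank)) (lam : Fin D.nroots → ℕ)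
    (θ : F →+* F) (hθ : ∀ t, θ (θ t) ^ p = t) (hκ : ∀ i, S (κ i) ↔ ¬ S i)
    (hρ : ∀ r, ρ (ρ r) = r ∧ lam r * lam (ρ r) = p)
    (h1 : ∀ r i j, ¬ S i → S j → nfL p (coL D r i j) = [])
    (h2 : ∀ r i j, S i → S j → nfL p (coL D r (κ i) (κ j)) =
      (nfL p (coL D (ρ r) i j)).map fun km => (lam r * km.1, km.2))
    (ρ_pos : ∀ r, Φ.pos (ρ r) ↔ Φ.pos r) (ρ_zero : ∀ r i, Φ.wt (ρ r) (π i) = 0 ↔ Φ.wt r i = 0)
    (ρ_smp : ∀ i, ρ (Φ.smp i) = Φ.smp (π i)) (ρ_σ : ∀ i r, ρ (Φ.σ i r) = Φ.σ (π i) (ρ r)) :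
    ∃ T : Sym (C.rgd p), T.π = π ∧ ∀ r t, T.τ (C.x r t) = C.x (ρ r) (θ t ^ lam r) := by
  have h3 : ∀ g ∈ (C.rgd p).G, BTri S g.1 := fun g hg => C.btri hx (fun r _ => h1 r) hg
  have h4 : ∀ r t i j, S i → S j →
      (C.x r t).1 (κ i) (κ j) = (C.x (ρ r) (t ^ lam r)).1 i j := fun r t i j hi hj => by
    rw [C.x_apply (p := p) hx, C.x_apply (p := p) hx, h2 r i j hi hj, evL_pow]
  have h5 : ∀ (φ : F →+* F) r t i j, φ ((C.x r t).1 i j) = (C.x r (φ t)).1 i j :=
    fun φ r t i j => by rw [hx, hx, xMat_eq_evL, xMat_eq_evL, map_evL]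
  have h6 : ∀ r t, BRel S κ θ ((frobenius F p).comp θ) (C.x r t).1
      (C.x (ρ r) (θ t ^ lam r)).1 := fun r t i j hi hj => by
    rw [h5, h5, h4 _ _ i j hi hj, h4 _ _ i j hi hj, (hρ r).1, ← pow_mul, (hρ r).2]
    exact ⟨rfl, rfl⟩
  obtain ⟨T, hT, h7, -⟩ := exists_sym_of_rel (C.rgd p)
    (fun g g' => BRel S κ θ ((frobenius F p).comp θ) g.1 g'.1) ρ π BRel.one
    (fun g hg g' hg' h hh h' hh' => BRel.mul hκ (h3 g hg) (h3 g' hg') (h3 h hh) (h3 h' hh'))
    (fun k hk h => isPElt_of_pow_eq_one (k := 1) (Units.ext (by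
      rw [pow_one, Units.val_pow_eq_pow_val, BRel.pow_eq_one hκ (h3 k hk) h, Units.val_one])))
    (fun r x hx => by
      obtain ⟨t, rfl⟩ := C.mem_X hx
      exact ⟨_, C.x_mem _ _, h6 r t⟩)
    (fun r y hy => by
      obtain ⟨t, rfl⟩ := C.mem_X hy
      refine ⟨_, C.x_mem r (θ t ^ lam (ρ r)), ?_⟩
      have := h6 r (θ t ^ lam (ρ r))
      rwa [map_pow, ← pow_mul, mul_comm, (hρ r).2, hθ] at this) ρ_pos ρ_zero ρ_smp ρ_σ
  exact ⟨T, hT, fun r t => h7 _ (mem_XS trivial (C.x_mem r t)) _ (mem_XS trivial (C.x_mem _ _))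
    (h6 r t)⟩

theorem Chev.submatrix_mul {J : Type*} [Fintype J] {f : J → D.Idx} (hf : Function.Injective f)
    {Ψ : Fin D.nroots → Prop}
    (h : ∀ r, Ψ r → ∀ i j, (∀ k, f k ≠ i) → nfL p (coL D r i (f j)) = []) (g : GL D.Idx F)
    {k : GL D.Idx F} (hk : k ∈ XS C.X Ψ) :
    (g * k).1.submatrix f f = g.1.submatrix f f * k.1.submatrix f f :=
  BTri.submatrix_mul hf (C.btri (p := p) hx (fun r hr i _ hi ⟨j, hj⟩ =>
    hj ▸ h r hr i j fun k hk => hi ⟨k, hk⟩) hk)

end LT
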