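import Cfsg.Agent.Lib.Lie.TabChev

/-!
# Graph-field automorphisms of matrix Chevalley groups and their twisted groups
-/

set_option autoImplicit false
set_option linter.unusedSectionVars false

namespace LT

open Cfsg GT Subgroup RootSys Matrix

variable {ι R : Type*} [Fintype ι] [DecidableEq ι] [Fintype R] [DecidableEq R] {Φ : RootSys ι R}

theorem RootSys.root_ind {P : R → Prop} (h0 : ∀ i, P (Φ.smp i)) (h : ∀ i r, P r → P (Φ.σ i r))
    (r : R) : P r := by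
  have h1 : ∀ (k : ℕ) (w : Equiv.Perm R), w ∈ Φ.W Set.univ → (Φ.inv w).ncard = k →
      ∀ r ∈ Φ.inv w, P r := fun k => by
    induction k using Nat.strong_induction_on with
    | _ k ih =>
    intro w hw hk r hr
    by_cases h2 : ∀ i, Φ.pos (w (Φ.smp i))
    · obtain rfl := eq_one_of_pos hw h2
      exact absurd hr.1 hr.2
    obtain ⟨i, hi⟩ := not_forall.1 h2
    obtain rfl | h3 := eq_or_ne r (Φ.smp i)
    · exact h0 i
    have := h i _ (ih _ (hk ▸ ncard_inv_σ_lt hw hi) _ (mul_mem hw (Φ.σ_mem trivial)) rfl (Φ.σ i r)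
      ⟨(Φ.pos_σ hr.1 h3).1, by rw [Equiv.Perm.mul_apply, σ_σ]; exact hr.2⟩)
    rwa [σ_σ] at this
  obtain ⟨w, hw, h2⟩ := Φ.exists_longest Set.univ
  have h3 : ∀ r, Φ.pos r → P r := fun r hr => h1 _ w hw rfl r ⟨hr, h2 r hr (RGD.sub_univ r)⟩
  by_cases hr : Φ.pos r
  · exact h3 r hr
  have h4 : ∀ v ∈ Φ.W Set.univ, ∀ r, P r → P (v r) := fun v hv =>
    Φ.W_ind (P := fun v => ∀ r, P r → P (v r)) (fun _ h => h) (fun i _ _ _ h' r hr => h i _ (h' r hr)) hv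
  simpa using h4 w hw _ (h3 _ ((pos_inv_of_longest hw h2 (RGD.sub_univ r)).2 hr))

/-- `s` lists the simple roots or their negatives. -/
def RootSys.Sg (Φ : RootSys ι R) (s : ι → R) : Prop :=
  s = Φ.smp ∨ s = fun i => Φ.neg (Φ.smp i)

theorem RootSys.Sg.or {s : ι → R} (hs : Φ.Sg s) (i : ι) :
    s i = Φ.smp i ∨ s i = Φ.neg (Φ.smp i) := hs.imp (congrFun · i) (congrFun · i)

theorem RootSys.Sg.wt {s : ι → R} (hs : Φ.Sg s) : ∃ ε : ℤ, ε ≠ 0 ∧
    ∀ i j, Φ.wt (s i) j = if j = i then ε else 0 := by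
  rcases hs with rfl | rfl
  · exact ⟨1, one_ne_zero, fun i j => by simp [Φ.wt_smp, Pi.single_apply]⟩
  · exact ⟨-1, by simp, fun i j => by simp [Φ.wt_neg, Φ.wt_smp, Pi.single_apply, neg_ite]⟩

theorem RootSys.Sg.inj {s : ι → R} (hs : Φ.Sg s) {i j : ι} (h : s i = s j) : i = j := by
  obtain ⟨ε, hε, h1⟩ := hs.wt
  have := h1 i i
  rw [h, h1] at this
  by_contra h2
  simp [h2, hε.symm] at this

/-- The roots supported on `l` are simple up to sign. -/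
def RootSys.Orth (Φ : RootSys ι R) (l : List ι) : Prop :=
  ∀ r, (∀ j, j ∉ l → Φ.wt r j = 0) → ∃ j ∈ l, r = Φ.smp j ∨ r = Φ.neg (Φ.smp j)

namespace Chev

variable {F : Type*} [Field F] [Finite F] (C : Chev F Φ) {s : ι → R} {l : List ι}

theorem commute_of_orth (hs : Φ.Sg s) (hl : Φ.Orth l) {i j : ι} (hi : i ∈ l) (hj : j ∈ l)
    (t u : F) : Commute (C.x (s i) t) (C.x (s j) u) := by
  obtain rfl | hij := eq_or_ne i j
  · rw [Commute, SemiconjBy, ← C.add, ← C.add, add_comm]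
  obtain ⟨ε, hε, h1⟩ := hs.wt
  have h2 := C.comm' (s i) (s j) (fun h => hij (hs.inj h).symm) (fun h => by
    have := h1 j i
    rw [h, Φ.wt_neg, Pi.neg_apply, h1] at this
    simp [hij, hε] at this) _ (C.x_mem _ t) _ (C.x_mem _ u)
  have h3 : XS C.X (Φ.cone (s i) (s j)) ≤ ⊥ := XS_le fun c ⟨a, b, ha, hb, hc⟩ => by
    have h4 : ∀ k, Φ.wt c k = (if k = i then a * ε else 0) + if k = j then b * ε else 0 :=
      fun k => by simp [hc, h1]
    obtain ⟨k, -, h5⟩ := hl c fun k hk => by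
      rw [h4, if_neg (by rintro rfl; exact hk hi), if_neg (by rintro rfl; exact hk hj), add_zero]
    have h6 : ∀ m, m ≠ k → Φ.wt c m = 0 := fun m hm => by
      rcases h5 with rfl | rfl <;> simp [Φ.wt_neg, Φ.wt_smp, hm]
    have h7 := h4 i
    have h8 := h4 j
    simp only [if_true, hij, hij.symm, if_false, add_zero, zero_add] at h7 h8
    obtain rfl | hk := eq_or_ne i k
    · exact absurd (h8.symm.trans (h6 j hij.symm)) (mul_ne_zero hb.ne' hε)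
    · exact absurd (h7.symm.trans (h6 i hk)) (mul_ne_zero ha.ne' hε)
  exact commutatorElement_eq_one_iff_commute.1 (mem_bot.1 (h3 h2))

theorem eq_zero_of_mem (p : ℕ) [Fact p.Prime] [CharP F p] (hs : Φ.Sg s) {i : ι} {t : F}
    (h : C.x (s i) t ∈ XS C.X fun r => ∃ j, j ≠ i ∧ r = s j) : t = 0 := by
  have h1 := C.N_X (C.ν_mem i) _ _ (C.x_mem (s i) t)
  have h2 : ∀ {Ψ : R → Prop}, (∀ j, j ≠ i → Ψ (Φ.σ i (s j))) →
      C.ν i * C.x (s i) t * (C.ν i)⁻¹ ∈ XS C.X Ψ := fun hΨ =>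
    RGD.conj_XS (D := C.rgd p) (C.ν_mem i) (by rintro _ ⟨j, hj, rfl⟩; exact hΨ j hj) h
  have h3 : ∀ j, j ≠ i → Φ.pos (Φ.σ i (Φ.smp j)) := fun j hj =>
    (Φ.pos_σ (Φ.pos_smp j) fun h => hj (Φ.smp_inj h)).1
  have h4 := fun r => W_neg (Φ.σ_mem (Set.mem_univ i)) r
  refine C.x_ne (hs.or i) (t := t) ?_
  rw [← conj_eq_one_iff (a := C.ν i)]
  rcases hs with rfl | rfl
  · exact (C.rgd p).disj _ (h2 h3) (mem_XS (r := Φ.σ i (Φ.smp i))
      (by rw [σ_smp, pos_neg, not_not]; exact Φ.pos_smp i) h1)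
  · exact (C.rgd p).disj _ (mem_XS (r := Φ.σ i (Φ.neg (Φ.smp i)))
      (by rw [h4, σ_smp, RootSys.neg_neg]; exact Φ.pos_smp i) h1)
      (h2 fun j hj => by rw [h4, pos_neg, not_not]; exact h3 j hj)

/-- The product of the root elements `x (s j) (t j)` over `j ∈ l`. -/
def P (s : ι → R) (l : List ι) (t : ι → F) : GL (ι ⊕ R) F :=
  (l.map fun j => C.x (s j) (t j)).prod

theorem P_mem {K : Subgroup (GL (ι ⊕ R) F)} {t : ι → F} (h : ∀ j ∈ l, C.x (s j) (t j) ∈ K) :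
    C.P s l t ∈ K := list_prod_mem fun _ hx => by
  obtain ⟨j, hj, rfl⟩ := List.mem_map.1 hx
  exact h j hj

theorem P_add (h : ∀ i ∈ l, ∀ j ∈ l, ∀ t u, Commute (C.x (s i) t) (C.x (s j) u)) (t u : ι → F) :
    C.P s l (t + u) = C.P s l t * C.P s l u := by
  induction l with
  | nil => simp [P]
  | cons a l ih =>
    have h1 : Commute (C.x (s a) (u a)) (C.P s l t) := Commute.list_prod_right _ _ fun _ hx => by
      obtain ⟨j, hj, rfl⟩ := List.mem_map.1 hx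
      exact h a (by simp) j (by simp [hj]) _ _
    have h2 := ih fun i hi j hj => h i (by simp [hi]) j (by simp [hj])
    simp only [P, List.map_cons, List.prod_cons] at h1 h2 ⊢
    rw [h2, Pi.add_apply, C.add, mul_assoc, ← mul_assoc (C.x (s a) (u a)), h1.eq]
    simp only [mul_assoc]

theorem P_single (hn : l.Nodup) {a : ι} (ha : a ∈ l) (u : F) :
    C.P s l (Pi.single a u) = C.x (s a) u := by
  rw [P, List.prod_map_eq_pow_single a _ fun b hb _ => by rw [Pi.single_eq_of_ne hb, C.zero],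
    List.count_eq_one_of_mem hn ha, pow_one, Pi.single_eq_same]

theorem P_zero : C.P s l 0 = 1 := mem_bot.1 (C.P_mem fun _ _ => mem_bot.2 (C.zero _))

theorem exists_P (hs : Φ.Sg s) (hl : Φ.Orth l) (hn : l.Nodup) {Ψ : R → Prop}
    (hΨ : ∀ r, Ψ r → ∃ j ∈ l, r = s j) {y : GL (ι ⊕ R) F} (hy : y ∈ XS C.X Ψ) :
    ∃ t, C.P s l t = y :=
  XS_le (K := (MonoidHom.mk' (fun t : Multiplicative (ι → F) => C.P s l t.toAdd) fun _ _ =>
    C.P_add (fun _ hi _ hj => C.commute_of_orth hs hl hi hj) _ _).range) (fun r hr x hx => by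
      obtain ⟨j, hj, rfl⟩ := hΨ r hr
      obtain ⟨u, rfl⟩ := C.mem_X hx
      exact ⟨.ofAdd (Pi.single j u), C.P_single hn hj u⟩) hy

theorem P_inj (p : ℕ) [Fact p.Prime] [CharP F p] (hs : Φ.Sg s) (hl : Φ.Orth l) (hn : l.Nodup)
    {t u : ι → F} (h : C.P s l t = C.P s l u) {a : ι} (ha : a ∈ l) : t a = u a := by
  have h1 := C.P_add fun _ hi _ hj => C.commute_of_orth hs hl hi hj
  have h2 := h1 (t - u) u
  rw [sub_add_cancel, h, right_eq_mul] at h2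
  have h3 := h1 (Pi.single a (t a - u a)) (Function.update (t - u) a 0)
  rw [C.P_single hn ha, show Pi.single a (t a - u a) + Function.update (t - u) a 0 = t - u from
    funext fun j => by obtain rfl | hj := eq_or_ne j a <;> simp [*], h2, eq_comm,
    mul_eq_one_iff_eq_inv] at h3
  refine sub_eq_zero.1 (C.eq_zero_of_mem p hs (i := a) (h3 ▸ inv_mem (C.P_mem fun j _ => ?_)))
  obtain rfl | hj := eq_or_ne j a
  · rw [Function.update_self, C.zero]; exact one_mem _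
  · exact mem_XS ⟨j, hj, rfl⟩ (C.x_mem _ _)

/-- A graph-field endomorphism. -/
structure Aut (C : Chev F Φ) where
  φ : F →+* F
  ρ : Equiv.Perm R
  π : Equiv.Perm ι
  τ : GL (ι ⊕ R) F →* GL (ι ⊕ R) F
  τ_x : ∀ s, Φ.Sg s → ∀ i t, τ (C.x (s i) t) = C.x (s (π i)) (φ t)
  ρ_wt : ∀ r i, Φ.wt (ρ r) (π i) = Φ.wt r i
  ρ_σ : ∀ i r, ρ (Φ.σ i r) = Φ.σ (π i) (ρ r)

namespace Aut

variable {C} (A : C.Aut)

theorem ρ_smp (i : ι) : A.ρ (Φ.smp i) = Φ.smp (A.π i) := Φ.wt_inj (funext fun j => by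
  obtain ⟨j, rfl⟩ := A.π.surjective j
  simp [A.ρ_wt, Φ.wt_smp, Pi.single_apply])

theorem τ_ν (i : ι) : A.τ (C.ν i) = C.ν (A.π i) := by
  rw [C.ν_eq, C.ν_eq, map_mul, map_mul, A.τ_x _ (Or.inl rfl), A.τ_x _ (Or.inr rfl), map_neg, map_one]

theorem map_X (r : R) : (C.X r).map A.τ = C.X (A.ρ r) := by
  have h1 : ∀ i r, (C.X r).map (MulAut.conj (C.ν i)).toMonoidHom = C.X (Φ.σ i r) := fun i r =>
    le_antisymm (by rintro _ ⟨x, hx, rfl⟩; exact C.N_X (C.ν_mem i) r x hx) fun x hx =>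
      ⟨_, by simpa [σ_inv, σ_σ] using C.N_X (inv_mem (C.ν_mem i)) _ x hx, by simp [mul_assoc]⟩
  refine Φ.root_ind (P := fun r => (C.X r).map A.τ = C.X (A.ρ r)) (fun i => ?_) (fun i r h => ?_) r
  · rw [MonoidHom.map_closure, ← Set.range_comp, A.ρ_smp]
    refine congrArg Subgroup.closure (Eq.trans ?_
      ((Finite.injective_iff_surjective.1 A.φ.injective).range_comp _))
    exact congrArg _ (funext fun t => A.τ_x _ (Or.inl rfl) i t)
  · rw [A.ρ_σ, ← h1, ← h1, ← h, Subgroup.map_map, Subgroup.map_map]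
    congr 1
    ext1 g
    simp [A.τ_ν]

variable (p : ℕ) [Fact p.Prime] [CharP F p]

/-- The symmetry of the root group datum. -/
def sym : Sym (C.rgd p) where
  τ := A.τ
  ρ := A.ρ
  π := A.π
  mul g _ h _ := map_mul _ g h
  X_map r x hx := (A.map_X r).le ⟨x, hx, rfl⟩
  X_surj r _ hy := (A.map_X r).ge hy
  ρ_pos r := ⟨fun h i => (A.ρ_wt r i).symm ▸ h (A.π i), fun h i => by
    obtain ⟨i, rfl⟩ := A.π.surjective i
    exact (A.ρ_wt r i).symm ▸ h i⟩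
  ρ_zero r i := by rw [A.ρ_wt]
  ρ_smp := A.ρ_smp
  ρ_σ := A.ρ_σ

theorem τ_P (hs : Φ.Sg s) (hl : Φ.Orth l) (hπ : (l.map A.π).Perm l) (t : ι → F) :
    A.τ (C.P s l t) = C.P s l fun j => A.φ (t (A.π⁻¹ j)) := by
  refine Eq.trans ?_ ((hπ.map _).prod_eq' (List.pairwise_of_forall_mem_list fun _ hx _ hy => ?_))
  · rw [P, map_list_prod, List.map_map, List.map_map]
    exact congrArg _ (List.map_congr_left fun j _ => by simp [A.τ_x s hs])
  obtain ⟨i, hi, rfl⟩ := List.mem_map.1 hx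
  obtain ⟨j, hj, rfl⟩ := List.mem_map.1 hy
  exact C.commute_of_orth hs hl (hπ.subset hi) (hπ.subset hj) _ _

theorem mem_fix_iff (hs : Φ.Sg s) (hl : Φ.Orth l) (hn : l.Nodup) (hπ : (l.map A.π).Perm l)
    {Ψ : R → Prop} (hΨ : ∀ r, Ψ r ↔ ∃ j ∈ l, r = s j) {y : GL (ι ⊕ R) F} :
    y ∈ XS C.X Ψ ⊓ (A.sym p).F ↔ ∃ t, (∀ j ∈ l, t (A.π j) = A.φ (t j)) ∧ y = C.P s l t := by
  constructor
  · rintro ⟨h1, -, h2⟩
    obtain ⟨t, rfl⟩ := C.exists_P hs hl hn (fun r => (hΨ r).1) h1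
    refine ⟨t, fun j hj => ?_, rfl⟩
    simpa using (C.P_inj p hs hl hn ((A.τ_P hs hl hπ t).symm.trans h2)
      (hπ.subset (List.mem_map_of_mem hj))).symm
  · rintro ⟨t, ht, rfl⟩
    refine ⟨C.P_mem fun j hj => mem_XS ((hΨ _).2 ⟨j, hj, rfl⟩) (C.x_mem _ _),
      C.P_mem fun j _ => mem_XS trivial (C.x_mem _ _), (A.τ_P hs hl hπ t).trans ?_⟩
    refine congrArg List.prod (List.map_congr_left fun j hj => ?_)
    obtain ⟨j, hj', rfl⟩ := List.mem_map.1 (hπ.symm.subset hj)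
    simp [ht j hj']

/-- The lists in `L` enumerate the orbits on the simple roots. -/
def Orbs (Φ : RootSys ι R) (π : Equiv.Perm ι) (L : List (List ι)) : Prop :=
  (∀ i, ∃ l ∈ L, i ∈ l) ∧ ∀ l ∈ L, l ≠ [] ∧ l.Nodup ∧ (l.map π).Perm l ∧ Φ.Orth l ∧
    ∀ i ∈ l, ∀ j ∈ l, j = i ∨ j = π i ∨ i = π j

variable {L : List (List ι)}

theorem orb_eq (hL : Orbs Φ A.π L) (hl : l ∈ L) {i : ι} (hi : i ∈ l) :
    (A.sym p).orb i = {j | j ∈ l} := by
  obtain ⟨-, -, h1, -, h2⟩ := hL.2 l hl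
  refine Set.ext fun j => ⟨fun h => ?_, fun h => ?_⟩
  · obtain ⟨k, rfl⟩ := Equiv.Perm.SameCycle.exists_nat_pow_eq h
    clear h
    induction k with
    | zero => exact hi
    | succ k ih => rw [pow_succ']; exact h1.subset (List.mem_map_of_mem ih)
  · rcases h2 i hi j h with rfl | rfl | rfl
    · exact .refl _ _
    · exact Equiv.Perm.sameCycle_apply_right.2 (.refl _ _)
    · exact Equiv.Perm.sameCycle_apply_left.2 (.refl _ _)

theorem mem_UJ_iff (hL : Orbs Φ A.π L) (hl : l ∈ L) {i : ι} (hi : i ∈ l) {y : GL (ι ⊕ R) F} :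
    (y ∈ (C.rgd p).UJ ((A.sym p).orb i) ⊓ (A.sym p).F ↔
      ∃ t, (∀ j ∈ l, t (A.π j) = A.φ (t j)) ∧ y = C.P Φ.smp l t) ∧
    (y ∈ (C.rgd p).VJ ((A.sym p).orb i) ⊓ (A.sym p).F ↔
      ∃ t, (∀ j ∈ l, t (A.π j) = A.φ (t j)) ∧ y = C.P (fun i => Φ.neg (Φ.smp i)) l t) := by
  obtain ⟨-, h1, h2, h3, -⟩ := hL.2 l hl
  rw [A.orb_eq p hL hl hi]
  refine ⟨A.mem_fix_iff p (Or.inl rfl) h3 h1 h2 fun r => ⟨fun h => ?_, ?_⟩,
    A.mem_fix_iff p (Or.inr rfl) h3 h1 h2 fun r => ⟨fun h => ?_, ?_⟩⟩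
  · obtain ⟨j, hj, rfl | rfl⟩ := h3 r h.2
    · exact ⟨j, hj, rfl⟩
    · exact absurd (Φ.pos_smp j) (Φ.pos_neg.1 h.1)
  · rintro ⟨j, hj, rfl⟩
    exact ⟨Φ.pos_smp j, sub_smp.2 hj⟩
  · obtain ⟨j, hj, rfl | rfl⟩ := h3 r h.2
    · exact absurd (Φ.pos_smp j) h.1
    · exact ⟨j, hj, rfl⟩
  · rintro ⟨j, hj, rfl⟩
    exact ⟨fun h => Φ.pos_neg.1 h (Φ.pos_smp j), RootSys.sub_neg.2 (sub_smp.2 hj)⟩

theorem tw (hL : Orbs Φ A.π L) {T : Set (GL (ι ⊕ R) F)} (hT : ∀ g, g ∈ T ↔ ∃ l ∈ L, ∃ s, Φ.Sg s ∧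
    ∃ t, (∀ j ∈ l, t (A.π j) = A.φ (t j)) ∧ g = C.P s l t) : Tw (A.sym p) (closure T) := by
  have h1 : ∀ g ∈ T, ∃ i, g ∈ (C.rgd p).UJ ((A.sym p).orb i) ⊓ (A.sym p).F ∨
      g ∈ (C.rgd p).VJ ((A.sym p).orb i) ⊓ (A.sym p).F := fun g hg => by
    obtain ⟨l, hl, s, hs, h⟩ := (hT g).1 hg
    obtain ⟨i, hi⟩ := List.exists_mem_of_ne_nil l (hL.2 l hl).1
    rcases hs with rfl | rfl
    · exact ⟨i, Or.inl ((A.mem_UJ_iff p hL hl hi).1.2 h)⟩
    · exact ⟨i, Or.inr ((A.mem_UJ_iff p hL hl hi).2.2 h)⟩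
  refine ⟨(closure_le _).2 fun g hg => ?_, fun i g hg => ?_, fun i g hg => ?_,
    closure_mono fun g hg => ⟨subset_closure hg, ?_⟩, fun i => ?_⟩
  · obtain ⟨i, h | h⟩ := h1 g hg <;> exact h.2
  · obtain ⟨l, hl, hi⟩ := hL.1 i
    exact subset_closure ((hT g).2 ⟨l, hl, _, Or.inl rfl, (A.mem_UJ_iff p hL hl hi).1.1 hg⟩)
  · obtain ⟨l, hl, hi⟩ := hL.1 i
    exact subset_closure ((hT g).2 ⟨l, hl, _, Or.inr rfl, (A.mem_UJ_iff p hL hl hi).2.1 hg⟩)
  · obtain ⟨i, h | h⟩ := h1 g hg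
    · exact Or.inl ((C.rgd p).UJ_le _ h.1)
    · exact Or.inr ⟨i, h.1⟩
  · obtain ⟨l, hl, hi⟩ := hL.1 i
    obtain ⟨-, h2, -, h3, -⟩ := hL.2 l hl
    have h4 : ∀ j ∈ l, (1 : ι → F) (A.π j) = A.φ ((1 : ι → F) j) := fun _ _ => (map_one _).symm
    exact ⟨_, subset_closure ((hT _).2 ⟨l, hl, _, Or.inr rfl, 1, h4, rfl⟩),
      ((A.mem_UJ_iff p hL hl hi).2.2 ⟨1, h4, rfl⟩).1, fun h =>
        one_ne_zero (C.P_inj p (Or.inr rfl) h3 h2 (h.trans C.P_zero.symm) hi)⟩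

theorem sq_mem [CharP F 2] (hL : Orbs Φ A.π L) (i : ι) (x : GL (ι ⊕ R) F)
    (hx : x ∈ (C.rgd 2).UJ ((A.sym 2).orb i) ⊓ (A.sym 2).F) (K : Subgroup (GL (ι ⊕ R) F)) :
    x ^ 2 ∈ K := by
  obtain ⟨l, hl, hi⟩ := hL.1 i
  obtain ⟨t, -, rfl⟩ := (A.mem_UJ_iff 2 hL hl hi).1.1 hx
  rw [sq, ← C.P_add fun _ hi _ hj => C.commute_of_orth (Or.inl rfl) (hL.2 l hl).2.2.2.1 hi hj,
    show t + t = 0 from funext fun j => CharTwo.add_self_eq_zero _, C.P_zero]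
  exact one_mem _

end Aut
end Chev

/-- Twisting matrices by a field endomorphism and a signed permutation of the basis. -/
def twMat {I F : Type*} [Fintype I] [DecidableEq I] [Field F] (φ : F →+* F) (κ : Equiv.Perm I)
    (γ : I → F) (hγ : ∀ a, γ a * γ a = 1) : Matrix I I F →* Matrix I I F where
  toFun g := Matrix.of fun a b => γ (κ⁻¹ a) * φ (g (κ⁻¹ a) (κ⁻¹ b)) * γ (κ⁻¹ b)
  map_one' := Matrix.ext fun a b => by
    obtain rfl | h := eq_or_ne a b <;> simp [*]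
  map_mul' g h := Matrix.ext fun a b => by
    simp only [of_apply, mul_apply, map_sum, map_mul, Finset.mul_sum, Finset.sum_mul]
    rw [← Equiv.sum_comp κ⁻¹]
    exact Finset.sum_congr rfl fun c _ => by
      linear_combination (-(γ (κ⁻¹ a) * φ (g (κ⁻¹ a) (κ⁻¹ c)) * φ (h (κ⁻¹ c) (κ⁻¹ b)) *
        γ (κ⁻¹ b))) * hγ (κ⁻¹ c)

/-- The part of `chainCoeff` coming from one table entry. -/
def chainAt (u : ℕ) (e : ℕ × Array (ℕ × ℤ)) : List (ℕ × ℤ) :=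
  ((e.2.toList.zipIdx).filter (fun q => q.1.1 = u)).map fun q => (q.2 + 1, q.1.2)

/-- The tables of `D` at the roots `r`, `ρ r` correspond under `π`, `ρ` and the signs `γ`. -/
def TabSym (D : Lie.ChevalleyDatum) (π : Fin D.rank → Fin D.rank)
    (ρ : Fin D.nroots → Fin D.nroots) (γ : Fin D.nroots → ℤ) (r : Fin D.nroots) : Prop :=
  γ r = 1 ∧ (∀ i, (D.cartanSR.getD (π i) #[]).getD (ρ r) 0 = (D.cartanSR.getD i #[]).getD r 0 ∧
    (D.coroot.getD (ρ r) #[]).getD (π i) 0 = (D.coroot.getD r #[]).getD i 0) ∧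
  ∀ s, ((ρ s).1 = D.negIdx.getD (ρ r) 0 ↔ s.1 = D.negIdx.getD r 0) ∧
    (s.1 = D.negIdx.getD r 0 → γ s = 1) ∧ List.Forall₂
      (fun e' e => ∀ u, chainAt (ρ u) e' = (chainAt u e).map fun km => (km.1, γ u * km.2 * γ s))
      ((D.chain.getD (ρ r) #[]).toList.filter fun e => e.1 = ρ s)
      ((D.chain.getD r #[]).toList.filter fun e => e.1 = s)

instance decTabSym (D : Lie.ChevalleyDatum) (π : Fin D.rank → Fin D.rank) (ρ : Fin D.nroots → Fin D.nroots)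
    (γ : Fin D.nroots → ℤ) (r : Fin D.nroots) : Decidable (TabSym D π ρ γ r) := by
  unfold TabSym; infer_instance

theorem flatMap_of_forall₂ {α β : Type*} {f g : α → List β} {k : β → β} {l l' : List α}
    (h : List.Forall₂ (fun a b => f a = (g b).map k) l l') : l.flatMap f = (l'.flatMap g).map k := by
  induction h with
  | nil => rfl
  | cons h _ ih => rw [List.flatMap_cons, List.flatMap_cons, List.map_append, h, ih]

theorem twMat_xMat {F : Type*} [Field F] (φ : F →+* F) {D : Lie.ChevalleyDatum}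
    {π : Equiv.Perm (Fin D.rank)} {ρ : Equiv.Perm (Fin D.nroots)} {γ : Fin D.nroots → ℤ}
    {δ : D.Idx → F} (hδ : ∀ a, δ a * δ a = 1) (h0 : ∀ i, δ (.inl i) = 1)
    (h0' : ∀ r, δ (.inr r) = γ r) {r : Fin D.nroots} (h : TabSym D π ρ γ r) (t : F) :
    twMat φ (π.sumCongr ρ) δ hδ (D.xMat F r t) = D.xMat F (ρ r) (φ t) := by
  obtain ⟨h1, h2, h3⟩ := h
  ext a b
  obtain ⟨a, rfl⟩ := (π.sumCongr ρ).surjective a
  obtain ⟨b, rfl⟩ := (π.sumCongr ρ).surjective b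
  simp only [twMat, MonoidHom.coe_mk, OneHom.coe_mk, of_apply, Equiv.Perm.coe_inv,
    Equiv.symm_apply_apply]
  rcases a with a | a <;> rcases b with b | b <;>
    simp only [Lie.ChevalleyDatum.xMat, of_apply, Equiv.sumCongr_apply, Sum.map_inl, Sum.map_inr,
      Equiv.apply_eq_iff_eq, h0, h0', h2, (h3 _).1]
  · simp [apply_ite φ]
  · split_ifs with h4 h5 <;> simp [(h3 b).2.1, *]
  · split_ifs with h4 <;> simp [*]
  · have h5 := hδ (.inr b)
    rw [h0'] at h5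
    have h11 : ∀ l : List (ℕ × ℤ), (γ a : F) * φ (l.map fun km => (km.2 : F) * t ^ km.1).sum * γ b =
        ((l.map fun km => (km.1, γ a * km.2 * γ b)).map fun km : ℕ × ℤ =>
          (km.2 : F) * φ t ^ km.1).sum := fun l => by
      induction l with
      | nil => simp
      | cons x l ih => simp only [List.map_cons, List.sum_cons, ← ih]; simp; ring
    rw [show D.chainCoeff (ρ r) (ρ b) (ρ a) = (D.chainCoeff r b a).map _ from
      flatMap_of_forall₂ ((h3 b).2.2.imp fun _ _ h => h a), ← h11]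
    split_ifs with h4 h6 h7 h8 h9 h10
    · simp [*]
    · simp
    · simp [*]
    · simp [(h3 b).2.1, *]
    · simp
    · rw [map_add, map_one, h10]; linear_combination h5
    · rw [zero_add, zero_add]

/-- The automorphism of the Chevalley group given by a symmetry of the tables. -/
def autOfTab {F : Type*} [Field F] [Finite F] (φ : F →+* F) {D : Lie.ChevalleyDatum}
    {Φ : RootSys (Fin D.rank) (Fin D.nroots)} (C : Chev F Φ) (hx : ∀ r t, (C.x r t).1 = D.xMat F r t)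
    (π : Equiv.Perm (Fin D.rank)) (ρ : Equiv.Perm (Fin D.nroots)) (γ : Fin D.nroots → ℤ)
    (h1 : ∀ r, γ r * γ r = 1) (h2 : ∀ r i, Φ.wt (ρ r) (π i) = Φ.wt r i ∧
      ρ (Φ.ref i r) = Φ.ref (π i) (ρ r))
    (h3 : ∀ i, TabSym D π ρ γ (Φ.smp i) ∧ TabSym D π ρ γ (Φ.neg (Φ.smp i))) : C.Aut where
  φ := φ
  ρ := ρ
  π := π
  τ := Units.map (twMat φ (π.sumCongr ρ) (Sum.elim (fun _ => 1) fun r => γ r) (by
    rintro (i | r)
    · exact one_mul _
    · exact (Int.cast_mul _ _).symm.trans (by rw [h1, Int.cast_one])))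
  τ_x s hs i t := Units.ext (by
    have h4 : ρ (s i) = s (π i) := Φ.wt_inj (funext fun j => by
      obtain ⟨j, rfl⟩ := π.surjective j
      obtain ⟨ε, -, h⟩ := hs.wt
      simp [h2, h])
    rw [Units.coe_map, hx, hx, ← h4]
    refine twMat_xMat φ _ (fun _ => rfl) (fun _ => rfl) ?_ t
    rcases hs with rfl | rfl
    exacts [(h3 i).1, (h3 i).2])
  ρ_wt r i := (h2 r i).1
  ρ_σ i r := (h2 r i).2

theorem tw_of_words {F : Type*} [Field F] [Finite F] {D : Lie.ChevalleyDatum}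
    {Φ : RootSys (Fin D.rank) (Fin D.nroots)} {C : Chev F Φ} (hx : ∀ r t, (C.x r t).1 = D.xMat F r t)
    (A : C.Aut) (p : ℕ) [Fact p.Prime] [CharP F p] {L : List (List (Fin D.rank))}
    (hL : Chev.Aut.Orbs Φ A.π L) {a b : Fin D.rank → ℕ}
    (hab : ∀ i, (Φ.smp i).1 = a i ∧ (Φ.neg (Φ.smp i)).1 = b i) {S : Set (List (ℕ × F))}
    (hS : ∀ w, w ∈ S ↔ ∃ l ∈ L, ∃ c ∈ [a, b], ∃ t : Fin D.rank → F,
      (∀ j ∈ l, t (A.π j) = A.φ (t j)) ∧ w = l.map fun j => (c j, t j)) :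
    Tw (A.sym p) (D.genSubgroup F S) := by
  have h1 : ∀ s l t, (C.P s l t).1 = D.wordMat F (l.map fun j => ((s j).1, t j)) := fun s l t => by
    refine (map_list_prod (Units.coeHom _) _).trans ?_
    rw [Lie.ChevalleyDatum.wordMat, List.map_map, List.map_map]
    exact congrArg _ (List.map_congr_left fun j _ => by simp [Lie.ChevalleyDatum.x, hx])
  obtain rfl : (fun i => (Φ.smp i).1) = a := funext fun i => (hab i).1
  obtain rfl : (fun i => (Φ.neg (Φ.smp i)).1) = b := funext fun i => (hab i).2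
  refine A.tw p hL fun g => ⟨fun ⟨w, hw, hg⟩ => ?_, fun ⟨l, hl, s, hs, t, ht, hg⟩ =>
    ⟨_, (hS _).2 ⟨l, hl, fun j => (s j).1, ?_, t, ht, rfl⟩, hg ▸ h1 s l t⟩⟩
  · obtain ⟨l, hl, c, hc, t, ht, rfl⟩ := (hS w).1 hw
    rcases List.mem_pair.1 hc with rfl | rfl
    · exact ⟨l, hl, _, Or.inl rfl, t, ht, Units.ext (hg.trans (h1 _ l t).symm)⟩
    · exact ⟨l, hl, _, Or.inr rfl, t, ht, Units.ext (hg.trans (h1 _ l t).symm)⟩
  · rcases hs with rfl | rfl <;> simp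

/-- A permutation given by packed tables. -/
def permOfTab (n a b : ℕ) [NeZero n] (h : ∀ i : Fin n,
    Fin.ofNat n (b >>> (7 * (Fin.ofNat n (a >>> (7 * i.1) % 128)).1) % 128) = i ∧
    Fin.ofNat n (a >>> (7 * (Fin.ofNat n (b >>> (7 * i.1) % 128)).1) % 128) = i) :
    Equiv.Perm (Fin n) :=
  ⟨fun i => Fin.ofNat n (a >>> (7 * i.1) % 128), fun i => Fin.ofNat n (b >>> (7 * i.1) % 128),
    fun i => (h i).1, fun i => (h i).2⟩

theorem exists_frob {K : Type*} [Field K] [Fintype K] {p q k : ℕ} [hp : Fact p.Prime] [CharP K p]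
    (hq : IsPrimePow q) (h : Fintype.card K = q ^ k) :
    ∃ φ : K →+* K, ∀ t, φ t = t ^ q := by
  obtain ⟨r, n, hr, -, rfl⟩ := (isPrimePow_nat_iff q).1 hq
  obtain ⟨m, -, hm⟩ := FiniteField.card K p
  have h1 : p ∣ r := hp.out.dvd_of_dvd_pow (n := n * k)
    (by rw [pow_mul, ← h, hm]; exact dvd_pow_self p m.ne_zero)
  obtain rfl := (Nat.prime_dvd_prime_iff_eq hp.out hr).1 h1
  exact ⟨iterateFrobenius K p n, fun _ => rfl⟩

end LT
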