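import Cfsg.Agent.Lib.Lie.DatE8
import Cfsg.Agent.Lib.Lie.Blk

set_option maxRecDepth 100000
set_option Elab.async false

namespace LT

theorem tabE8_0_0 : blk 10 0 tabE8.r0 = true := by decide +kernel
theorem tabE8_0_1 : blk 10 0 tabE8.r1 = true := by decide +kernel
theorem tabE8_0_2 : blk 10 0 tabE8.r2 = true := by decide +kernel
theorem tabE8_0_3 : blk 10 0 tabE8.r3 = true := by decide +kernel
theorem tabE8_0_6_0 : blk 10 0 (tabE8.r6 0) = true := by decide +kernel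
theorem tabE8_0_6_1 : blk 10 0 (tabE8.r6 1) = true := by decide +kernel
theorem tabE8_0_6_2 : blk 10 0 (tabE8.r6 2) = true := by decide +kernel
theorem tabE8_0_6_3 : blk 10 0 (tabE8.r6 3) = true := by decide +kernel
theorem tabE8_0_6_4 : blk 10 0 (tabE8.r6 4) = true := by decide +kernel
theorem tabE8_0_6_5 : blk 10 0 (tabE8.r6 5) = true := by decide +kernel
theorem tabE8_0_6_6 : blk 10 0 (tabE8.r6 6) = true := by decide +kernel
theorem tabE8_0_6_7 : blk 10 0 (tabE8.r6 7) = true := by decide +kernel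
theorem tabE8_0 : tabE8.rr 10 0 :=
  ⟨tabE8_0_0, tabE8_0_1, tabE8_0_2, tabE8_0_3, fun i (hi : i < 8) => by
    interval_cases i
    exacts [tabE8_0_6_0, tabE8_0_6_1, tabE8_0_6_2, tabE8_0_6_3, tabE8_0_6_4, tabE8_0_6_5, tabE8_0_6_6, tabE8_0_6_7]⟩

theorem tabE8_1_0 : blk 10 1 tabE8.r0 = true := by decide +kernel
theorem tabE8_1_1 : blk 10 1 tabE8.r1 = true := by decide +kernel
theorem tabE8_1_2 : blk 10 1 tabE8.r2 = true := by decide +kernel
theorem tabE8_1_3 : blk 10 1 tabE8.r3 = true := by decide +kernel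
theorem tabE8_1_6_0 : blk 10 1 (tabE8.r6 0) = true := by decide +kernel
theorem tabE8_1_6_1 : blk 10 1 (tabE8.r6 1) = true := by decide +kernel
theorem tabE8_1_6_2 : blk 10 1 (tabE8.r6 2) = true := by decide +kernel
theorem tabE8_1_6_3 : blk 10 1 (tabE8.r6 3) = true := by decide +kernel
theorem tabE8_1_6_4 : blk 10 1 (tabE8.r6 4) = true := by decide +kernel
theorem tabE8_1_6_5 : blk 10 1 (tabE8.r6 5) = true := by decide +kernel
theorem tabE8_1_6_6 : blk 10 1 (tabE8.r6 6) = true := by decide +kernel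
theorem tabE8_1_6_7 : blk 10 1 (tabE8.r6 7) = true := by decide +kernel
theorem tabE8_1 : tabE8.rr 10 1 :=
  ⟨tabE8_1_0, tabE8_1_1, tabE8_1_2, tabE8_1_3, fun i (hi : i < 8) => by
    interval_cases i
    exacts [tabE8_1_6_0, tabE8_1_6_1, tabE8_1_6_2, tabE8_1_6_3, tabE8_1_6_4, tabE8_1_6_5, tabE8_1_6_6, tabE8_1_6_7]⟩

theorem tabE8_2_0 : blk 10 2 tabE8.r0 = true := by decide +kernel
theorem tabE8_2_1 : blk 10 2 tabE8.r1 = true := by decide +kernel
theorem tabE8_2_2 : blk 10 2 tabE8.r2 = true := by decide +kernel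
theorem tabE8_2_3 : blk 10 2 tabE8.r3 = true := by decide +kernel
theorem tabE8_2_6_0 : blk 10 2 (tabE8.r6 0) = true := by decide +kernel
theorem tabE8_2_6_1 : blk 10 2 (tabE8.r6 1) = true := by decide +kernel
theorem tabE8_2_6_2 : blk 10 2 (tabE8.r6 2) = true := by decide +kernel
theorem tabE8_2_6_3 : blk 10 2 (tabE8.r6 3) = true := by decide +kernel
theorem tabE8_2_6_4 : blk 10 2 (tabE8.r6 4) = true := by decide +kernel
theorem tabE8_2_6_5 : blk 10 2 (tabE8.r6 5) = true := by decide +kernel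
theorem tabE8_2_6_6 : blk 10 2 (tabE8.r6 6) = true := by decide +kernel
theorem tabE8_2_6_7 : blk 10 2 (tabE8.r6 7) = true := by decide +kernel
theorem tabE8_2 : tabE8.rr 10 2 :=
  ⟨tabE8_2_0, tabE8_2_1, tabE8_2_2, tabE8_2_3, fun i (hi : i < 8) => by
    interval_cases i
    exacts [tabE8_2_6_0, tabE8_2_6_1, tabE8_2_6_2, tabE8_2_6_3, tabE8_2_6_4, tabE8_2_6_5, tabE8_2_6_6, tabE8_2_6_7]⟩

theorem tabE8_3_0 : blk 10 3 tabE8.r0 = true := by decide +kernel
theorem tabE8_3_1 : blk 10 3 tabE8.r1 = true := by decide +kernel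
theorem tabE8_3_2 : blk 10 3 tabE8.r2 = true := by decide +kernel
theorem tabE8_3_3 : blk 10 3 tabE8.r3 = true := by decide +kernel
theorem tabE8_3_6_0 : blk 10 3 (tabE8.r6 0) = true := by decide +kernel
theorem tabE8_3_6_1 : blk 10 3 (tabE8.r6 1) = true := by decide +kernel
theorem tabE8_3_6_2 : blk 10 3 (tabE8.r6 2) = true := by decide +kernel
theorem tabE8_3_6_3 : blk 10 3 (tabE8.r6 3) = true := by decide +kernel
theorem tabE8_3_6_4 : blk 10 3 (tabE8.r6 4) = true := by decide +kernel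
theorem tabE8_3_6_5 : blk 10 3 (tabE8.r6 5) = true := by decide +kernel
theorem tabE8_3_6_6 : blk 10 3 (tabE8.r6 6) = true := by decide +kernel
theorem tabE8_3_6_7 : blk 10 3 (tabE8.r6 7) = true := by decide +kernel
theorem tabE8_3 : tabE8.rr 10 3 :=
  ⟨tabE8_3_0, tabE8_3_1, tabE8_3_2, tabE8_3_3, fun i (hi : i < 8) => by
    interval_cases i
    exacts [tabE8_3_6_0, tabE8_3_6_1, tabE8_3_6_2, tabE8_3_6_3, tabE8_3_6_4, tabE8_3_6_5, tabE8_3_6_6, tabE8_3_6_7]⟩

end LT
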