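import Cfsg.Agent.Lib.Lie.LinTv
import Cfsg.Prelude.Def_LieTypeChar

/-!
# `PropA` and `PropB` for the classical groups
-/

set_option autoImplicit false
set_option linter.unusedSectionVars false

namespace LT

open Cfsg GT Subgroup Module Matrix

variable {p : ℕ} [hp : Fact p.Prime] {F : Type} [Field F] {ι : Type} [Fintype ι] [DecidableEq ι]
  {H G : Type*} [Group H] [Group G]

/-- The linear representation given by a matrix representation. -/
def linOfMat (m : H →* Matrix ι ι F) : H →* ((ι → F) ≃ₗ[F] (ι → F)) where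
  toFun h := LinearEquiv.ofLinearMap (toLin' (m h)) (toLin' (m h⁻¹))
    (by rw [← toLin'_mul, ← map_mul, mul_inv_cancel, map_one, toLin'_one])
    (by rw [← toLin'_mul, ← map_mul, inv_mul_cancel, map_one, toLin'_one])
  map_one' := LinearEquiv.ext fun v => by simp
  map_mul' g h := LinearEquiv.ext fun v => by simp

theorem linOfMat_apply (m : H →* Matrix ι ι F) (h : H) (v : ι → F) : linOfMat m h v = m h *ᵥ v := rfl

theorem linOfMat_injective {m : H →* Matrix ι ι F} (hm : Function.Injective m) :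
    Function.Injective (linOfMat m) := fun _ _ h =>
  hm (toLin'.injective (congrArg LinearEquiv.toLinearMap h))

theorem toMatrix'_mulVec' (g : (ι → F) ≃ₗ[F] (ι → F)) (v : ι → F) :
    LinearMap.toMatrix' (g : (ι → F) →ₗ[F] (ι → F)) *ᵥ v = g v := by
  rw [← toLin'_apply, toLin'_toMatrix']; rfl

theorem mem_range_linOfMat {m : H →* Matrix ι ι F} {g : (ι → F) ≃ₗ[F] (ι → F)} (h : H)
    (hh : m h = LinearMap.toMatrix' (g : (ι → F) →ₗ[F] (ι → F))) : g ∈ (linOfMat m).range :=
  ⟨h, LinearEquiv.ext fun v => by rw [linOfMat_apply, hh, toMatrix'_mulVec']⟩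

theorem det_eq_one_of_isPElt [CharP F p] {g : (ι → F) ≃ₗ[F] (ι → F)} (hg : IsPElt p g) :
    (LinearMap.toMatrix' (g : (ι → F) →ₗ[F] (ι → F))).det = 1 := by
  obtain ⟨k, hk⟩ := hg.exists_pow_eq_one
  have h1 : ((LinearEquiv.det g : Fˣ) : F) ^ p ^ k = 1 := by
    rw [← Units.val_pow_eq_pow_val, ← map_pow, hk, map_one, Units.val_one]
  rw [LinearMap.det_toMatrix', ← LinearEquiv.coe_det, ← sub_eq_zero,
    ← pow_eq_zero_iff (pow_ne_zero k hp.out.ne_zero), sub_pow_char_pow, h1, one_pow, sub_self]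

theorem exists_cover (e : G ≃* H ⧸ center H) :
    ∃ π : H →* G, Function.Surjective π ∧ π.ker ≤ center H :=
  ⟨e.symm.toMonoidHom.comp (QuotientGroup.mk' _),
    e.symm.surjective.comp (QuotientGroup.mk'_surjective _), fun x hx => by
      simpa [MonoidHom.mem_ker] using hx⟩

variable [Finite G]

/-! ### Linear groups -/

theorem slToMat_injective (n : ℕ) : Function.Injective (slToMat n F) := fun _ _ h => Subtype.ext h

theorem tv_mem_sl [CharP F p] (n : ℕ) {e : Fin n → F} {φ : Dual F (Fin n → F)}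
    {g : (Fin n → F) ≃ₗ[F] (Fin n → F)} (hg : IsTv e φ g) : g ∈ (linOfMat (slToMat n F)).range :=
  mem_range_linOfMat ⟨_, det_eq_one_of_isPElt (hg.isPElt (p := p))⟩ rfl

theorem propA_of_isPSLChar [IsSimpleGroup G] (h : IsPSLChar p G) : PropA p G := by
  obtain ⟨F, _, _, _, n, hn, -, ⟨e⟩⟩ := h
  obtain ⟨π, h1, h2⟩ := exists_cover e
  exact propA_tv _ (linOfMat_injective (slToMat_injective n)) (tv_mem_sl (p := p) n) π h1 h2
    (by simpa using hn)

theorem propB_of_isPSLChar (h : IsPSLChar 2 G) : PropB G := by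
  obtain ⟨F, _, _, _, n, -, -, ⟨e⟩⟩ := h
  obtain ⟨π, h1, -⟩ := exists_cover e
  exact propB_tv _ (linOfMat_injective (slToMat_injective n)) (tv_mem_sl (p := 2) n) π h1

/-! ### Symplectic groups -/

theorem dot_J (u v : ι ⊕ ι → F) : u ⬝ᵥ J ι F *ᵥ v =
    ∑ i, (u (.inr i) * v (.inl i) - u (.inl i) * v (.inr i)) := by
  simp [J, dotProduct, fromBlocks_mulVec, neg_mulVec, sub_eq_neg_add, Finset.sum_add_distrib]

variable (F ι) in
/-- The symplectic polar space. -/
def spPolar : Polar F (ι ⊕ ι → F) where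
  σ := RingHom.id F
  ε := -1
  β u v := u ⬝ᵥ J ι F *ᵥ v
  R _ _ := True
  σσ _ := rfl
  εε := by simp
  σε := rfl
  add_left := fun _ _ _ => add_dotProduct _ _ _
  smul_left := fun _ _ _ => smul_dotProduct _ _ _
  symm x y := by simp [dot_J, mul_comm, Finset.sum_sub_distrib]
  nondeg y h := by
    have := congrArg (J ι F *ᵥ ·) (dotProduct_eq_zero _ fun x => (dotProduct_comm _ _).trans (h x))
    simpa [mulVec_mulVec, J_squared, neg_mulVec] using this
  R_add _ _ := trivial
  R_smul _ _ := trivial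
  R_tr _ := by simp [dot_J, mul_comm]
  R_ex _ := ⟨0, trivial⟩
  R_min _ := trivial

theorem mem_sp_iff {A : Matrix (ι ⊕ ι) (ι ⊕ ι) F} : A ∈ symplecticGroup ι F ↔
    ∀ u v, (A *ᵥ u) ⬝ᵥ J ι F *ᵥ (A *ᵥ v) = u ⬝ᵥ J ι F *ᵥ v := by
  have h1 : ∀ u v, (A *ᵥ u) ⬝ᵥ J ι F *ᵥ (A *ᵥ v) = u ⬝ᵥ (Aᵀ * J ι F * A) *ᵥ v := fun u v => by
    rw [← vecMul_transpose, ← dotProduct_mulVec, mulVec_mulVec, mulVec_mulVec]
  rw [SymplecticGroup.mem_iff']
  refine ⟨fun h u v => by rw [h1, h], fun h => ?_⟩
  ext i j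
  simpa using (h1 (Pi.single i 1) (Pi.single j 1)).symm.trans (h _ _)

theorem full_sp : (spPolar F ι).Full (linOfMat (symplecticGroup ι F).subtype).range := by
  refine ⟨?_, fun {e v c g} he hg => mem_range_linOfMat
    ⟨LinearMap.toMatrix' g.toLinearMap, mem_sp_iff.2 fun u v => ?_⟩ rfl⟩
  · rintro _ ⟨h, rfl⟩
    exact ⟨mem_sp_iff.1 h.2, fun _ _ _ => trivial⟩
  · rw [toMatrix'_mulVec', toMatrix'_mulVec']
    exact (hg.isom he).1 u v

theorem propA_of_isPSpChar [IsSimpleGroup G] (h : IsPSpChar p G) : PropA p G := by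
  obtain ⟨F, _, _, _, m, hm, -, ⟨e⟩⟩ := h
  obtain ⟨π, h1, h2⟩ := exists_cover e
  exact Polar.propA _ (linOfMat_injective Subtype.val_injective) full_sp π h1 h2 (e := 1) trivial
    (fun h => one_ne_zero (congrFun h (.inl ⟨0, by omega⟩))) (Or.inl ⟨1, one_ne_zero, trivial⟩)

theorem propB_of_isPSpChar (h : IsPSpChar 2 G) : PropB G := by
  obtain ⟨F, _, _, _, m, -, -, ⟨e⟩⟩ := h
  obtain ⟨π, h1, -⟩ := exists_cover e
  exact Polar.propB _ (linOfMat_injective Subtype.val_injective) full_sp π h1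

/-! ### Unitary groups -/

theorem exists_conj_aut [Fintype F] [CharP F p] {q : ℕ} (h : Fintype.card F = q ^ 2) :
    ∃ σ : F →+* F, (∀ a, σ a = a ^ q) ∧ (∀ a, σ (σ a) = a) ∧ ∃ μ, μ + σ μ = 1 := by
  obtain ⟨n, -, hn⟩ := FiniteField.card F p
  obtain ⟨k, -, rfl⟩ := (Nat.dvd_prime_pow hp.out).1
    (show q ∣ p ^ (n : ℕ) from hn ▸ h ▸ dvd_pow_self q two_ne_zero)
  have h1 : ∀ a, iterateFrobenius F p k (iterateFrobenius F p k a) = a := fun a => by
    rw [iterateFrobenius_def, iterateFrobenius_def, ← pow_mul, ← pow_two, ← h, FiniteField.pow_card]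
  refine ⟨iterateFrobenius F p k, fun _ => rfl, h1, ?_⟩
  obtain ⟨a, ha⟩ : ∃ a, a + iterateFrobenius F p k a ≠ 0 := by
    by_contra! h2
    have h3 := h2 1
    rw [map_one] at h3
    have h4 : 1 < p ^ k := by
      have := Fintype.one_lt_card (α := F)
      rw [h] at this
      exact lt_of_pow_lt_pow_left₀ 2 (Nat.zero_le _) (by simpa using this)
    have h5 := (FiniteField.forall_pow_eq_one_iff F (p ^ k - 1)).1 fun x => by
      have h6 : (x : F) ^ p ^ k = x := by
        have := h2 x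
        rw [iterateFrobenius_def] at this
        linear_combination this - (x : F) * h3
      apply mul_right_cancel (b := x)
      rw [← pow_succ, Nat.sub_add_cancel h4.le, one_mul]
      exact Units.ext (by simpa using h6)
    have := Nat.le_of_dvd (by omega) h5
    rw [h] at this
    have : p ^ k < (p ^ k) ^ 2 := by nlinarith
    omega
  exact ⟨a / (a + iterateFrobenius F p k a), by
    rw [map_div₀, map_add, h1, add_comm (iterateFrobenius F p k a), ← add_div, div_self ha]⟩

/-- The unitary polar space. -/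
def suPolar (n q : ℕ) (σ : F →+* F) (h1 : ∀ a, σ a = a ^ q) (h2 : ∀ a, σ (σ a) = a)
    (h3 : ∃ μ, μ + σ μ = 1) : Polar F (Fin n → F) where
  σ := σ
  ε := 1
  β := hermForm n F q
  R v c := c + σ c = hermForm n F q v v
  σσ := h2
  εε := by simp
  σε := map_one σ
  add_left x y z := by simp [hermForm, add_mul, Finset.sum_add_distrib]
  smul_left a x z := by simp [hermForm, Finset.mul_sum, mul_assoc]
  symm x y := by simp [hermForm, ← h1, h2, mul_comm]
  nondeg y h := funext fun i => by simpa [hermForm, ← h1, Pi.single_apply] using h (Pi.single i 1)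
  R_add {v w c d} hv hw := by
    simp only [hermForm, ← h1, map_add, map_sum, map_mul, h2, Pi.add_apply, add_mul, mul_add,
      Finset.sum_add_distrib, mul_comm (σ (v _))] at *
    linear_combination hv + hw
  R_smul {v c} a hv := by
    simp only [hermForm, ← h1, map_mul, h2, Pi.smul_apply, smul_eq_mul] at *
    rw [Finset.sum_congr rfl fun i _ => show a * v i * (σ a * σ (v i)) =
      a * σ a * (v i * σ (v i)) by ring, ← Finset.mul_sum, ← hv]
    ring
  R_tr hv := by rwa [one_mul]
  R_ex v := by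
    obtain ⟨μ, hμ⟩ := h3
    have : σ (hermForm n F q v v) = hermForm n F q v v := by simp [hermForm, ← h1, h2, mul_comm]
    exact ⟨μ * hermForm n F q v v, by rw [map_mul, this, ← add_mul, hμ, one_mul]⟩
  R_min t := by simp [hermForm, h2]

theorem full_su [CharP F p] (n q : ℕ) (σ : F →+* F) (h1 : ∀ a, σ a = a ^ q)
    (h2 : ∀ a, σ (σ a) = a) (h3 : ∃ μ, μ + σ μ = 1) :
    (suPolar n q σ h1 h2 h3).Full (linOfMat ((slToMat n F).comp (SU n F q).subtype)).range := by
  refine ⟨?_, fun {e v c g} he hg => mem_range_linOfMat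
    ⟨⟨_, det_eq_one_of_isPElt (hg.isPElt (p := p) he)⟩, fun u v => ?_⟩ rfl⟩
  · rintro _ ⟨h, rfl⟩
    exact ⟨h.2, fun x c hc => hc.trans (h.2 x x).symm⟩
  · exact (congrArg₂ _ (toMatrix'_mulVec' g u) (toMatrix'_mulVec' g v)).trans ((hg.isom he).1 u v)

theorem suRep_injective (n q : ℕ) :
    Function.Injective (linOfMat ((slToMat n F).comp (SU n F q).subtype)) :=
  linOfMat_injective fun _ _ h => Subtype.ext (Subtype.ext h)

theorem propA_of_isPSUChar [IsSimpleGroup G] (h : IsPSUChar p G) : PropA p G := by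
  obtain ⟨F, _, _, _, n, q, hq, hn, -, ⟨e⟩⟩ := h
  obtain ⟨π, h1, h2⟩ := exists_cover e
  obtain ⟨σ, h3, h4, h5⟩ := exists_conj_aut (p := p) hq
  obtain ⟨n, rfl⟩ := Nat.exists_eq_add_of_le' hn
  obtain ⟨a, b, hab⟩ := CharP.sq_add_sq F p (-1)
  refine Polar.propA _ (suRep_injective _ q)
    (full_su (p := p) _ q σ h3 h4 h5) π h1 h2
    (e := Fin.cons 1 (Fin.cons (a : F) (Fin.cons (b : F) 0))) ?_
    (fun h => one_ne_zero (congrFun h 0)) (Or.inr (by simp))
  change 0 + σ 0 = hermForm _ F q _ _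
  simp only [hermForm, Fin.sum_univ_succ, ← h3, Fin.cons_zero, Fin.cons_succ, map_one, map_natCast,
    Pi.zero_apply, zero_mul, Finset.sum_const_zero, map_zero]
  push_cast at hab
  linear_combination -hab

theorem propB_of_isPSUChar (h : IsPSUChar 2 G) : PropB G := by
  obtain ⟨F, _, _, _, n, q, hq, -, -, ⟨e⟩⟩ := h
  obtain ⟨π, h1, -⟩ := exists_cover e
  obtain ⟨σ, h3, h4, h5⟩ := exists_conj_aut (p := 2) hq
  exact Polar.propB _ (suRep_injective _ q)
    (full_su (p := 2) _ q σ h3 h4 h5) π h1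

/-! ### Orthogonal groups -/

/-- The orthogonal polar space. -/
def oPolar {V : Type*} [AddCommGroup V] [Module F V] (q : QuadraticForm F V)
    (h : ∀ y, (∀ x, q (x + y) = q x + q y) → y = 0) : Polar F V where
  σ := RingHom.id F
  ε := 1
  β := QuadraticMap.polar q
  R v c := c = q v
  σσ _ := rfl
  εε := by simp
  σε := rfl
  add_left := q.polar_add_left
  smul_left := q.polar_smul_left
  symm x y := by simp [QuadraticMap.polar_comm]
  nondeg y hy := h y fun x => by linear_combination hy x + QuadraticMap.map_add q x y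
  R_add hv hw := by rw [hv, hw, QuadraticMap.map_add q]
  R_smul a hv := by rw [hv, q.map_smul]; simp; ring
  R_tr hv := by rw [hv, QuadraticMap.polar_self]; simp [two_mul]
  R_ex v := ⟨_, rfl⟩
  R_min t := by simp

/-- The natural representation of `Ω(Q)`. -/
def omegaRep (Q : (ι → F) → F) : Omega F Q →* ((ι → F) ≃ₗ[F] (ι → F)) :=
  (linOfMat ((Units.coeHom _).comp (isometryGroup F Q).subtype)).comp (Omega F Q).subtype

theorem omegaRep_injective (Q : (ι → F) → F) : Function.Injective (omegaRep Q) :=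
  (linOfMat_injective (Units.val_injective.comp Subtype.val_injective)).comp Subtype.val_injective

theorem full_omega (q : QuadraticForm F (ι → F)) (h : ∀ y, (∀ x, q (x + y) = q x + q y) → y = 0)
    (h5 : 5 ≤ Fintype.card ι) : (oPolar q h).Full (omegaRep q).range := by
  have h1 : (linOfMat ((Units.coeHom _).comp (isometryGroup F q).subtype)).range =
      (oPolar q h).Isom := by
    refine le_antisymm ?_ fun g hg => mem_range_linOfMat
      ⟨⟨LinearMap.toMatrix' g.toLinearMap, LinearMap.toMatrix' g.symm.toLinearMap,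
      by rw [← LinearMap.toMatrix'_comp]; simp, by rw [← LinearMap.toMatrix'_comp]; simp⟩,
      fun u v => ?_⟩ rfl
    · rintro _ ⟨g, rfl⟩
      have h2 : ∀ x, q (linOfMat ((Units.coeHom _).comp (isometryGroup F q).subtype) g x) = q x :=
        fun x => g.2 x x
      exact ⟨fun x y => by simp only [oPolar, QuadraticMap.polar, ← map_add, h2],
        fun x c hc => hc.trans (h2 x).symm⟩
    · exact (congrArg q (toMatrix'_mulVec' g u)).trans (hg.2 u _ rfl).symm
  rw [omegaRep, MonoidHom.range_comp, range_subtype, Omega, _root_.commutator_def, map_commutator,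
    ← MonoidHom.range_eq_map, h1]
  exact Polar.full_commutator (fun _ => rfl) rfl (fun c hc => hc.trans q.map_zero)
    (by simpa using h5)

/-- `Q` is a nondegenerate quadratic form in dimension at least `5` with a singular vector. -/
structure GoodForm (Q : (ι → F) → F) : Prop where
  quad : ∃ q : QuadraticForm F (ι → F), ⇑q = Q
  nd : ∀ y, (∀ x, Q (x + y) = Q x + Q y) → y = 0
  dim : 5 ≤ Fintype.card ι
  sing : ∃ e, e ≠ 0 ∧ Q e = 0

theorem GoodForm.propA [CharP F p] [IsSimpleGroup G] {Q : (ι → F) → F} (h : GoodForm Q)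
    (e : G ≃* POmega F Q) : PropA p G := by
  obtain ⟨⟨q, rfl⟩, h3, h4, v, hv, h5⟩ := h
  obtain ⟨π, h1, h2⟩ := exists_cover e
  exact Polar.propA _ (omegaRep_injective _) (full_omega q h3 h4) π h1 h2 h5.symm hv
    (Or.inr (by simp; omega))

theorem GoodForm.propB [CharP F 2] [Finite F] {Q : (ι → F) → F} (h : GoodForm Q)
    (e : G ≃* POmega F Q) : PropB G := by
  obtain ⟨⟨q, rfl⟩, h3, h4, -⟩ := h
  obtain ⟨π, h1, -⟩ := exists_cover e
  exact Polar.propB _ (omegaRep_injective _) (full_omega q h3 h4) π h1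

theorem goodForm_plus {m : ℕ} (hm : 4 ≤ m) : GoodForm (quadFormPlus m F) := by
  refine ⟨⟨∑ i, QuadraticMap.proj (.inl i) (.inr i), funext fun v => by
    simp [quadFormPlus, _root_.sum_apply]⟩, fun y h => funext ?_, by simp; omega,
    Pi.single (.inl ⟨0, by omega⟩) 1, by simp, by simp [quadFormPlus]⟩
  rintro (i | i)
  · simpa [quadFormPlus, mul_add, Finset.sum_add_distrib, Pi.single_apply]
      using h (Pi.single (.inr i) 1)
  · simpa [quadFormPlus, add_mul, Finset.sum_add_distrib, Pi.single_apply]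
      using h (Pi.single (.inl i) 1)

theorem goodForm_odd {m : ℕ} (hm : 3 ≤ m) (h2 : (2 : F) ≠ 0) : GoodForm (quadFormOdd m F) := by
  refine ⟨⟨QuadraticMap.proj (.inl ()) (.inl ()) +
    ∑ i, QuadraticMap.proj (.inr (.inl i)) (.inr (.inr i)), funext fun v => by
    simp [quadFormOdd, _root_.sum_apply, pow_two]⟩, fun y h => funext ?_, by simp; omega,
    Pi.single (.inr (.inl ⟨0, by omega⟩)) 1, by simp, by simp [quadFormOdd]⟩
  rintro (⟨⟩ | i | i)
  · have := h (Pi.single (.inl ()) 1)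
    simp [quadFormOdd] at this
    exact (mul_eq_zero.1 (by linear_combination this)).resolve_left h2
  · simpa [quadFormOdd, mul_add, Finset.sum_add_distrib, Pi.single_apply, add_left_comm]
      using h (Pi.single (.inr (.inr i)) 1)
  · simpa [quadFormOdd, add_mul, Finset.sum_add_distrib, Pi.single_apply, add_left_comm]
      using h (Pi.single (.inr (.inl i)) 1)

theorem goodForm_minus [Finite F] {m : ℕ} (hm : 3 ≤ m) {a b : F}
    (hab : ∀ z₁ z₂ : F, z₁ ^ 2 + a * z₁ * z₂ + b * z₂ ^ 2 = 0 → z₁ = 0 ∧ z₂ = 0) :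
    GoodForm (quadFormMinus m F a b) := by
  refine ⟨⟨∑ i, QuadraticMap.proj (.inl (.inl i)) (.inl (.inr i)) +
    (QuadraticMap.proj (.inr 0) (.inr 0) + a • QuadraticMap.proj (.inr 0) (.inr 1) +
      b • QuadraticMap.proj (.inr 1) (.inr 1)), funext fun v => by
    simp [quadFormMinus, _root_.sum_apply, pow_two, mul_assoc]⟩, fun y h => ?_,
    by simp; omega, Pi.single (.inl (.inl ⟨0, by omega⟩)) 1, by simp, by simp [quadFormMinus]⟩
  have h0 := h (Pi.single (.inr 0) 1)
  have h1 := h (Pi.single (.inr 1) 1)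
  simp [quadFormMinus] at h0 h1
  have h3 : y (.inr 0) = 0 ∧ y (.inr 1) = 0 := by
    by_cases h2 : (2 : F) = 0
    · have : CharP F 2 := CharTwo.of_one_ne_zero_of_two_eq_zero one_ne_zero h2
      obtain ⟨c, hc⟩ := surjective_frobenius F 2 b
      rw [frobenius_def] at hc
      have ha : a ≠ 0 := fun ha =>
        one_ne_zero (hab c 1 (by linear_combination hc + c * ha + b * h2)).2
      exact ⟨(mul_eq_zero.1 (by linear_combination h1 - b * y (.inr 1) * h2)).resolve_left ha,
        (mul_eq_zero.1 (by linear_combination h0 - y (.inr 0) * h2)).resolve_left ha⟩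
    · exact hab _ _ ((mul_eq_zero.1
        (by linear_combination y (.inr 0) * h0 + y (.inr 1) * h1)).resolve_left h2)
  funext j
  rcases j with (i | i) | i
  · simpa [quadFormMinus, mul_add, Finset.sum_add_distrib, Pi.single_apply, add_assoc]
      using h (Pi.single (.inl (.inr i)) 1)
  · simpa [quadFormMinus, add_mul, Finset.sum_add_distrib, Pi.single_apply, add_assoc]
      using h (Pi.single (.inl (.inl i)) 1)
  · fin_cases i
    exacts [h3.1, h3.2]

theorem two_ne_zero_of_odd [Fintype F] (h : Odd (Fintype.card F)) : (2 : F) ≠ 0 :=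
  Ring.two_ne_zero fun h2 => by
    have := FiniteField.even_card_iff_char_two.1 h2
    obtain ⟨k, hk⟩ := h
    omega

theorem propA_of_isPOmegaOddChar [IsSimpleGroup G] (h : IsPOmegaOddChar p G) : PropA p G := by
  obtain ⟨F, _, _, _, m, hm, h, ⟨e⟩⟩ := h
  exact (goodForm_odd hm (two_ne_zero_of_odd h)).propA e

theorem propB_of_isPOmegaOddChar (h : IsPOmegaOddChar 2 G) : PropB G := by
  obtain ⟨F, _, _, _, m, -, h, -⟩ := h
  exact (two_ne_zero_of_odd h CharTwo.two_eq_zero).elim

theorem propA_of_isPOmegaPlusChar [IsSimpleGroup G] (h : IsPOmegaPlusChar p G) : PropA p G := by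
  obtain ⟨F, _, _, _, m, hm, ⟨e⟩⟩ := h
  exact (goodForm_plus hm).propA e

theorem propB_of_isPOmegaPlusChar (h : IsPOmegaPlusChar 2 G) : PropB G := by
  obtain ⟨F, _, _, _, m, hm, ⟨e⟩⟩ := h
  exact (goodForm_plus hm).propB e

theorem propA_of_isPOmegaMinusChar [IsSimpleGroup G] (h : IsPOmegaMinusChar p G) : PropA p G := by
  obtain ⟨F, _, _, _, m, a, b, hm, hab, ⟨e⟩⟩ := h
  exact (goodForm_minus (by omega) hab).propA e

theorem propB_of_isPOmegaMinusChar (h : IsPOmegaMinusChar 2 G) : PropB G := by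
  obtain ⟨F, _, _, _, m, a, b, hm, hab, ⟨e⟩⟩ := h
  exact (goodForm_minus (by omega) hab).propB e

end LT
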