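import Cfsg.Agent.Lib.Grp.SylowIn
import Cfsg.Agent.Lib.Grp.PPart

/-!
# Target predicates for groups of Lie type and abstract criteria
-/

set_option autoImplicit false
set_option linter.unusedSectionVars false

namespace LT

open Cfsg GT Subgroup
open scoped Pointwise

/-- A `p'`-automorphism centralizing a Sylow `p`-subgroup is trivial. -/
def PropA (p : ℕ) (G : Type*) [Group G] : Prop :=
  ∀ α : MulAut G, ¬ p ∣ orderOf α → ∀ U : Sylow p G, (∀ x ∈ (U : Subgroup G), α x = x) → α = 1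

/-- `P/P'` is elementary abelian for Sylow `2`-subgroups `P`. -/
def PropB (G : Type*) [Group G] : Prop :=
  ∀ (P : Sylow 2 G) (x : (P : Subgroup G)), x ^ 2 ∈ commutator (P : Subgroup G)

variable {p : ℕ} [hp : Fact p.Prime] {Γ G : Type*} [Group Γ] [Group G]

/-- `a` is (the extension to `Γ` of) an endomorphism of `K` with `a ^ k = 1`, `p ∤ k`. -/
structure PAut (p : ℕ) (K : Subgroup Γ) (a : Γ → Γ) : Prop where
  mem : ∀ g ∈ K, a g ∈ K
  mul : ∀ g ∈ K, ∀ h ∈ K, a (g * h) = a g * a h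
  per : ∃ k, ¬ p ∣ k ∧ ∀ g ∈ K, a^[k] g = g

namespace PAut
variable {K : Subgroup Γ} {a : Γ → Γ} (ha : PAut p K a)
include ha

theorem one : a 1 = 1 := by
  have := ha.mul 1 (one_mem K) 1 (one_mem K)
  rwa [one_mul, left_eq_mul] at this

theorem inv {g : Γ} (hg : g ∈ K) : a g⁻¹ = (a g)⁻¹ :=
  eq_inv_of_mul_eq_one_left (by rw [← ha.mul _ (inv_mem hg) _ hg, inv_mul_cancel, ha.one])

theorem conj {g h : Γ} (hg : g ∈ K) (hh : h ∈ K) : a (g * h * g⁻¹) = a g * a h * (a g)⁻¹ := by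
  rw [ha.mul _ (mul_mem hg hh) _ (inv_mem hg), ha.mul _ hg _ hh, ha.inv hg]

/-- The fixed points of `a` in `K`. -/
def fix : Subgroup Γ where
  carrier := {g | g ∈ K ∧ a g = g}
  mul_mem' := fun {g h} hg hh => ⟨mul_mem hg.1 hh.1, by rw [ha.mul g hg.1 h hh.1, hg.2, hh.2]⟩
  one_mem' := ⟨one_mem K, ha.one⟩
  inv_mem' := fun {g} hg => ⟨inv_mem hg.1, by rw [ha.inv hg.1, hg.2]⟩

theorem mem_fix {g : Γ} : g ∈ ha.fix ↔ g ∈ K ∧ a g = g := Iff.rfl

/-- If `a` moves the coset `g B` by a fixed `p`-element, it fixes the coset. -/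
theorem coset {B : Subgroup Γ} (hB : ∀ b ∈ K, b ∈ B → a b ∈ B) {g u : Γ} (hg : g ∈ K)
    (hu : u ∈ ha.fix) (hup : IsPElt p u) (h : (u * g)⁻¹ * a g ∈ B) : g⁻¹ * a g ∈ B := by
  obtain ⟨k, hk, hk'⟩ := ha.per
  have h1 : ∀ j : ℕ, a^[j] g ∈ K ∧ (u ^ j * g)⁻¹ * a^[j] g ∈ B := fun j => by
    induction j with
    | zero => exact ⟨hg, by simp⟩
    | succ j ih =>
      have hj := pow_mem hu j
      have h2 := hB _ (mul_mem (inv_mem (mul_mem hj.1 hg)) ih.1) ih.2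
      rw [ha.mul _ (inv_mem (mul_mem hj.1 hg)) _ ih.1, ha.inv (mul_mem hj.1 hg),
        ha.mul _ hj.1 _ hg, hj.2] at h2
      rw [Function.iterate_succ_apply']
      refine ⟨ha.mem _ ih.1, ?_⟩
      convert mul_mem h h2 using 1
      rw [pow_succ]; group
  have h2 : g⁻¹ * u ^ k * g ∈ B := by
    have := inv_mem (h1 k).2
    rw [hk' g hg] at this
    convert this using 1; group
  have h3 : g⁻¹ * u * g ∈ B := by
    obtain ⟨m, hm⟩ := exists_pow_eq_self_of_coprime (x := u) (n := k)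
      (hup.coprime_orderOf ((Nat.Prime.coprime_iff_not_dvd hp.out).2 hk)).symm
    have := pow_mem h2 m
    rwa [show g⁻¹ * u ^ k * g = g⁻¹ * u ^ k * g⁻¹⁻¹ by rw [inv_inv], conj_pow, hm, inv_inv] at this
  convert mul_mem h3 h using 1; group

/-- If `g⁻¹ a(g)` is a fixed `p`-element then `g` is fixed. -/
theorem fix_of_mul {g : Γ} (hg : g ∈ K) (h1 : g⁻¹ * a g ∈ ha.fix) (h2 : IsPElt p (g⁻¹ * a g)) :
    g ∈ ha.fix := by
  have := ha.coset (B := ⊥) (fun b _ hb => by rw [mem_bot.1 hb, ha.one]; exact one_mem _)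
    (inv_mem hg) (inv_mem h1) h2.inv (by rw [ha.inv hg, mem_bot]; group)
  rw [mem_bot, inv_inv, ha.inv hg, mul_inv_eq_one] at this
  exact ⟨hg, this.symm⟩

theorem mem_normalizer {Q : Subgroup Γ} (hQ : Q ≤ ha.fix) {g : Γ} (hg : g ∈ K)
    (h : g ∈ normalizer (Q : Set Γ)) :
    a g ∈ normalizer (Q : Set Γ) ∧ g⁻¹ * a g ∈ centralizer (Q : Set Γ) := by
  have h1 : g⁻¹ * a g ∈ centralizer (Q : Set Γ) := fun q hq => by
    have h2 := (hQ ((mem_normalizer_iff.1 h q).1 hq)).2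
    rw [ha.conj hg (hQ hq).1, (hQ hq).2] at h2
    calc q * (g⁻¹ * a g) = g⁻¹ * (g * q * g⁻¹) * a g := by group
      _ = _ := by rw [← h2]; group
  exact ⟨by simpa using mul_mem h (centralizer_le_normalizer _ h1), h1⟩

/-- Criterion C2: a fixed subgroup `Q` whose centralizer consists of fixed `p`-elements has a fixed
normalizer. -/
theorem normalizer_fix {Q U : Subgroup Γ} (hU : U ≤ ha.fix) (hUp : IsPGroup p U)
    (hQ : Q ≤ ha.fix) (hC : K ⊓ centralizer (Q : Set Γ) ≤ U) {g : Γ} (hg : g ∈ K)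
    (h : g ∈ normalizer (Q : Set Γ)) : g ∈ ha.fix :=
  have h1 := hC ⟨K.mul_mem (K.inv_mem hg) (ha.mem g hg), (ha.mem_normalizer hQ hg h).2⟩
  ha.fix_of_mul hg (hU h1) (isPElt_of_mem hUp h1)

/-- Criterion C3 (one minimal parabolic subgroup `N_K(Q) = B ∪ U n B`). -/
theorem conj_fix [Finite Γ] {Q U : Subgroup Γ} (hU : U ≤ ha.fix) (hS : IsSylowIn p U K)
    (hQ : Q ≤ U) (hUQ : U ≤ normalizer (Q : Set Γ)) {n : Γ} (hnK : n ∈ K)
    (hn : n ∈ normalizer (Q : Set Γ))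
    (hN : ∀ g ∈ K, g ∈ normalizer (Q : Set Γ) → g ∈ normalizer (U : Set Γ) ∨
      ∃ u ∈ U, (u * n)⁻¹ * g ∈ normalizer (U : Set Γ)) {u : Γ} (hu : u ∈ U) :
    n * u * n⁻¹ ∈ ha.fix := by
  have hB : ∀ b ∈ K, b ∈ normalizer (U : Set Γ) → a b ∈ normalizer (U : Set Γ) := fun b hb h =>
    (ha.mem_normalizer hU hb h).1
  have h1 : n⁻¹ * a n ∈ normalizer (U : Set Γ) := by
    rcases hN _ (ha.mem n hnK) (ha.mem_normalizer (hQ.trans hU) hnK hn).1 with h | ⟨v, hv, h⟩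
    · obtain ⟨k, hk, hk'⟩ := ha.per
      obtain ⟨j, rfl⟩ := Nat.exists_eq_succ_of_ne_zero (n := k) (fun h0 => hk (h0 ▸ dvd_zero p))
      have : ∀ i : ℕ, a^[i] (a n) ∈ K ⊓ normalizer (U : Set Γ) := fun i => by
        induction i with
        | zero => exact ⟨ha.mem n hnK, h⟩
        | succ i ih => rw [Function.iterate_succ_apply']; exact ⟨ha.mem _ ih.1, hB _ ih.1 ih.2⟩
      have h2 := (this j).2
      rw [← Function.iterate_succ_apply, hk' n hnK] at h2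
      exact mul_mem (inv_mem h2) h
    · exact ha.coset hB hnK (hU hv) (isPElt_of_mem hS.isPGroup hv) h
  have hv : n * u * n⁻¹ ∈ K := mul_mem (mul_mem hnK (hS.le hu)) (inv_mem hnK)
  have h2 : (n * u * n⁻¹)⁻¹ * a (n * u * n⁻¹) ∈ normalizer (U : Set Γ) := by
    rcases hN _ hv (mul_mem (mul_mem hn (hUQ hu)) (inv_mem hn)) with h | ⟨v, hv', h⟩
    · exact mul_mem (inv_mem h) (hB _ hv h)
    · have hvK := hS.le hv'
      have h3 := hB _ (mul_mem (inv_mem (mul_mem hvK hnK)) hv) h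
      rw [ha.mul _ (inv_mem (mul_mem hvK hnK)) _ hv, ha.inv (mul_mem hvK hnK), ha.mul _ hvK _ hnK,
        (hU hv').2] at h3
      convert mul_mem (mul_mem (inv_mem h) h1) h3 using 1; group
  have h3 : IsPElt p ((n * u * n⁻¹)⁻¹ * a (n * u * n⁻¹)) := by
    have h4 := mul_mem (inv_mem hu) ((mem_normalizer_iff.1 h1 u).1 hu)
    convert (isPElt_of_mem hS.isPGroup h4).conj n using 1
    rw [ha.conj hnK (hS.le hu), (hU hu).2]; group
  exact ha.fix_of_mul hv (hU (hS.mem_of_mem_normalizer h3 (mul_mem (inv_mem hv) (ha.mem _ hv)) h2))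
    h3

end PAut

theorem propA_of_equiv [Finite G] {K U : Subgroup Γ} (e : G ≃* K) (hUK : U ≤ K) (hU : IsPGroup p U)
    (h : ∀ (a : Γ → Γ) (ha : PAut p K a), U ≤ ha.fix → K ≤ ha.fix) : PropA p G := by
  classical
  intro α hα S hS
  obtain ⟨g, hg⟩ := exists_conj_le_sylow S
    ((hU.of_equiv (subgroupOfEquivOfLe hUK).symm).map e.symm.toMonoidHom)
  let e' : G ≃* K := (MulAut.conj g).symm.trans e
  let a : Γ → Γ := fun x => if hx : x ∈ K then e' (α (e'.symm ⟨x, hx⟩)) else x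
  have h1 : ∀ x : K, a x = e' (α (e'.symm x)) := fun x => dif_pos x.2
  have ha : PAut p K a := by
    refine ⟨fun x hx => h1 ⟨x, hx⟩ ▸ (e' _).2, fun x hx y hy => ?_, orderOf α, hα, fun x hx => ?_⟩
    · have := h1 (⟨x, hx⟩ * ⟨y, hy⟩)
      rwa [map_mul, map_mul, map_mul, coe_mul, coe_mul, ← h1, ← h1] at this
    · have h2 : ∀ j : ℕ, a^[j] x = e' ((α ^ j) (e'.symm ⟨x, hx⟩)) := fun j => by
        induction j with
        | zero => simp
        | succ j ih => rw [Function.iterate_succ_apply', ih, h1, pow_succ']; simp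
      rw [h2, pow_orderOf_eq_one]; simp
  have h2 := h a ha fun u hu => ⟨hUK hu, by
    rw [h1 ⟨u, hUK hu⟩, hS (e'.symm ⟨u, hUK hu⟩) (hg ⟨_, ⟨⟨u, hUK hu⟩, hu, rfl⟩, rfl⟩),
      MulEquiv.apply_symm_apply]⟩
  ext x
  have := (h2 (e' x).2).2
  rw [h1, MulEquiv.symm_apply_apply] at this
  exact e'.injective (Subtype.ext this)

theorem propA_of_top [Finite G] (e : G ≃* Γ) {U : Subgroup Γ} (hU : IsPGroup p U)
    (h : ∀ (a : Γ → Γ) (ha : PAut p ⊤ a), U ≤ ha.fix → ⊤ ≤ ha.fix) : PropA p G :=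
  propA_of_equiv (e.trans topEquiv.symm) le_top hU h

/-- `PropB` for a homomorphic image of `K` from one Sylow subgroup `U` of `K`. -/
theorem propB_of_surjective [Finite G] {K U : Subgroup Γ} [Finite K] (f : K →* G)
    (hf : Function.Surjective f) (hU : IsSylowIn 2 U K) {T : Set Γ} (hT : U ≤ closure T)
    (h : ∀ t ∈ T, t ∈ U ∧ t ^ 2 ∈ ⁅U, U⁆) : PropB G := by
  have h1 : ∀ u ∈ U, u ^ 2 ∈ ⁅U, U⁆ := fun u hu => by
    refine (closure_induction (p := fun t _ => t ∈ U ∧ t ^ 2 ∈ ⁅U, U⁆) h ⟨one_mem _, by simp⟩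
      (fun x y _ _ hx hy => ⟨mul_mem hx.1 hy.1, ?_⟩)
      (fun x _ hx => ⟨inv_mem hx.1, by rw [inv_pow]; exact inv_mem hx.2⟩) (hT hu)).2
    convert mul_mem (mul_mem hx.2 (commutator_mem_commutator (inv_mem hx.1) hy.1)) hy.2 using 1
    simp only [commutatorElement_def, pow_two]; group
  intro P x
  obtain ⟨g, -, hg⟩ := (((isSylowIn_subgroupOf_top_iff hU.le).2 hU).map_top_of_surjective
    hf).exists_conj_eq (isSylowIn_sylow P)
  let φ : K →* G := (MulAut.conj g).toMonoidHom.comp f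
  have h2 : (U.subgroupOf K).map φ = P := by rw [← hg, ← map_map]; rfl
  obtain ⟨u, hu, hx⟩ : (x : G) ∈ (U.subgroupOf K).map φ := h2.ge x.2
  have h3 : u ^ 2 ∈ ⁅U.subgroupOf K, U.subgroupOf K⁆ := by
    rw [← mem_map_iff_mem K.subtype_injective, map_commutator, map_subgroupOf_eq_of_le hU.le]
    exact h1 u hu
  have h4 := mem_map_of_mem φ h3
  rw [map_commutator, h2, map_pow, hx, ← map_subtype_commutator] at h4
  exact (mem_map_iff_mem (P : Subgroup G).subtype_injective).1 h4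

end LT
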