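import Mathlib

/-!
# A kernel evaluator for matrices acting on formal vectors with polynomial coefficients

A formal vector is a list of terms `(k, m, c)` standing for `c * μ m` times the `k`-th basis
vector, where `μ : ℕ →* F` (monomials are coded as natural numbers, variables as primes).
-/

set_option autoImplicit false

namespace LT

open Matrix

/-- Formal vectors. -/
inductive FV | nil | cons (k m : ℕ) (c : ℤ) (t : FV)

noncomputable section

def all (n : ℕ) (f : ℕ → Bool) : Bool := Nat.rec true (fun i ih => Bool.rec false ih (f i)) n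

def sumTo (n : ℕ) (f : ℕ → ℤ) : ℤ := Nat.rec 0 (fun i ih => Int.add ih (f i)) n

def ibeq (a b : ℤ) : Bool :=
  Int.rec (fun m => Int.rec (fun n => Nat.beq m n) (fun _ => false) b)
    (fun m => Int.rec (fun _ => false) (fun n => Nat.beq m n) b) a

/-- The `k`-th basis vector. -/
def FV.one (k : ℕ) : FV := .cons k 1 1 .nil

/-- The monomial `c * μ m`. -/
def FV.mon (m : ℕ) (c : ℤ) : FV := .cons 0 m c .nil

def mulq (q : FV) (a j : ℕ) : ℕ → ℤ → FV → FV :=
  Nat.rec (fun m c acc => .cons a m c acc) (fun _ ih m c acc =>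
    FV.rec acc (fun _ m' c' _ acc => ih (Nat.mul m m') (Int.mul c c') acc) q) j

/-- Apply the matrix with columns `e_k + ∑ c q ^ j e_a`, `(a, j, c) ∈ f k`. -/
def appx (f : ℕ → FV) (q v : FV) : FV :=
  FV.rec .nil (fun k m c _ acc => .cons k m c
    (FV.rec acc (fun a j d _ acc => mulq q a j m (Int.mul c d) acc) (f k))) v

/-- Apply the integral matrix with columns `f k` (monomials of `f k` are ignored). -/
def appm (f : ℕ → FV) (v : FV) : FV :=
  FV.rec .nil (fun k m c _ acc =>
    FV.rec acc (fun a _ d _ acc => .cons a m (Int.mul c d) acc) (f k)) v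

def FV.beq (v : FV) : FV → Bool :=
  FV.rec (fun w => FV.rec true (fun _ _ _ _ _ => false) w) (fun k m c _ ih w =>
    FV.rec false (fun k' m' c' t' _ => Bool.rec false (Bool.rec false (Bool.rec false (ih t')
      (ibeq c c')) (Nat.beq m m')) (Nat.beq k k')) w) v

def ins (k m : ℕ) (c : ℤ) (v : FV) : FV :=
  FV.rec (.cons k m c .nil) (fun k' m' c' t ih => Bool.rec (.cons k' m' c' ih)
    (Bool.rec (.cons k' m' c' ih) (.cons k m (Int.add c c') t) (Nat.beq m m')) (Nat.beq k k')) v

def zer (p : ℕ) (v : FV) : Bool :=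
  FV.rec true (fun _ _ c _ ih => Bool.rec false ih (Nat.beq (Nat.mod (Int.natAbs c) p) 0)) v

/-- Equality of formal vectors modulo `p`. -/
def eqv (p : ℕ) (v w : FV) : Bool :=
  Bool.rec (zer p (FV.rec (FV.rec .nil (fun k m c _ ih => ins k m (Int.neg c) ih) w)
    (fun k m c _ ih => ins k m c ih) v)) true (v.beq w)

/-- The `a`-th coordinate as a polynomial. -/
def coord (a : ℕ) (v : FV) : FV :=
  FV.rec .nil (fun k m c _ ih => Bool.rec ih (.cons 0 m c ih) (Nat.beq k a)) v

/-- All terms satisfy `f`. -/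
def FV.all (f : ℕ → ℕ → ℤ → Bool) (v : FV) : Bool :=
  FV.rec true (fun k m c _ ih => Bool.rec false ih (f k m c)) v

theorem rec_false {a b : Bool} : Bool.rec (motive := fun _ => Bool) false a b = (b && a) := by
  cases b <;> rfl

theorem all_iff {n : ℕ} {f : ℕ → Bool} : all n f = true ↔ ∀ i < n, f i = true := by
  induction n with
  | zero => simp [all]
  | succ n ih =>
    refine (congrArg (· = true) rec_false).to_iff.trans ?_
    rw [Bool.and_eq_true, Nat.forall_lt_succ_right, and_comm]
    exact and_congr_left' ih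

theorem sumTo_eq (n : ℕ) (f : ℕ → ℤ) : sumTo n f = ∑ i : Fin n, f i := by
  rw [Fin.sum_univ_eq_sum_range]
  induction n with
  | zero => rfl
  | succ n ih => rw [Finset.sum_range_succ, ← ih]; rfl

theorem ibeq_iff {a b : ℤ} : ibeq a b = true ↔ a = b := by
  cases a <;> cases b <;> simp [ibeq]

theorem FV.eq_of_beq {v w : FV} (h : v.beq w = true) : v = w := by
  induction v generalizing w with
  | nil => cases w; exacts [rfl, nomatch h]
  | cons k m c t ih =>
    cases w with
    | nil => nomatch h
    | cons k' m' c' t' =>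
      change Bool.rec false (Bool.rec false (Bool.rec false (t.beq t') _) _) _ = true at h
      simp only [rec_false, Bool.and_eq_true, Nat.beq_eq, ibeq_iff] at h
      rw [h.1, h.2.1, h.2.2.1, ih h.2.2.2]

theorem FV.all_cons {f : ℕ → ℕ → ℤ → Bool} {k m : ℕ} {c : ℤ} {t : FV} :
    (cons k m c t).all f = true ↔ f k m c = true ∧ t.all f = true :=
  (congrArg (· = true) rec_false).to_iff.trans (Bool.and_eq_true _ _).to_iff

variable {I F V : Type*} [Field F] [AddCommGroup V] [Module F V]

/-- The basis vector with code `k`. -/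
def bas (F : Type*) [Field F] (cd : I → ℕ) (k : ℕ) : I → F := fun j => if cd j = k then 1 else 0

/-- The value of a formal vector. -/
def ev (b : ℕ → V) (μ : ℕ → F) : FV → V
  | .nil => 0
  | .cons k m c t => (c * μ m) • b k + ev b μ t

/-- The value of a formal polynomial. -/
abbrev pv (μ : ℕ → F) : FV → F := ev (fun _ => 1) μ

variable {b : ℕ → V} {μ : ℕ →* F}

theorem ev_one (k : ℕ) : ev b μ (.one k) = b k := by simp [FV.one, ev]

theorem pv_mon (μ : ℕ → F) (m : ℕ) (c : ℤ) : pv μ (.mon m c) = c * μ m := by simp [FV.mon, ev]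

theorem pv_coord (cd : I → ℕ) (μ : ℕ → F) (j : I) (v : FV) :
    pv μ (coord (cd j) v) = ev (bas F cd) μ v j := by
  induction v with
  | nil => rfl
  | cons k m c t ih =>
    rw [ev, Pi.add_apply, ← ih]
    change pv μ (Bool.rec (coord _ t) (.cons 0 m c (coord _ t)) (Nat.beq k (cd j))) = _
    cases h : Nat.beq k (cd j)
    · simp [bas, Ne.symm (Nat.ne_of_beq_eq_false h)]
    · simp [bas, Nat.eq_of_beq_eq_true h, ev]

theorem ev_mulq (q : FV) (a j m : ℕ) (c : ℤ) (acc : FV) :
    ev b μ (mulq q a j m c acc) = (c * μ m * pv μ q ^ j) • b a + ev b μ acc := by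
  induction j generalizing m c acc with
  | zero => simp [mulq, ev]
  | succ j ih =>
    suffices ∀ q' : FV, ev b μ (FV.rec acc (fun _ m' c' _ acc =>
        mulq q a j (Nat.mul m m') (Int.mul c c') acc) q') =
        (c * μ m * (pv μ q ^ j * pv μ q')) • b a + ev b μ acc from
      (this q).trans (by rw [pow_succ])
    intro q'
    induction q' with
    | nil => simp [ev]
    | cons _ m' c' t ih' =>
      rw [ih, ih', pv, ev, Nat.mul_eq, map_mul, Int.mul_def, Int.cast_mul, smul_eq_mul]; module

section
variable [Fintype I] {b : ℕ → I → F} {A : Matrix I I F} {f : ℕ → FV}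

theorem ev_appx {q : FV} (h : ∀ k, A *ᵥ b k = b k + ev b (pv μ q ^ ·) (f k))
    (v : FV) : ev b μ (appx f q v) = A *ᵥ ev b μ v := by
  induction v with
  | nil => simp [appx, ev]
  | cons k m c t ih =>
    suffices ∀ w : FV, ev b μ (FV.rec (appx f q t) (fun a j d _ acc =>
        mulq q a j m (Int.mul c d) acc) w) =
        (c * μ m) • ev b (pv μ q ^ ·) w + ev b μ (appx f q t) from
      (congrArg (_ + ·) (this _)).trans (by rw [ih, ev, mulVec_add, mulVec_smul, h]; module)
    intro w
    induction w with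
    | nil => simp [ev]
    | cons a j d _ ih' => rw [ev_mulq, ih', ev, Int.mul_def, Int.cast_mul]; module

theorem ev_appm (h : ∀ k, A *ᵥ b k = ev b (1 : ℕ → F) (f k)) (μ : ℕ → F) (v : FV) :
    ev b μ (appm f v) = A *ᵥ ev b μ v := by
  induction v with
  | nil => simp [appm, ev]
  | cons k m c t ih =>
    suffices ∀ w : FV, ev b μ (FV.rec (appm f t) (fun a _ d _ acc =>
        .cons a m (Int.mul c d) acc) w) = (c * μ m) • ev b (1 : ℕ → F) w + ev b μ (appm f t) from
      (this _).trans (by rw [ih, ev, mulVec_add, mulVec_smul, h])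
    intro w
    induction w with
    | nil => simp [ev]
    | cons a j d _ ih' => rw [ev, ih', ev, Pi.one_apply, Int.mul_def, Int.cast_mul]; module

end

theorem ev_ins (μ : ℕ → F) (k m : ℕ) (c : ℤ) (v : FV) :
    ev b μ (ins k m c v) = (c * μ m) • b k + ev b μ v := by
  induction v with
  | nil => rfl
  | cons k' m' c' t ih =>
    have h0 : ev b μ (.cons k' m' c' (ins k m c t)) =
        (c * μ m) • b k + ev b μ (.cons k' m' c' t) := by rw [ev, ih, ev]; abel
    change ev b μ (Bool.rec (.cons k' m' c' (ins k m c t)) (Bool.rec (.cons k' m' c' (ins k m c t))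
      (.cons k m (Int.add c c') t) (Nat.beq m m')) (Nat.beq k k')) = _
    cases h : Nat.beq k k'
    · exact h0
    cases h' : Nat.beq m m'
    · exact h0
    obtain rfl := Nat.eq_of_beq_eq_true h
    obtain rfl := Nat.eq_of_beq_eq_true h'
    simp only [ev, Int.add_def, Int.cast_add]
    module

theorem ev_of_eqv {p : ℕ} (hp : (p : F) = 0) (b : ℕ → V) (μ : ℕ → F) {v w : FV}
    (h : eqv p v w = true) : ev b μ v = ev b μ w := by
  have h1 : ∀ u, zer p u = true → ev b μ u = 0 := fun u hu => by
    induction u with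
    | nil => rfl
    | cons k m c t ih =>
      change Bool.rec false (zer p t) _ = true at hu
      simp only [rec_false, Bool.and_eq_true, Nat.beq_eq] at hu
      obtain ⟨d, rfl⟩ := Int.natCast_dvd.2 (Nat.dvd_of_mod_eq_zero hu.1)
      simp [ev, ih hu.2, hp]
  rw [eqv] at h
  cases h' : v.beq w
  swap; · rw [FV.eq_of_beq h']
  rw [h'] at h
  rw [← sub_eq_zero, ← h1 _ h]
  clear h h'
  induction v with
  | cons k m c t ih => rw [ev_ins, ← ih, ev]; abel
  | nil =>
    induction w with
    | nil => simp [ev]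
    | cons k m c t ih =>
      rw [ev_ins, ← ih, ev, ev, show Int.neg c = -c from rfl, Int.cast_neg]; module

theorem exists_mu (v : ℕ → F) : ∃ μ : ℕ →* F, ∀ p, p.Prime → μ p = v p := by
  refine ⟨⟨⟨fun n => if n = 0 then 0 else n.factorization.prod fun p k => v p ^ k, by simp⟩,
    fun m n => ?_⟩, fun p hp => by simp [hp.ne_zero, hp.factorization]⟩
  by_cases hm : m = 0
  · simp [hm]
  by_cases hn : n = 0
  · simp [hn]
  simp [hm, hn, Nat.factorization_mul, Finsupp.prod_add_index', pow_add]

theorem exists_mu2 (t u : F) : ∃ μ : ℕ →* F, μ 2 = t ∧ μ 3 = u := by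
  obtain ⟨μ, h⟩ := exists_mu fun p => if p = 2 then t else u
  exact ⟨μ, h 2 Nat.prime_two, h 3 Nat.prime_three⟩

end
end LT
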