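import Cfsg.Agent.Lib.Lie.PolarThm

/-!
# Groups generated by transvections; the commutator subgroup of an orthogonal group
-/

set_option autoImplicit false
set_option linter.unusedSectionVars false

namespace LT

open Cfsg GT Subgroup Module
open scoped commutatorElement

variable {p : ℕ} [hp : Fact p.Prime] {F V : Type*} [Field F] [AddCommGroup V] [Module F V]

/-- `g` is the transvection with centre `e` and axis `ker φ`. -/
def IsTv (e : V) (φ : Dual F V) (g : V ≃ₗ[F] V) : Prop := φ e = 0 ∧ ∀ x, g x = x + φ x • e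

variable {e : V} {φ ψ : Dual F V} {g h : V ≃ₗ[F] V}

theorem exists_isTv (h : φ e = 0) : ∃ g, IsTv e φ g :=
  ⟨LinearEquiv.ofLinearMap (LinearMap.id + φ.smulRight e) (LinearMap.id - φ.smulRight e)
    (by ext x; simp [h]) (by ext x; simp [h]), h, fun _ => rfl⟩

theorem IsTv.mul (hg : IsTv e φ g) (hh : IsTv e ψ h) : IsTv e (φ + ψ) (g * h) :=
  ⟨by simp [hg.1, hh.1], fun x => by
    simp only [LinearEquiv.mul_apply, hg.2, hh.2, map_add, map_smul, hg.1, LinearMap.add_apply]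
    module⟩

theorem IsTv.inv (hg : IsTv e φ g) : IsTv e (-φ) g⁻¹ :=
  ⟨by simp [hg.1], fun x => g.injective (by
    rw [show g (g⁻¹ x) = x from g.apply_symm_apply x, hg.2]; simp [hg.1])⟩

theorem IsTv.pow_eq_one [CharP F p] (hg : IsTv e φ g) : g ^ p = 1 := by
  have h1 : ∀ n : ℕ, IsTv e ((n : F) • φ) (g ^ n) := fun n => by
    induction n with
    | zero => exact ⟨by simp, by simp⟩
    | succ n ih => simpa [pow_succ, add_smul] using ih.mul hg
  ext x
  simpa using (h1 p).2 x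

theorem IsTv.isPElt [CharP F p] (hg : IsTv e φ g) : IsPElt p g :=
  isPElt_of_pow_eq_one (k := 1) (by rw [pow_one, hg.pow_eq_one])

theorem IsTv.conj (hg : IsTv e φ g) {k : V ≃ₗ[F] V} {a : F} (ha : a ≠ 0) (hk : k e = a • e) :
    IsTv e (a • φ.comp (k.symm : V →ₗ[F] V)) (k * g * k⁻¹) := by
  have h1 : k.symm e = a⁻¹ • e := by
    rw [LinearEquiv.symm_apply_eq, map_smul, hk, inv_smul_smul₀ ha]
  refine ⟨by simp [h1, hg.1], fun x => ?_⟩
  obtain ⟨y, rfl⟩ := k.surjective x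
  have : (k * g * k⁻¹) (k y) = k (g y) := by simp
  rw [this, hg.2]; simp [hk, smul_smul, mul_comm]

/-- The transvections with centre `e` whose axis contains `C`. -/
def tvQ (e : V) (C : Submodule F V) : Subgroup (V ≃ₗ[F] V) where
  carrier := {g | ∃ φ : Dual F V, (∀ c ∈ C, φ c = 0) ∧ IsTv e φ g}
  mul_mem' := by
    rintro g h ⟨φ, hφ, hg⟩ ⟨ψ, hψ, hh⟩
    exact ⟨_, fun c hc => by simp [hφ c hc, hψ c hc], hg.mul hh⟩
  one_mem' := ⟨0, fun _ _ => rfl, rfl, by simp⟩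
  inv_mem' := by
    rintro g ⟨φ, hφ, hg⟩
    exact ⟨_, fun c hc => by simp [hφ c hc], hg.inv⟩

theorem isPGroup_tvQ [CharP F p] (e : V) (C : Submodule F V) : IsPGroup p (tvQ e C) :=
  isPGroup_iff_forall_isPElt.2 fun _ ⟨_, _, hg⟩ => hg.isPElt

theorem exists_dual_one {C : Submodule F V} {x : V} (hx : x ∉ C) :
    ∃ φ : Dual F V, φ x = 1 ∧ ∀ c ∈ C, φ c = 0 := by
  obtain ⟨φ, h1, h2⟩ := C.exists_le_ker_of_notMem hx
  exact ⟨(φ x)⁻¹ • φ, by simp [h1], fun c hc => by simp [LinearMap.mem_ker.1 (h2 hc)]⟩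

theorem exists_sub_mem_of_dual {C : Submodule F V} {x : V}
    (h : ∀ φ : Dual F V, (∀ c ∈ C, φ c = 0) → φ e = 0 → φ x = 0) : ∃ a : F, x - a • e ∈ C := by
  by_contra! h1
  obtain ⟨φ, h2, h3⟩ := exists_dual_one (C := C ⊔ Submodule.span F {e}) (x := x) fun hx => by
    obtain ⟨c, hc, _, hy, rfl⟩ := Submodule.mem_sup.1 hx
    obtain ⟨a, rfl⟩ := Submodule.mem_span_singleton.1 hy
    exact h1 a (by simpa using hc)
  rw [h φ (fun c hc => h3 c (Submodule.mem_sup_left hc))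
    (h3 e (Submodule.mem_sup_right (Submodule.mem_span_singleton_self e)))] at h2
  exact zero_ne_one h2

theorem propA_tv [CharP F p] [FiniteDimensional F V] {H G : Type*} [Group H] [Group G] [Finite G]
    [IsSimpleGroup G] (ρ : H →* (V ≃ₗ[F] V)) (hρ : Function.Injective ρ)
    (hX : ∀ {e φ g}, IsTv e φ g → g ∈ ρ.range) (π : H →* G) (hπ : Function.Surjective π)
    (hker : π.ker ≤ center H) (h2 : 2 ≤ finrank F V) : PropA p G := by
  have : Nontrivial V := Module.nontrivial_of_finrank_pos (R := F) (by omega)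
  obtain ⟨e, he⟩ := exists_ne (0 : V)
  refine propA_of_linear ρ hρ π hπ hker (isPGroup_tvQ e ⊥) (fun _ ⟨_, _, ht⟩ => hX ht)
    (e := e) (fun _ ⟨_, _, ht⟩ => by simp [ht.2, ht.1]) ?_ ?_ fun g k h => ?_
  · rintro g ⟨a, ha, hg⟩ t ⟨φ, -, ht⟩
    exact ⟨_, by simp, ht.conj ha hg⟩
  · obtain ⟨φ, h1, -⟩ := exists_dual_one (C := (⊥ : Submodule F V)) he
    obtain ⟨v, hv, hv0⟩ := (Submodule.ne_bot_iff _).1
      (LinearMap.ker_ne_bot_of_finrank_lt (f := φ) (by simp; omega))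
    obtain ⟨t, ht⟩ := exists_isTv (LinearMap.mem_ker.1 hv)
    obtain ⟨g, rfl⟩ := hX ht
    refine ⟨g, fun ⟨a, _, ha⟩ => hv0 ?_⟩
    simpa [ht.2, h1] using apply_eq_of_isPElt (ht.isPElt (p := p)) ha
  have hx : ρ g e ≠ 0 := by simpa using he
  have hy : ρ k e ≠ 0 := by simpa using he
  generalize ρ g e = x, ρ k e = y at h hx hy
  have h1 : ∀ φ : Dual F V, φ e = 0 → (φ x = 0 ↔ φ y = 0) := fun φ hφ => by
    obtain ⟨t, ht⟩ := exists_isTv hφ
    simpa [ht.2, he] using h t ⟨φ, by simp, ht⟩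
  by_cases h3 : ∀ φ : Dual F V, φ e = 0 → φ x = 0
  · obtain ⟨r, hr⟩ := exists_sub_mem_of_dual (C := ⊥) fun φ _ => h3 φ
    obtain ⟨s, hs⟩ := exists_sub_mem_of_dual (C := ⊥) fun φ _ hφ => (h1 φ hφ).1 (h3 φ hφ)
    rw [Submodule.mem_bot, sub_eq_zero] at hr hs
    subst hr hs
    have hr : r ≠ 0 := fun h => hx (by simp [h])
    have hs : s ≠ 0 := fun h => hy (by simp [h])
    exact ⟨1, one_mem _, s * r⁻¹, mul_ne_zero hs (inv_ne_zero hr), by simp [smul_smul, hr]⟩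
  push Not at h3
  obtain ⟨φ, hφ, h3⟩ := h3
  have hs := (h1 φ hφ).not.1 h3
  obtain ⟨d, hd⟩ := exists_sub_mem_of_dual (C := ⊥) (e := e) (x := y - (φ y / φ x) • x)
    fun ψ _ hψ => by
      have := (h1 (φ x • ψ - ψ x • φ) (by simp [hφ, hψ])).1 (by simp [mul_comm])
      simp only [LinearMap.sub_apply, LinearMap.smul_apply, smul_eq_mul, map_sub, map_smul] at *
      field_simp
      linear_combination this
  obtain ⟨t, ht⟩ := exists_isTv (e := e) (φ := (d / φ y) • φ) (by simp [hφ])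
  refine ⟨t, ⟨_, by simp, ht⟩, φ y / φ x, div_ne_zero hs h3, ?_⟩
  rw [Submodule.mem_bot, sub_sub, sub_eq_zero] at hd
  refine hd.trans ?_
  rw [ht.2, smul_add, smul_smul]
  congr 2
  simp only [LinearMap.smul_apply, smul_eq_mul]
  field_simp

/-- The elements `g` of `X` with `[V, g] ≤ W` fixing `C` pointwise. -/
def brkFix (X : Subgroup (V ≃ₗ[F] V)) (W C : Submodule F V) : Subgroup (V ≃ₗ[F] V) where
  carrier := {g | g ∈ brk X W ∧ ∀ c ∈ C, g c = c}
  mul_mem' := fun {g h} hg hh => ⟨mul_mem hg.1 hh.1, fun c hc => by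
    rw [LinearEquiv.mul_apply, hh.2 c hc, hg.2 c hc]⟩
  one_mem' := ⟨one_mem _, fun _ _ => rfl⟩
  inv_mem' := fun {g} hg => ⟨inv_mem hg.1, fun c hc => g.symm_apply_eq.2 (hg.2 c hc).symm⟩

theorem sylB_brkFix [CharP F 2] [Finite V] {X : Subgroup (V ≃ₗ[F] V)}
    (hX : ∀ {e φ g}, IsTv e φ g → g ∈ X) (W C : Submodule F V) (hd : Disjoint W C) :
    SylB (brkFix X W C) := by
  induction W using WellFoundedLT.induction generalizing C with | _ W ih => ?_
  by_cases hW : W = ⊥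
  · refine sylB_of_sq fun g hg _ => ?_
    rw [show g = 1 from LinearEquiv.ext fun x => by simpa [hW, sub_eq_zero] using hg.1.2 x, one_pow]
  obtain ⟨e, heW, he⟩ := (Submodule.ne_bot_iff W).1 hW
  rw [Submodule.disjoint_def] at hd
  obtain ⟨l, hl, hlC⟩ := exists_dual_one (C := C) fun h => he (hd e heW h)
  have heC := Submodule.mem_sup_right (S := C) (Submodule.mem_span_singleton_self (R := F) e)
  have hQ : tvQ e C ≤ brkFix X W C := fun t ⟨φ, hφ, ht⟩ => ⟨⟨hX ht, fun x => by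
    simpa [ht.2] using W.smul_mem _ heW⟩, fun c hc => by simp [ht.2, hφ c hc]⟩
  have hN : ∀ g ∈ brkFix X (W ⊓ LinearMap.ker l) (C ⊔ Submodule.span F {e}), ∀ t ∈ tvQ e C,
      g * t * g⁻¹ ∈ tvQ e C := fun g hg t ⟨φ, hφ, ht⟩ =>
    ⟨_, fun c hc => by
      have : g.symm c = c := (inv_mem hg).2 c (Submodule.mem_sup_left hc)
      simp [this, hφ c hc], ht.conj one_ne_zero (by rw [one_smul, hg.2 e heC])⟩
  refine (ih (W ⊓ LinearMap.ker l) (lt_of_le_of_ne inf_le_left fun h => ?_)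
    (C ⊔ Submodule.span F {e}) (Submodule.disjoint_def.2 fun w hw hw' => ?_)).step
    (fun g hg => ⟨⟨hg.1.1, fun x => (hg.1.2 x).1⟩, fun c hc => hg.2 c (Submodule.mem_sup_left hc)⟩)
    hQ (isPGroup_tvQ e C) (fun g hg => mem_normalizer_iff.2 fun t => ⟨hN g hg t, fun ht => ?_⟩)
    (fun t ⟨_, _, ht⟩ => by rw [ht.pow_eq_one]; exact one_mem _) fun S hS hQS hSK g hg => ?_
  · simpa [hl] using (h.ge heW).2
  · obtain ⟨c, hc, _, hy, rfl⟩ := Submodule.mem_sup.1 hw'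
    obtain ⟨a, rfl⟩ := Submodule.mem_span_singleton.1 hy
    obtain rfl : a = 0 := by simpa [hl, hlC c hc] using hw.2
    simpa using hd c (by simpa using hw.1) hc
  · simpa [mul_assoc] using hN _ (inv_mem hg) _ ht
  obtain ⟨x, hx, hx0, h2⟩ := exists_fixed_of_isPGroup hS W (fun g hg w hw => by
    simpa using add_mem ((hSK hg).1.2 w) hw) heW he
  obtain ⟨r, hr⟩ := exists_sub_mem_of_dual (C := C) (e := e) (x := x) fun φ hφ hφ' => by
    obtain ⟨t, ht⟩ := exists_isTv hφ'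
    simpa [ht.2, he] using h2 t (hQS ⟨φ, hφ, ht⟩)
  obtain rfl := sub_eq_zero.1 (hd _ (sub_mem hx (W.smul_mem r heW)) hr)
  have h4 : ∀ g ∈ S, g e = e := fun g hg => by
    have := h2 g hg
    rwa [map_smul, smul_right_inj (fun h => hx0 (by simp [h]))] at this
  have h5 : g.symm e = e := h4 _ (inv_mem hg)
  obtain ⟨t, ht⟩ := exists_isTv (e := e) (φ := l - l.comp (g.symm : V →ₗ[F] V)) (by simp [h5])
  have htQ : t ∈ tvQ e C := ⟨_, fun c hc => by
    have : g.symm c = c := (inv_mem (hSK hg)).2 c hc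
    simp [this], ht⟩
  have h6 := S.mul_mem (S.inv_mem (hQS htQ)) hg
  refine ⟨t, htQ, ⟨(hSK h6).1.1, fun x => ⟨(hSK h6).1.2 x, ?_⟩⟩, fun c hc => ?_⟩
  · simp [ht.inv.2, hl]
  · obtain ⟨c, hc', _, hy, rfl⟩ := Submodule.mem_sup.1 hc
    obtain ⟨a, rfl⟩ := Submodule.mem_span_singleton.1 hy
    rw [map_add, map_smul, (hSK h6).2 c hc', h4 _ h6]

theorem propB_tv [CharP F 2] [Finite V] {H G : Type*} [Group H] [Group G] [Finite G]
    (ρ : H →* (V ≃ₗ[F] V)) (hρ : Function.Injective ρ) (hX : ∀ {e φ g}, IsTv e φ g → g ∈ ρ.range)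
    (π : H →* G) (hπ : Function.Surjective π) : PropB G := by
  have := sylB_brkFix hX ⊤ ⊥ disjoint_bot_right
  rw [show brkFix ρ.range ⊤ ⊥ = ρ.range from Subgroup.ext fun g =>
    ⟨fun h => h.1.1, fun h => ⟨⟨h, fun _ => trivial⟩, by simp⟩⟩] at this
  exact this.propB (π.comp (MonoidHom.ofInjective hρ).symm.toMonoidHom)
    (hπ.comp (MonoidHom.ofInjective hρ).symm.surjective)

namespace Polar

variable {P : Polar F V} {f v w x y : V} {c d : F} {W : Submodule F V}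

theorem ND.exists_nonsing (hW : P.ND W) (hx : x ∈ W) (hx0 : x ≠ 0) :
    ∃ w ∈ W, ∃ c, c ≠ 0 ∧ P.R w c := by
  obtain ⟨u, hu, h⟩ := hW.exists_eq_one hx hx0
  obtain ⟨c, hc⟩ := P.R_ex u
  obtain ⟨d, hd⟩ := P.R_ex x
  by_contra! h1
  obtain rfl : c = 0 := by_contra fun h2 => h1 u hu c h2 hc
  obtain rfl : d = 0 := by_contra fun h2 => h1 x hx d h2 hd
  exact h1 _ (add_mem hu hx) _ (by simp [h]) (P.R_add hc hd)

theorem exists_nonsing_perp [FiniteDimensional F V] (h5 : 5 ≤ finrank F V) (H : P.Hyp ⊤ e f)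
    (hv : P.R v 0) (hve : P.β v e = 0) : ∃ w c, c ≠ 0 ∧ P.R w c ∧ P.β w e = 0 ∧ P.β w v = 0 := by
  have h1 := H.proj_mem (x := v) trivial
  rw [hve, zero_smul, sub_zero] at h1
  have h2 : P.R (v - (P.ε * P.β v f) • e) 0 :=
    R_congr (P.R_add hv (R_smul_zero H.he (-(P.ε * P.β v f)))) (by module)
      (by simp [P.smul_right, P.neg_right, hve])
  suffices ∃ w ∈ P.prp ⊤ e f, ∃ c, c ≠ 0 ∧ P.R w c ∧ P.β w (v - (P.ε * P.β v f) • e) = 0 by
    obtain ⟨w, hw, c, hc, h3, h4⟩ := this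
    exact ⟨w, c, hc, h3, hw.2.1, by simpa [P.sub_right, P.smul_right, hw.2.1] using h4⟩
  generalize v - (P.ε * P.β v f) • e = u at h1 h2
  by_cases hu : u = 0
  · obtain ⟨x, hx, h3⟩ := exists_perp (P := P) ![e, f] (by simp; omega)
    obtain ⟨w, hw, c, hc, h4⟩ := (H.nd nd_top).exists_nonsing ⟨trivial, h3 0, h3 1⟩ hx
    exact ⟨w, hw, c, hc, h4, by rw [hu, P.zero_right]⟩
  obtain ⟨f', H'⟩ := (H.nd nd_top).exists_hyp h2 h1 hu
  obtain ⟨x, hx, h3⟩ := exists_perp (P := P) ![e, f, u, f'] (by simp; omega)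
  obtain ⟨w, hw, c, hc, h4⟩ := (H'.nd (H.nd nd_top)).exists_nonsing
    ⟨⟨trivial, h3 0, h3 1⟩, h3 2, h3 3⟩ hx
  exact ⟨w, hw.1, c, hc, h4, hw.2.1⟩

variable (hσ : ∀ a, P.σ a = a) (hε : P.ε = 1) (hΛ : ∀ c, P.R 0 c → c = 0)
include hσ hε

theorem exists_refl (hw : P.R w c) (hc : c ≠ 0) :
    ∃ r ∈ P.Isom, ∀ x, r x = x - (c⁻¹ * P.β x w) • w := by
  have h1 := P.R_tr hw
  rw [hσ, hε, one_mul] at h1
  let r : V →ₗ[F] V :=
    { toFun := fun x => x - (c⁻¹ * P.β x w) • w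
      map_add' := fun x y => by simp only [P.add_left]; module
      map_smul' := fun a x => by simp only [P.smul_left, RingHom.id_apply]; module }
  have h2 : r.comp r = LinearMap.id := by
    ext x
    simp only [r, LinearMap.comp_apply, LinearMap.coe_mk, AddHom.coe_mk, LinearMap.id_apply,
      P.sub_left, P.smul_left, ← h1, sub_sub, ← add_smul, sub_eq_self]
    rw [show _ + _ = (0 : F) by field_simp; ring, zero_smul]
  refine ⟨LinearEquiv.ofLinearMap r r h2 h2, ⟨fun x y => ?_, fun x d hd => ?_⟩, fun _ => rfl⟩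
  · change P.β (x - _) (y - _) = _
    simp only [P.sub_left, P.smul_left, P.sub_right, P.smul_right, hσ, ← h1, P.symm y w, hε]
    field_simp
    ring
  · refine R_congr (P.R_add hd (P.R_smul (-(c⁻¹ * P.β x w)) hw))
      (show _ = x - (c⁻¹ * P.β x w) • w by module) ?_
    rw [P.smul_right, hσ]
    field_simp
    ring

include hΛ

theorem mem_commutator_of_ne (H : P.Hyp ⊤ e f) (hg : P.IsT e w c g) (hc : c ≠ 0) :
    g ∈ ⁅P.Isom, P.Isom⁆ := by
  obtain ⟨r, hr, h1⟩ := exists_refl hσ hε hg.2.1 hc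
  obtain ⟨v, hv, h2⟩ : ∃ v ∈ P.prp ⊤ e f, P.β v w ≠ 0 := by
    by_contra! h
    have h2 := H.eq_smul nd_top trivial hg.1 fun v hv => perp (h v hv)
    exact hc (sub_eq_zero.1 (hΛ _ (R_sub hg.2.1 (h2 ▸ R_smul_zero H.he _))))
  obtain ⟨d, hd⟩ := P.R_ex ((-c * (P.β v w)⁻¹) • v)
  obtain ⟨t, ht⟩ := exists_isT H.he (by rw [P.smul_left, hv.2.1, mul_zero]) hd
  have h3 := ht.conj hr
  rw [show r e = e by simp [h1, perp hg.1]] at h3
  have h4 := (h3.mul H.he (ht.inv H.he)).congr (w := w) (by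
    rw [h1, P.smul_left, show c⁻¹ * (-c * (P.β v w)⁻¹ * P.β v w) = -1 by field_simp]; module) rfl
  rw [hg.unique (h4.congr rfl (sub_eq_zero.1 (hΛ _ (R_sub h4.2.1 hg.2.1))))]
  exact commutator_mem_commutator hr (ht.isom H.he)

theorem full_commutator [FiniteDimensional F V] (h5 : 5 ≤ finrank F V) :
    P.Full ⁅P.Isom, P.Isom⁆ := by
  refine ⟨commutator_le_self _, fun {e v c g} he hg => ?_⟩
  by_cases he0 : e = 0
  · rw [show g = 1 from LinearEquiv.ext fun x => by simp [hg.2.2, he0, P.zero_right]]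
    exact one_mem _
  obtain ⟨f, H⟩ := nd_top.exists_hyp he trivial he0
  by_cases hc : c = 0
  swap
  · exact mem_commutator_of_ne hσ hε hΛ H hg hc
  subst hc
  obtain ⟨w, c, hc, h1, h2, h3⟩ := exists_nonsing_perp h5 H hg.2.1 hg.1
  obtain ⟨s, hs⟩ := exists_isT he h2 h1
  have h4 := (hs.inv he).mul he hg
  rw [← mul_inv_cancel_left s g]
  refine mul_mem (mem_commutator_of_ne hσ hε hΛ H hs hc) (mem_commutator_of_ne hσ hε hΛ H h4 ?_)
  simpa [hσ, hε, P.neg_right, perp h3] using hc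

end Polar

end LT
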