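import Cfsg.Agent.Lib.Lie.Crit

/-!
# Two more abstract criteria for `PropA` and `PropB`
-/

set_option autoImplicit false
set_option linter.unusedSectionVars false

namespace LT

open Cfsg GT Subgroup
open scoped Pointwise

variable {p : ℕ} [hp : Fact p.Prime] {X G : Type*} [Group X] [Group G]

/-- If the orbits of the `p`-subgroup `Q` on the cosets of `B` are determined by the point
stabilizers in `Q`, then `PropA` holds for the simple central quotient. -/
theorem propA_of_orbits [Finite G] [IsSimpleGroup G] (π : X →* G) (hπ : Function.Surjective π)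
    {Q B : Subgroup X} (hQ : IsPGroup p Q) (hQB : Q ≤ B) (hB : B ≤ normalizer (Q : Set X))
    (hker : π.ker ≤ center X) (hne : B ≠ ⊤)
    (h : ∀ g h : X, (∀ t ∈ Q, g⁻¹ * t * g ∈ B ↔ h⁻¹ * t * h ∈ B) → ∃ u ∈ Q, (u * g)⁻¹ * h ∈ B) :
    PropA p G := by
  have hB' : ∀ g : X, (∀ t ∈ Q, g⁻¹ * t * g ∈ B) → g ∈ B := fun g hg => by
    obtain ⟨u, hu, h1⟩ := h g 1 fun t ht => ⟨fun _ => by simpa using hQB ht, fun _ => hg t ht⟩
    rw [mul_one] at h1
    simpa using mul_mem (inv_mem (hQB hu)) (inv_mem h1)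
  have hk : π.ker ≤ B := fun z hz => hB' z fun t ht => by
    rw [mul_assoc, mem_center_iff.1 (hker hz) t, inv_mul_cancel_left]; exact hQB ht
  set N := normalizer ((Q.map π : Subgroup G) : Set G) with hN
  have h1 : ∀ g : X, π g ∈ N ↔ g ∈ B := fun g => by
    refine ⟨fun hg => hB' g fun t ht => ?_, fun hg => le_normalizer_map π ⟨g, hB hg, rfl⟩⟩
    obtain ⟨s, hs, h2⟩ := (mem_normalizer_iff.1 (inv_mem hg) (π t)).1 ⟨t, ht, rfl⟩
    have h3 : s⁻¹ * (g⁻¹ * t * g) ∈ π.ker := by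
      rw [MonoidHom.mem_ker, map_mul, map_inv, h2]; simp [mul_assoc]
    simpa using mul_mem (hQB hs) (hk h3)
  refine propA_of_top (MulEquiv.refl G) (hQ.map π) fun a ha hf => ?_
  have h2 : ∀ x, x ∈ N → a x ∈ N := fun x hx => (ha.mem_normalizer hf (mem_top x) hx).1
  have h3 : ∀ x, a x ∈ N → x ∈ N := fun x hx => by
    obtain ⟨k, hk, hk'⟩ := ha.per
    obtain ⟨j, rfl⟩ := Nat.exists_eq_succ_of_ne_zero (n := k) (fun h0 => hk (h0 ▸ dvd_zero p))
    have : ∀ i : ℕ, a^[i] (a x) ∈ N := fun i => by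
      induction i with
      | zero => exact hx
      | succ i ih => rw [Function.iterate_succ_apply']; exact h2 _ ih
    rw [← hk' x (mem_top x)]; exact this j
  have hm : ∀ x y, a (x * y) = a x * a y := fun x y => ha.mul x (mem_top x) y (mem_top y)
  have h4 : ∀ x, x⁻¹ * a x ∈ N := fun x => by
    obtain ⟨g, rfl⟩ := hπ x
    obtain ⟨g', hg'⟩ := hπ (a (π g))
    obtain ⟨u, hu, h5⟩ := h g g' fun t ht => by
      have h6 : a (π (g⁻¹ * t * g)) = π (g'⁻¹ * t * g') := by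
        simp only [map_mul, map_inv, hm, ha.inv (mem_top _), hg', (hf ⟨t, ht, rfl⟩).2]
      rw [← h1, ← h1, ← h6]
      exact ⟨h2 _, h3 _⟩
    refine ha.coset (fun b _ => h2 b) (mem_top _) (hf ⟨u, hu, rfl⟩)
      ((isPElt_of_mem hQ hu).map π) ?_
    rw [← hg', ← map_mul, ← map_inv, ← map_mul, h1]; exact h5
  have h5 : N.normalCore = ⊥ := by
    refine (IsSimpleGroup.eq_bot_or_eq_top_of_normal _ inferInstance).resolve_right fun h6 => hne ?_
    exact eq_top_iff.2 fun g _ => (h1 g).1 (normalCore_le N (h6 ▸ mem_top _))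
  intro x _
  have h6 : x⁻¹ * a x ∈ N.normalCore := fun g => by
    have := mul_mem (h4 (x * g⁻¹)) (inv_mem (h4 g⁻¹))
    rw [hm] at this
    convert this using 1; group
  rw [h5, mem_bot, inv_mul_eq_one] at h6
  exact ⟨mem_top x, h6.symm⟩

/-- Some Sylow `2`-subgroup of `K` has an elementary abelian abelianization. -/
def SylB (K : Subgroup X) : Prop := ∃ P, IsSylowIn 2 P K ∧ ∀ x ∈ P, x ^ 2 ∈ ⁅P, P⁆

theorem SylB.propB [Finite G] {K : Subgroup X} [Finite K] (h : SylB K) (f : K →* G)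
    (hf : Function.Surjective f) : PropB G := by
  obtain ⟨P, hP, h⟩ := h
  exact propB_of_surjective f hf hP (T := P) subset_closure fun t ht => ⟨ht, h t ht⟩

theorem sq_mem_commutator_of_closure {U : Subgroup X} {T : Set X} (hT : U ≤ closure T)
    (h : ∀ t ∈ T, t ∈ U ∧ t ^ 2 ∈ ⁅U, U⁆) : ∀ u ∈ U, u ^ 2 ∈ ⁅U, U⁆ := fun u hu => by
  refine (closure_induction (p := fun t _ => t ∈ U ∧ t ^ 2 ∈ ⁅U, U⁆) h ⟨one_mem _, by simp⟩
    (fun x y _ _ hx hy => ⟨mul_mem hx.1 hy.1, ?_⟩)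
    (fun x _ hx => ⟨inv_mem hx.1, by rw [inv_pow]; exact inv_mem hx.2⟩) (hT hu)).2
  convert mul_mem (mul_mem hx.2 (commutator_mem_commutator (inv_mem hx.1) hy.1)) hy.2 using 1
  simp only [commutatorElement_def, pow_two]; group

theorem sylB_of_sq [Finite X] {K : Subgroup X} (h : ∀ g ∈ K, IsPElt 2 g → g ^ 2 = 1) : SylB K := by
  obtain ⟨P, hP⟩ := exists_isSylowIn 2 K
  exact ⟨P, hP, fun x hx => by
    rw [h x (hP.le hx) (isPElt_of_mem hP.isPGroup hx)]; exact one_mem _⟩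

/-- Inductive step: every `2`-subgroup of `K` above `Q` lies in `Q K'`. -/
theorem SylB.step [Finite X] {K K' Q : Subgroup X} (h : SylB K') (hK : K' ≤ K) (hQK : Q ≤ K)
    (hQ : IsPGroup 2 Q) (hN : K' ≤ normalizer (Q : Set X)) (hsq : ∀ t ∈ Q, t ^ 2 ∈ ⁅Q, Q⁆)
    (hS : ∀ S : Subgroup X, IsPGroup 2 S → Q ≤ S → S ≤ K → ∀ g ∈ S, ∃ t ∈ Q, t⁻¹ * g ∈ K') :
    SylB K := by
  obtain ⟨P, hP, h⟩ := h
  have h1 : IsPGroup 2 (P ⊔ Q : Subgroup X) :=
    IsPGroup.to_sup_of_normal_right' hP.isPGroup hQ (hP.le.trans hN)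
  refine ⟨P ⊔ Q, isSylowIn_of_maximal h1 (sup_le (hP.le.trans hK) hQK) fun S hS1 hS2 hS3 => ?_,
    sq_mem_commutator_of_closure (T := P ∪ Q) ?_ ?_⟩
  · refine le_antisymm (fun g hg => ?_) hS3
    obtain ⟨t, ht, h2⟩ := hS S hS1 (le_sup_right.trans hS3) hS2 g hg
    have h3 := hP.eq_of_le (hS1.to_inf_left (K := K')) inf_le_right
      (le_inf (le_sup_left.trans hS3) hP.le)
    have h4 : t⁻¹ * g ∈ P := h3.le ⟨S.mul_mem (S.inv_mem (hS3 (mem_sup_right ht))) hg, h2⟩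
    simpa using mul_mem (mem_sup_right (S := P) ht) (mem_sup_left h4)
  · rw [Subgroup.closure_union, closure_eq, closure_eq]
  · rintro t (ht | ht)
    · exact ⟨mem_sup_left ht, commutator_mono le_sup_left le_sup_left (h t ht)⟩
    · exact ⟨mem_sup_right ht, commutator_mono le_sup_right le_sup_right (hsq t ht)⟩

end LT
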