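import Cfsg.Agent.Lib.Lie.Orb
import Cfsg.Agent.Lib.Lin.TISylow

/-!
# Polar spaces (symplectic, unitary, orthogonal) and Siegel transformations
-/

set_option autoImplicit false
set_option linter.unusedSectionVars false

namespace LT

open Cfsg GT Subgroup

variable {p : ℕ} [hp : Fact p.Prime] {F V : Type*} [Field F] [AddCommGroup V] [Module F V]

instance finiteLinearEquiv [Finite V] : Finite (V ≃ₗ[F] V) := DFunLike.finite _

theorem apply_eq_of_isPElt [CharP F p] {g : V ≃ₗ[F] V} (hg : IsPElt p g) {x : V} {μ : F}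
    (h : g x = μ • x) : g x = x := by
  obtain ⟨k, hk⟩ := hg.exists_pow_eq_one
  have h1 : ∀ n : ℕ, (g ^ n) x = μ ^ n • x := fun n => by
    induction n with
    | zero => simp
    | succ n ih => rw [pow_succ', LinearEquiv.mul_apply, ih, map_smul, h, smul_smul, pow_succ]
  have h2 : (μ - 1) ^ p ^ k • x = 0 := by
    rw [sub_pow_char_pow, one_pow, sub_smul, ← h1, hk]; simp
  rcases smul_eq_zero.1 h2 with h3 | h3
  · rw [h, sub_eq_zero.1 (pow_eq_zero_iff (pow_ne_zero k hp.out.ne_zero) |>.1 h3), one_smul]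
  · simp [h3]

theorem exists_fixed_of_isPGroup [CharP F p] [Finite V] {S : Subgroup (V ≃ₗ[F] V)}
    (hS : IsPGroup p S) (W : Submodule F V) (hW : ∀ g ∈ S, ∀ w ∈ W, g w ∈ W) {e : V} (he : e ∈ W)
    (he0 : e ≠ 0) : ∃ x ∈ W, x ≠ 0 ∧ ∀ g ∈ S, g x = x := by
  obtain ⟨x, hx, hx0, h⟩ := LG.exists_fixed_ne_zero hS (A := V)
    (fun a => by rw [← Nat.cast_smul_eq_nsmul F, CharP.cast_eq_zero, zero_smul])
    W.toAddSubgroup (fun g a ha => hW g g.2 a ha) he he0
  exact ⟨x, hx, hx0, fun g hg => h ⟨g, hg⟩⟩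

/-- The stabilizer in `GL(V)` of the line through `e`. -/
def lineStab (e : V) : Subgroup (V ≃ₗ[F] V) where
  carrier := {g | ∃ c : F, c ≠ 0 ∧ g e = c • e}
  mul_mem' := by
    rintro g h ⟨c, hc, hg⟩ ⟨d, hd, hh⟩
    exact ⟨d * c, mul_ne_zero hd hc, by rw [LinearEquiv.mul_apply, hh, map_smul, hg, smul_smul]⟩
  one_mem' := ⟨1, one_ne_zero, by simp⟩
  inv_mem' := by
    rintro g ⟨c, hc, hg⟩
    refine ⟨c⁻¹, inv_ne_zero hc, g.injective ?_⟩
    rw [map_smul, hg, smul_smul, inv_mul_cancel₀ hc, one_smul]; exact g.apply_symm_apply e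

theorem conj_mem_lineStab [CharP F p] {g t : V ≃ₗ[F] V} (ht : IsPElt p t) {e : V} :
    g⁻¹ * t * g ∈ lineStab (F := F) e ↔ t (g e) = g e := by
  refine ⟨fun ⟨c, _, h⟩ => apply_eq_of_isPElt ht (μ := c) ?_, fun h => ⟨1, one_ne_zero, ?_⟩⟩
  · rw [← map_smul, ← h]; exact (g.apply_symm_apply _).symm
  · rw [one_smul, LinearEquiv.mul_apply, LinearEquiv.mul_apply, h]; exact g.symm_apply_apply e

/-- `PropA` for a linear group: the orbits of `Q` on points are determined by stabilizers. -/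
theorem propA_of_linear [CharP F p] {H G : Type*} [Group H] [Group G] [Finite G] [IsSimpleGroup G]
    (ρ : H →* (V ≃ₗ[F] V)) (hρ : Function.Injective ρ) (π : H →* G) (hπ : Function.Surjective π)
    (hker : π.ker ≤ center H) {Q : Subgroup (V ≃ₗ[F] V)} (hQ : IsPGroup p Q) (hQρ : Q ≤ ρ.range)
    {e : V} (hQe : ∀ t ∈ Q, t e = e)
    (hN : ∀ g, ρ g ∈ lineStab (F := F) e → ∀ t ∈ Q, ρ g * t * (ρ g)⁻¹ ∈ Q)
    (hne : ∃ g, ρ g ∉ lineStab (F := F) e)
    (h : ∀ g h, (∀ t ∈ Q, t (ρ g e) = ρ g e ↔ t (ρ h e) = ρ h e) →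
      ∃ u ∈ Q, ∃ c : F, c ≠ 0 ∧ ρ h e = c • u (ρ g e)) : PropA p G := by
  refine propA_of_orbits π hπ (Q := Q.comap ρ) (B := (lineStab (F := F) e).comap ρ)
    (hQ.comap_of_injective ρ hρ) (fun t ht => ⟨1, one_ne_zero, by rw [one_smul, hQe _ ht]⟩)
    (fun g hg => mem_normalizer_iff.2 fun t => ⟨fun ht => ?_, fun ht => ?_⟩) hker ?_
    fun g k hgk => ?_
  · simpa [mem_comap] using hN g hg _ ht
  · simpa [mem_comap, mul_assoc] using hN g⁻¹ (by rw [map_inv]; exact inv_mem hg) _ ht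
  · obtain ⟨g, hg⟩ := hne
    exact fun h => hg (h.ge (mem_top g))
  · obtain ⟨u, hu, c, hc, h1⟩ := h g k fun t ht => by
      obtain ⟨s, rfl⟩ := hQρ ht
      have := hgk s ht
      simp only [mem_comap, map_mul, map_inv] at this
      rwa [conj_mem_lineStab (isPElt_of_mem hQ ht), conj_mem_lineStab (isPElt_of_mem hQ ht)] at this
    obtain ⟨s, rfl⟩ := hQρ hu
    refine ⟨s, hu, c, hc, (ρ (s * g)).injective ?_⟩
    rw [← LinearEquiv.mul_apply, ← map_mul, mul_inv_cancel_left, h1, map_smul, map_mul]; rfl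

/-- The elements `g` of `X` with `[V, g] ≤ W`. -/
def brk (X : Subgroup (V ≃ₗ[F] V)) (W : Submodule F V) : Subgroup (V ≃ₗ[F] V) where
  carrier := {g | g ∈ X ∧ ∀ x, g x - x ∈ W}
  mul_mem' := fun {g h} hg hh => ⟨mul_mem hg.1 hh.1, fun x => by
    simpa using add_mem (hg.2 (h x)) (hh.2 x)⟩
  one_mem' := ⟨one_mem X, fun x => by simp⟩
  inv_mem' := fun {g} hg => ⟨inv_mem hg.1, fun x => by
    simpa using neg_mem (hg.2 (g.symm x))⟩

theorem brk_top (X : Subgroup (V ≃ₗ[F] V)) : brk X ⊤ = X :=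
  Subgroup.ext fun _ => ⟨fun h => h.1, fun h => ⟨h, fun _ => trivial⟩⟩

/-- A nondegenerate `ε`-hermitian form `β` together with a form parameter, encoded in the relation
`R v c` (the element `c` is a value of the quadratic form at `v`). -/
structure Polar (F V : Type*) [Field F] [AddCommGroup V] [Module F V] where
  σ : F →+* F
  ε : F
  β : V → V → F
  R : V → F → Prop
  σσ : ∀ a, σ (σ a) = a
  εε : ε * ε = 1
  σε : σ ε = ε
  add_left : ∀ x y z, β (x + y) z = β x z + β y z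
  smul_left : ∀ (a : F) x z, β (a • x) z = a * β x z
  symm : ∀ x y, β y x = ε * σ (β x y)
  nondeg : ∀ y, (∀ x, β x y = 0) → y = 0
  R_add : ∀ {v w c d}, R v c → R w d → R (v + w) (c + d + β v w)
  R_smul : ∀ {v c} (a : F), R v c → R (a • v) (a * c * σ a)
  R_tr : ∀ {v c}, R v c → c + ε * σ c = β v v
  R_ex : ∀ v, ∃ c, R v c
  R_min : ∀ t, R 0 (t - ε * σ t)

namespace Polar

variable (P : Polar F V)

theorem add_right (x y z : V) : P.β x (y + z) = P.β x y + P.β x z := by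
  rw [P.symm (y + z) x, P.add_left, P.symm y x, P.symm z x, map_add, mul_add]

theorem smul_right (a : F) (x y : V) : P.β x (a • y) = P.σ a * P.β x y := by
  rw [P.symm (a • y) x, P.smul_left, P.symm y x, map_mul]; ring

theorem zero_left (x : V) : P.β 0 x = 0 := by simpa using P.smul_left 0 0 x

theorem zero_right (x : V) : P.β x 0 = 0 := by simpa using P.smul_right 0 x 0

theorem neg_left (x y : V) : P.β (-x) y = -P.β x y := by simpa using P.smul_left (-1) x y

theorem neg_right (x y : V) : P.β x (-y) = -P.β x y := by simpa using P.smul_right (-1) x y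

theorem sub_left (x y z : V) : P.β (x - y) z = P.β x z - P.β y z := by
  rw [sub_eq_add_neg, P.add_left, P.neg_left, sub_eq_add_neg]

theorem sub_right (x y z : V) : P.β x (y - z) = P.β x y - P.β x z := by
  rw [sub_eq_add_neg, P.add_right, P.neg_right, sub_eq_add_neg]

theorem ε_ne : P.ε ≠ 0 := fun h => by simpa [h] using P.εε

theorem σ_eq_zero {a : F} : P.σ a = 0 ↔ a = 0 := map_eq_zero P.σ

variable {P}

theorem perp {x y : V} (h : P.β x y = 0) : P.β y x = 0 := by rw [P.symm, h, map_zero, mul_zero]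

theorem perp_iff {x y : V} : P.β x y = 0 ↔ P.β y x = 0 := ⟨perp, perp⟩

theorem R_congr {v w : V} {c d : F} (h : P.R v c) (h1 : v = w) (h2 : c = d) : P.R w d :=
  h1 ▸ h2 ▸ h

theorem R_zero : P.R 0 0 := R_congr (P.R_min 0) rfl (by simp)

theorem R_neg {v : V} {c : F} (h : P.R v c) : P.R (-v) (P.ε * P.σ c) :=
  R_congr (P.R_add (P.R_smul (-1) h) (P.R_min (P.ε * P.σ c))) (by simp) (by
    rw [P.zero_right, map_mul, P.σε, P.σσ, ← mul_assoc P.ε, P.εε]; simp)

theorem R_sub {v : V} {c d : F} (h : P.R v c) (h' : P.R v d) : P.R 0 (c - d) :=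
  R_congr (P.R_add h (R_neg h')) (by simp) (by rw [P.neg_right, ← P.R_tr h']; ring)

theorem R_add_zero {v : V} {c d : F} (h : P.R v c) (h' : P.R 0 d) : P.R v (c + d) :=
  R_congr (P.R_add h h') (by simp) (by simp [P.zero_right])

theorem self_eq_zero {e : V} (h : P.R e 0) : P.β e e = 0 := by simpa using (P.R_tr h).symm

theorem R_smul_zero {e : V} (h : P.R e 0) (a : F) : P.R (a • e) 0 :=
  R_congr (P.R_smul a h) rfl (by simp)

variable (P) in
/-- The isometry group. -/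
def Isom : Subgroup (V ≃ₗ[F] V) where
  carrier := {g | (∀ x y, P.β (g x) (g y) = P.β x y) ∧ ∀ x c, P.R x c → P.R (g x) c}
  mul_mem' := fun {g h} hg hh => ⟨fun x y => (hg.1 _ _).trans (hh.1 x y),
    fun x c hx => hg.2 _ _ (hh.2 x c hx)⟩
  one_mem' := ⟨fun _ _ => rfl, fun _ _ h => h⟩
  inv_mem' := fun {g} hg => by
    refine ⟨fun x y => ?_, fun x c hx => ?_⟩
    · simpa using (hg.1 (g.symm x) (g.symm y)).symm
    · obtain ⟨d, hd⟩ := P.R_ex (g.symm x)
      have h1 := hg.2 _ _ hd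
      rw [LinearEquiv.apply_symm_apply] at h1
      exact R_congr (R_add_zero hd (R_sub hx h1)) rfl (by ring)

variable (P) in
/-- `g` is the Siegel transformation with data `e, v, c`. -/
def IsT (e v : V) (c : F) (g : V ≃ₗ[F] V) : Prop :=
  P.β v e = 0 ∧ P.R v c ∧ ∀ x, g x = x + P.β x e • v - (P.ε * (P.β x v + c * P.β x e)) • e

variable {e f v w x y : V} {c d : F} {g h : V ≃ₗ[F] V}

theorem exists_isT (he : P.R e 0) (hv : P.β v e = 0) (hc : P.R v c) : ∃ g, P.IsT e v c g := by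
  let T : V → F → V →ₗ[F] V := fun v c =>
    { toFun := fun x => x + P.β x e • v - (P.ε * (P.β x v + c * P.β x e)) • e
      map_add' := fun x y => by simp only [P.add_left]; module
      map_smul' := fun a x => by simp only [P.smul_left, RingHom.id_apply]; module }
  have h1 : ∀ v w c d, P.β w e = 0 → v + w = 0 → c + d + P.β w v = 0 →
      (T v c).comp (T w d) = LinearMap.id := fun v w c d hw h2 h3 => by
    obtain rfl := eq_neg_of_add_eq_zero_left h2
    obtain rfl : c = -d - P.β w (-w) := by linear_combination h3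
    ext x
    simp only [T, LinearMap.comp_apply, LinearMap.coe_mk, AddHom.coe_mk, LinearMap.id_apply,
      P.add_left, P.sub_left, P.smul_left, P.neg_right, hw, self_eq_zero he, perp hw]
    module
  refine ⟨LinearEquiv.ofLinearMap (T v c) (T (-v) (P.ε * P.σ c)) (h1 _ _ _ _ ?_ ?_ ?_)
    (h1 _ _ _ _ hv ?_ ?_), hv, hc, fun x => rfl⟩
  · rw [P.neg_left, hv, neg_zero]
  · simp
  · rw [P.neg_left, P.R_tr hc]; ring
  · simp
  · rw [P.neg_right, ← P.R_tr hc]; ring

theorem IsT.one : P.IsT e 0 0 1 := ⟨P.zero_left e, R_zero, fun x => by simp [P.zero_right]⟩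

theorem IsT.congr (hg : P.IsT e v c g) (h1 : v = w) (h2 : c = d) : P.IsT e w d g := h1 ▸ h2 ▸ hg

theorem IsT.unique (hg : P.IsT e v c g) (hh : P.IsT e v c h) : g = h :=
  LinearEquiv.ext fun x => by rw [hg.2.2, hh.2.2]

theorem IsT.β_apply (he : P.R e 0) (hg : P.IsT e v c g) (x : V) : P.β (g x) e = P.β x e := by
  simp only [hg.2.2, P.add_left, P.sub_left, P.smul_left, hg.1, self_eq_zero he]; ring

theorem IsT.mul (he : P.R e 0) (hg : P.IsT e v c g) (hh : P.IsT e w d h) :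
    P.IsT e (w + v) (d + c + P.β w v) (g * h) := by
  refine ⟨by rw [P.add_left, hg.1, hh.1, add_zero], P.R_add hh.2.1 hg.2.1, fun x => ?_⟩
  rw [LinearEquiv.mul_apply, hg.2.2, hh.β_apply he, hh.2.2]
  simp only [P.add_left, P.sub_left, P.smul_left, P.add_right, perp hg.1]
  module

theorem IsT.inv (he : P.R e 0) (hg : P.IsT e v c g) : P.IsT e (-v) (P.ε * P.σ c) g⁻¹ := by
  obtain ⟨h, hh⟩ := exists_isT he (by rw [P.neg_left, hg.1, neg_zero]) (R_neg hg.2.1)
  have := ((hg.mul he hh).congr (neg_add_cancel v)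
    (d := 0) (by rw [P.neg_left, ← P.R_tr hg.2.1]; ring)).unique IsT.one
  rwa [inv_eq_of_mul_eq_one_right this]

theorem IsT.isom (he : P.R e 0) (hg : P.IsT e v c g) : g ∈ P.Isom := by
  refine ⟨fun x y => ?_, fun x r hr => ?_⟩
  · simp only [hg.2.2, P.add_left, P.sub_left, P.smul_left, P.add_right, P.sub_right, P.smul_right,
      hg.1, perp hg.1, self_eq_zero he, ← P.R_tr hg.2.1, map_mul, map_add, P.σε]
    rw [P.symm y v, P.symm y e]
    linear_combination (-(P.β x v + c * P.β x e) * P.σ (P.β y e)) * P.εε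
  · have h1 := R_add_zero (P.R_add (P.R_add hr (P.R_smul (P.β x e) hg.2.1))
      (R_smul_zero he (-(P.ε * (P.β x v + c * P.β x e)))))
      (R_congr (R_neg (P.R_min (P.σ (P.β x e) * P.β x v + P.β x e * c * P.σ (P.β x e))))
        neg_zero rfl)
    refine R_congr h1 (by rw [hg.2.2]; module) ?_
    simp only [P.add_left, P.smul_left, P.smul_right, hg.1, map_mul, map_add, map_sub, map_neg,
      P.σε, P.σσ]
    linear_combination (-(P.σ (P.β x e) * P.β x v + P.β x e * c * P.σ (P.β x e))) * P.εε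

theorem IsT.conj {k : V ≃ₗ[F] V} (hk : k ∈ P.Isom) (hg : P.IsT e v c g) :
    P.IsT (k e) (k v) c (k * g * k⁻¹) := by
  refine ⟨by rw [hk.1, hg.1], hk.2 _ _ hg.2.1, fun x => ?_⟩
  obtain ⟨y, rfl⟩ := k.surjective x
  have : (k * g * k⁻¹) (k y) = k (g y) := by simp
  rw [this, hg.2.2, hk.1, hk.1]; simp

theorem IsT.smul {a : F} (ha : a ≠ 0) (hg : P.IsT (a • e) v c g) :
    P.IsT e (P.σ a • v) (P.σ a * c * a) g := by
  have h1 : P.β v e = 0 := by simpa [P.smul_right, ha] using hg.1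
  refine ⟨by rw [P.smul_left, h1, mul_zero], R_congr (P.R_smul _ hg.2.1) rfl (by rw [P.σσ]),
    fun x => ?_⟩
  simp only [hg.2.2, P.smul_right, P.σσ]
  module

theorem IsT.isPElt [CharP F p] (he : P.R e 0) (hg : P.IsT e v c g) : IsPElt p g := by
  have h1 : ∀ {v c g}, P.IsT e v c g → ∀ n : ℕ, ∃ d, P.IsT e ((n : F) • v) d (g ^ n) ∧
      (v = 0 → d = n * c) := fun {v c g} hg n => by
    induction n with
    | zero => exact ⟨0, by simpa using IsT.one, by simp⟩
    | succ n ih =>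
      obtain ⟨d, hd, hd'⟩ := ih
      refine ⟨_, by rw [pow_succ']; exact (hg.mul he hd).congr (by push_cast; module) rfl,
        fun h => ?_⟩
      rw [hd' h, h, P.zero_right]; push_cast; ring
  obtain ⟨d, hd, -⟩ := h1 hg p
  rw [CharP.cast_eq_zero, zero_smul] at hd
  obtain ⟨d', hd', h2⟩ := h1 hd p
  rw [h2 rfl, CharP.cast_eq_zero, zero_smul, zero_mul, ← pow_mul, ← pow_two] at hd'
  exact isPElt_of_pow_eq_one (hd'.unique IsT.one)

/-- The group of Siegel transformations with centre `e` and direction in `W`. -/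
def Q (he : P.R e 0) (W : Submodule F V) : Subgroup (V ≃ₗ[F] V) where
  carrier := {g | ∃ v ∈ W, ∃ c, P.IsT e v c g}
  mul_mem' := by
    rintro g h ⟨v, hv, c, hg⟩ ⟨w, hw, d, hh⟩
    exact ⟨_, add_mem hw hv, _, hg.mul he hh⟩
  one_mem' := ⟨0, zero_mem W, 0, IsT.one⟩
  inv_mem' := by
    rintro g ⟨v, hv, c, hg⟩
    exact ⟨_, neg_mem hv, _, hg.inv he⟩

theorem isPGroup_Q [CharP F p] (he : P.R e 0) (W : Submodule F V) : IsPGroup p (Q he W) :=
  isPGroup_iff_forall_isPElt.2 fun _ ⟨_, _, _, hg⟩ => hg.isPElt he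

theorem IsT.apply_of_perp (hg : P.IsT e v c g) (hx : P.β x e = 0) :
    g x = x - (P.ε * P.β x v) • e := by
  rw [hg.2.2, hx]; simp

theorem IsT.apply_self (he : P.R e 0) (hg : P.IsT e v c g) : g e = e := by
  rw [hg.apply_of_perp (self_eq_zero he), perp hg.1]; simp

variable (P) in
/-- The vectors of `W` perpendicular to `e` and `f`. -/
def prp (W : Submodule F V) (e f : V) : Submodule F V where
  carrier := {v | v ∈ W ∧ P.β v e = 0 ∧ P.β v f = 0}
  add_mem' := fun {v w} hv hw => ⟨add_mem hv.1 hw.1, by simp [P.add_left, hv.2.1, hw.2.1],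
    by simp [P.add_left, hv.2.2, hw.2.2]⟩
  zero_mem' := ⟨zero_mem W, P.zero_left e, P.zero_left f⟩
  smul_mem' := fun a v hv => ⟨W.smul_mem a hv.1, by simp [P.smul_left, hv.2.1],
    by simp [P.smul_left, hv.2.2]⟩

variable (P) in
/-- `W` is nondegenerate. -/
def ND (W : Submodule F V) : Prop := ∀ w ∈ W, (∀ u ∈ W, P.β u w = 0) → w = 0

theorem nd_top : P.ND ⊤ := fun w _ h => P.nondeg w fun x => h x trivial

variable (P) in
/-- `e, f` is a hyperbolic pair in `W`. -/
structure Hyp (W : Submodule F V) (e f : V) : Prop where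
  he : P.R e 0
  hf : P.R f 0
  eW : e ∈ W
  fW : f ∈ W
  fe : P.β f e = 1

variable {W : Submodule F V}

theorem ND.exists_eq_one (hW : P.ND W) (hx : x ∈ W) (hx0 : x ≠ 0) : ∃ u ∈ W, P.β u x = 1 := by
  obtain ⟨u, hu, h⟩ : ∃ u ∈ W, P.β u x ≠ 0 := by
    by_contra! h; exact hx0 (hW x hx h)
  exact ⟨(P.β u x)⁻¹ • u, W.smul_mem _ hu, by rw [P.smul_left, inv_mul_cancel₀ h]⟩

theorem ND.exists_hyp (hW : P.ND W) (he : P.R e 0) (heW : e ∈ W) (he0 : e ≠ 0) :
    ∃ f, P.Hyp W e f := by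
  obtain ⟨u, hu, h⟩ := hW.exists_eq_one heW he0
  obtain ⟨c, hc⟩ := P.R_ex u
  refine ⟨u + (-P.σ c) • e, he, R_congr (P.R_add hc (R_smul_zero he _)) rfl ?_, heW,
    add_mem hu (W.smul_mem _ heW), ?_⟩
  · simp [P.smul_right, P.neg_right, P.σσ, h]
  · rw [P.add_left, P.smul_left, h, self_eq_zero he]; simp

namespace Hyp
variable (H : P.Hyp W e f)
include H

theorem ef : P.β e f = P.ε := by rw [P.symm, H.fe]; simp

theorem ne_zero : e ≠ 0 := fun h => by simpa [h, P.zero_right] using H.fe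

theorem symm : P.Hyp W f (P.ε • e) :=
  ⟨H.hf, R_smul_zero H.he _, H.fW, W.smul_mem _ H.eW, by rw [P.smul_left, H.ef, P.εε]⟩

theorem proj_mem (hx : x ∈ W) : x - P.β x e • f - (P.ε * P.β x f) • e ∈ P.prp W e f := by
  refine ⟨sub_mem (sub_mem hx (W.smul_mem _ H.fW)) (W.smul_mem _ H.eW), ?_, ?_⟩
  · simp [P.sub_left, P.smul_left, H.fe, self_eq_zero H.he]
  · simp only [P.sub_left, P.smul_left, H.ef, self_eq_zero H.hf]
    linear_combination (-P.β x f) * P.εε

theorem nd (hW : P.ND W) : P.ND (P.prp W e f) := fun w hw h => hW w hw.1 fun u hu => by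
  simpa [P.sub_left, P.smul_left, perp hw.2.1, perp hw.2.2] using h _ (H.proj_mem hu)

theorem lt : P.prp W e f < W :=
  lt_of_le_of_ne (fun _ h => h.1) fun h => by simpa [H.fe] using (h.ge H.fW).2.1

theorem apply_f (hg : P.IsT e v c g) (hv : P.β v f = 0) : g f = f + v - (P.ε * c) • e := by
  rw [hg.2.2, H.fe, perp hv]; simp

/-- `Q` is transitive on the singular vectors `y` with `β y e = 1`. -/
theorem trans (hy : P.R y 0) (hyW : y ∈ W) (hye : P.β y e = 1) :
    ∃ t ∈ Q H.he (P.prp W e f), t f = y := by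
  have h1 := H.proj_mem hyW
  rw [hye, one_smul] at h1
  have h2 : P.R (y - f - (P.ε * P.β y f) • e) (-P.β y f) :=
    R_congr (P.R_add (P.R_add hy (R_smul_zero H.hf (-1))) (R_smul_zero H.he (-(P.ε * P.β y f))))
      (by module) (by simp [P.smul_right, P.neg_right, P.add_left, P.neg_left, hye, H.fe])
  obtain ⟨t, ht⟩ := exists_isT H.he h1.2.1 h2
  exact ⟨t, ⟨_, h1, _, ht⟩, by rw [H.apply_f ht h1.2.2]; module⟩

/-- A vector of `W` perpendicular to `e` and to `W ∩ ⟨e, f⟩^⊥` is a multiple of `e`. -/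
theorem eq_smul (hW : P.ND W) (hx : x ∈ W) (hxe : P.β x e = 0)
    (h : ∀ v ∈ P.prp W e f, P.β x v = 0) : x = (P.ε * P.β x f) • e := by
  have := H.nd hW _ (H.proj_mem hx) fun u hu => by
    simp [P.sub_right, P.smul_right, hu.2.1, hu.2.2, perp (h u hu)]
  rwa [hxe, zero_smul, sub_zero, sub_eq_zero] at this

/-- The fixed space of `Q` in `W` is spanned by `e`. -/
theorem fixed (hW : P.ND W) (hb : ∃ v ∈ P.prp W e f, ∃ c, P.R v c ∧ (v ≠ 0 ∨ c ≠ 0)) (hx : x ∈ W)
    (h : ∀ t ∈ Q H.he (P.prp W e f), t x = x) : x = (P.ε * P.β x f) • e := by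
  have h1 : ∀ v ∈ P.prp W e f, ∀ c, P.R v c →
      P.β x e • v - (P.ε * (P.β x v + c * P.β x e)) • e = 0 ∧ P.β x v + c * P.β x e = 0 := by
    intro v hv c hc
    obtain ⟨t, ht⟩ := exists_isT H.he hv.2.1 hc
    have h2 := h t ⟨v, hv, c, ht⟩
    rw [ht.2.2, add_sub_assoc, add_eq_left] at h2
    have h3 := congrArg (P.β · f) h2
    simp only [P.sub_left, P.smul_left, hv.2.2, H.ef, P.zero_left] at h3
    exact ⟨h2, by linear_combination -h3 - (P.β x v + c * P.β x e) * P.εε⟩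
  have h2 : P.β x e = 0 := by
    by_contra h2
    obtain ⟨v, hv, c, hc, h3⟩ := hb
    obtain ⟨h4, h5⟩ := h1 v hv c hc
    rw [h5, mul_zero, zero_smul, sub_zero, smul_eq_zero_iff_right h2] at h4
    rw [h4, P.zero_right, zero_add, mul_eq_zero_iff_right h2] at h5
    exact h3.elim (· h4) (· h5)
  refine H.eq_smul hW hx h2 fun v hv => ?_
  obtain ⟨c, hc⟩ := P.R_ex v
  simpa [h2] using (h1 v hv c hc).2

end Hyp

end Polar

end LT
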