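import Cfsg.Agent.Lib.Lie.Polar

/-!
# `PropA` and `PropB` for groups of isometries of polar spaces
-/

set_option autoImplicit false
set_option linter.unusedSectionVars false

namespace LT

open Cfsg GT Subgroup
open scoped commutatorElement

variable {p : ℕ} [hp : Fact p.Prime] {F V : Type*} [Field F] [AddCommGroup V] [Module F V]

namespace Polar

variable {P : Polar F V} {e f v w x y : V} {c d : F} {W : Submodule F V}
  {X : Subgroup (V ≃ₗ[F] V)}

variable (P) in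
/-- `X` is a group of isometries containing all Siegel transformations. -/
structure Full (X : Subgroup (V ≃ₗ[F] V)) : Prop where
  le : X ≤ P.Isom
  mem : ∀ {e v c g}, P.R e 0 → P.IsT e v c g → g ∈ X

variable (P) in
/-- The group `Q` of the hyperbolic pair `e, f` in `W` is nontrivial. -/
def Big (W : Submodule F V) (e f : V) : Prop :=
  ∃ v ∈ P.prp W e f, ∃ c, P.R v c ∧ (v ≠ 0 ∨ c ≠ 0)

theorem Q_mono (he : P.R e 0) {W W' : Submodule F V} (h : W ≤ W') : Q he W ≤ Q he W' :=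
  fun _ ⟨v, hv, c, hg⟩ => ⟨v, h hv, c, hg⟩

theorem exists_perp {ι : Type*} [Fintype ι] [FiniteDimensional F V] (u : ι → V)
    (h : Fintype.card ι < Module.finrank F V) : ∃ v, v ≠ 0 ∧ ∀ i, P.β v (u i) = 0 := by
  let φ : V →ₗ[F] ι → F :=
    { toFun := fun v i => P.β v (u i)
      map_add' := fun v w => funext fun i => P.add_left _ _ _
      map_smul' := fun a v => funext fun i => P.smul_left _ _ _ }
  obtain ⟨v, hv, hv0⟩ := (Submodule.ne_bot_iff _).1
    (LinearMap.ker_ne_bot_of_finrank_lt (f := φ) (by simpa using h))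
  exact ⟨v, hv0, fun i => congrFun hv i⟩

theorem big_top [FiniteDimensional F V] (h : (∃ c, c ≠ 0 ∧ P.R 0 c) ∨ 3 ≤ Module.finrank F V)
    (e f : V) : P.Big ⊤ e f := by
  rcases h with ⟨c, hc, h⟩ | h
  · exact ⟨0, zero_mem _, c, h, Or.inr hc⟩
  · obtain ⟨v, hv, h1⟩ := exists_perp (P := P) ![e, f] (by simp; omega)
    obtain ⟨c, hc⟩ := P.R_ex v
    exact ⟨v, ⟨trivial, h1 0, h1 1⟩, c, hc, Or.inl hv⟩

theorem hyp_inv_smul (he : P.R e 0) (hx : P.R x 0) (h : P.β x e ≠ 0) :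
    P.Hyp ⊤ e ((P.β x e)⁻¹ • x) :=
  ⟨he, R_smul_zero hx _, trivial, trivial, by rw [P.smul_left, inv_mul_cancel₀ h]⟩

theorem opp_of_stab (hb : ∀ f, P.Big ⊤ e f) (he : P.R e 0) (hx : P.R x 0) (hy : P.R y 0)
    (hy0 : y ≠ 0) (hxe : P.β x e ≠ 0) (h : ∀ t ∈ Q he ⊤, t y = y → t x = x) : P.β y e ≠ 0 := by
  intro hye
  obtain ⟨t, ht⟩ := exists_isT he hye hy
  have h1 := h t ⟨y, trivial, 0, ht⟩ (by rw [ht.apply_of_perp hye, self_eq_zero hy]; simp)
  rw [ht.2.2, add_sub_assoc, add_eq_left, sub_eq_zero] at h1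
  have H := hyp_inv_smul he hx hxe
  have h2 := H.fixed nd_top (hb _) (x := (P.β x e)⁻¹ • x) trivial fun s hs => by
    obtain ⟨v, -, c, hs⟩ := hs
    rw [map_smul, h s ⟨v, trivial, c, hs⟩]
    apply smul_right_injective V hxe
    dsimp only
    rw [← map_smul, h1, map_smul, hs.apply_self he]
  have h3 := H.fe
  rw [h2, P.smul_left, self_eq_zero he] at h3
  simp at h3

theorem exists_eq_of_stab (hb : ∀ f, P.Big ⊤ e f) (he : P.R e 0) (he0 : e ≠ 0) (hx : P.R x 0)
    (hx0 : x ≠ 0) (hy : P.R y 0) (hy0 : y ≠ 0) (h : ∀ t ∈ Q he ⊤, t x = x ↔ t y = y) :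
    ∃ u ∈ Q he ⊤, ∃ c : F, c ≠ 0 ∧ y = c • u x := by
  by_cases hxe : P.β x e = 0
  swap
  · have hye := opp_of_stab hb he hx hy hy0 hxe fun t ht => (h t ht).2
    have H := hyp_inv_smul he hy hye
    obtain ⟨t, ht, h1⟩ := (hyp_inv_smul he hx hxe).trans H.hf trivial H.fe
    refine ⟨t, Q_mono he le_top ht, P.β y e * (P.β x e)⁻¹,
      mul_ne_zero hye (inv_ne_zero hxe), ?_⟩
    rw [mul_smul, ← map_smul, h1, smul_inv_smul₀ hye]
  have hye : P.β y e = 0 := by
    by_contra hye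
    exact opp_of_stab hb he hy hx hx0 hye (fun t ht => (h t ht).1) hxe
  have h1 : ∀ v, P.β v e = 0 → (P.β v x = 0 ↔ P.β v y = 0) := fun v hv => by
    obtain ⟨c, hc⟩ := P.R_ex v
    obtain ⟨t, ht⟩ := exists_isT he hv hc
    have := h t ⟨v, trivial, c, ht⟩
    rw [ht.apply_of_perp hxe, ht.apply_of_perp hye] at this
    simpa [he0, P.ε_ne, perp_iff (x := v)] using this
  obtain ⟨f, H⟩ := nd_top.exists_hyp he trivial he0
  by_cases h2 : ∀ v ∈ P.prp ⊤ e f, P.β v x = 0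
  · have h3 := H.eq_smul nd_top trivial hxe fun v hv => perp (h2 v hv)
    have h4 := H.eq_smul nd_top trivial hye fun v hv => perp ((h1 v hv.2.1).1 (h2 v hv))
    generalize P.ε * P.β x f = r at h3
    generalize P.ε * P.β y f = s at h4
    subst h3 h4
    have hr : r ≠ 0 := fun h => hx0 (by simp [h])
    have hs : s ≠ 0 := fun h => hy0 (by simp [h])
    exact ⟨1, one_mem _, s * r⁻¹, mul_ne_zero hs (inv_ne_zero hr), by simp [smul_smul, hr]⟩
  push Not at h2
  obtain ⟨v, hv, h2⟩ := h2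
  obtain ⟨v, hv, h2⟩ : ∃ v ∈ P.prp ⊤ e f, P.β v x = 1 :=
    ⟨(P.β v x)⁻¹ • v, Submodule.smul_mem _ _ hv, by rw [P.smul_left, inv_mul_cancel₀ h2]⟩
  have hs : P.β v y ≠ 0 := fun h => by simpa [h2] using (h1 v hv.2.1).2 h
  have h3 := H.eq_smul nd_top (x := y - P.σ (P.β v y) • x) trivial
    (by simp [P.sub_left, P.smul_left, hxe, hye]) fun w hw => perp (by
      have := (h1 (w - P.β w x • v) (by simp [P.sub_left, P.smul_left, hw.2.1, hv.2.1])).1
        (by simp [P.sub_left, P.smul_left, h2])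
      rw [P.sub_left, P.smul_left] at this
      rw [P.sub_right, P.smul_right, P.σσ, mul_comm, this])
  generalize P.ε * P.β (y - P.σ (P.β v y) • x) f = d at h3
  obtain ⟨c, hc⟩ := P.R_ex ((-P.σ d * (P.β v y)⁻¹) • v)
  obtain ⟨t, ht⟩ := exists_isT he (by rw [P.smul_left, hv.2.1, mul_zero]) hc
  have hs' := P.σ_eq_zero.not.2 hs
  refine ⟨t, ⟨_, trivial, c, ht⟩, P.σ (P.β v y), hs', ?_⟩
  refine (sub_eq_iff_eq_add'.1 h3).trans ?_
  rw [ht.apply_of_perp hxe, P.smul_right, P.symm v x, h2, smul_sub, smul_smul, sub_eq_add_neg,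
    ← neg_smul]
  congr 2
  rw [map_mul, map_neg, map_inv₀, P.σσ, map_one]
  field_simp
  linear_combination (-d) * P.εε

theorem propA [CharP F p] [FiniteDimensional F V] {H G : Type*} [Group H] [Group G] [Finite G]
    [IsSimpleGroup G] (ρ : H →* (V ≃ₗ[F] V)) (hρ : Function.Injective ρ) (hX : P.Full ρ.range)
    (π : H →* G) (hπ : Function.Surjective π) (hker : π.ker ≤ center H) (he : P.R e 0)
    (he0 : e ≠ 0) (hb : (∃ c, c ≠ 0 ∧ P.R 0 c) ∨ 3 ≤ Module.finrank F V) : PropA p G := by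
  have h1 : ∀ g, ρ g ∈ P.Isom := fun g => hX.le ⟨g, rfl⟩
  refine propA_of_linear ρ hρ π hπ hker (isPGroup_Q he ⊤) (fun _ ⟨_, _, _, ht⟩ => hX.mem he ht)
    (e := e) (fun _ ⟨_, _, _, ht⟩ => ht.apply_self he) ?_ ?_ fun g k h => ?_
  · rintro g ⟨a, ha, hg⟩ t ⟨v, -, c, ht⟩
    have := ht.conj (h1 g)
    rw [hg] at this
    exact ⟨_, trivial, _, this.smul ha⟩
  · by_contra! h
    obtain ⟨f, H⟩ := nd_top.exists_hyp he trivial he0
    have h2 := H.symm.fixed nd_top (big_top hb _ _) (x := P.ε • e) trivial fun t ht => by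
      obtain ⟨g, rfl⟩ := hX.mem H.hf ht.choose_spec.2.choose_spec
      obtain ⟨a, -, ha⟩ := h g
      rw [map_smul, apply_eq_of_isPElt (isPElt_of_mem (isPGroup_Q (p := p) H.hf _) ht) ha]
    have h3 := H.symm.fe
    rw [h2, P.smul_left, self_eq_zero H.hf] at h3
    simp at h3
  · exact exists_eq_of_stab (big_top hb e) he he0 ((h1 g).2 _ _ he) (by simpa using he0)
      ((h1 k).2 _ _ he) (by simpa using he0) h

section Two

variable [CharP F 2]

theorem ε_eq_one : P.ε = 1 := by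
  have : (P.ε - 1) ^ 2 = 0 := by rw [sub_pow_char, one_pow, pow_two, P.εε, sub_self]
  exact sub_eq_zero.1 (pow_eq_zero_iff two_ne_zero |>.1 this)

variable (P) in
theorem σ_cases : (∀ a, P.σ a = a) ∨ ∃ μ, μ + P.σ μ = 1 := by
  by_cases h : ∀ a, P.σ a = a
  · exact Or.inl h
  push Not at h
  obtain ⟨a, ha⟩ := h
  have h1 : a + P.σ a ≠ 0 := fun h => ha ((CharTwo.add_eq_zero.1 h).symm)
  refine Or.inr ⟨a / (a + P.σ a), ?_⟩
  rw [map_div₀, map_add, P.σσ, add_comm (P.σ a), ← add_div, div_self h1]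

variable (F) in
theorem add_self_vec {V : Type*} [AddCommGroup V] [Module F V] (v : V) : v + v = 0 := by
  rw [← two_smul F, CharTwo.two_eq_zero, zero_smul]

theorem sq_mem_Q (he : P.R e 0) (W : Submodule F V) : ∀ t ∈ Q he W, t ^ 2 ∈ ⁅Q he W, Q he W⁆ := by
  rintro t ⟨v, hv, c, ht⟩
  have h1 := (ht.mul he ht).congr (add_self_vec F v) (d := P.β v v)
    (by rw [CharTwo.add_self_eq_zero, zero_add])
  rcases P.σ_cases with h | ⟨μ, hμ⟩
  · rw [← P.R_tr ht.2.1, h, ε_eq_one, one_mul, CharTwo.add_self_eq_zero] at h1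
    rw [pow_two, h1.unique IsT.one]; exact one_mem _
  obtain ⟨d, hd⟩ := P.R_ex (μ • v)
  obtain ⟨s, hs⟩ := exists_isT he (by rw [P.smul_left, ht.1, mul_zero]) hd
  have h2 := ((h1.mul he (hs.mul he ht)).congr (by rw [add_zero, add_comm]) (by
    rw [P.zero_right, P.smul_right, P.smul_left]
    linear_combination (P.β v v) * hμ + (P.β v v - μ * P.β v v) * (CharTwo.two_eq_zero (R := F)))).unique
      (ht.mul he hs)
  rw [pow_two, eq_mul_inv_of_mul_eq h2, mul_inv_rev, ← mul_assoc, ← commutatorElement_def]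
  exact commutator_mem_commutator ⟨v, hv, c, ht⟩ ⟨_, W.smul_mem μ hv, d, hs⟩

theorem base_perp [Finite F] (hW : P.ND W) (hs : ∀ e f, P.Hyp W e f → ¬ P.Big W e f) (hx : x ∈ W)
    (hx0 : x ≠ 0) (hxx : P.β x x = 0) (hy : y ∈ W) (hyx : P.β y x = 0) : ∃ a : F, y = a • x := by
  obtain ⟨c, hc⟩ := P.R_ex x
  have h2 := CharTwo.two_eq_zero (R := F)
  rcases P.σ_cases with h | ⟨μ, hμ⟩
  swap
  · have h1 := P.R_tr hc
    rw [hxx, ε_eq_one, one_mul] at h1
    have h3 := R_add_zero hc (P.R_min (c * μ))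
    rw [ε_eq_one, map_mul] at h3
    obtain ⟨f, H⟩ := hW.exists_hyp (R_congr h3 rfl (by
      linear_combination (-P.σ μ) * h1 + c * hμ + c * h2)) hx hx0
    refine (hs _ _ H ⟨0, zero_mem _, 1, R_congr (P.R_min μ) rfl ?_, Or.inr one_ne_zero⟩).elim
    rw [ε_eq_one]; linear_combination hμ - P.σ μ * h2
  by_cases h1 : ∃ e ∈ W, e ≠ 0 ∧ P.R e 0
  · obtain ⟨e, heW, he0, he⟩ := h1
    obtain ⟨f, H⟩ := hW.exists_hyp he heW he0
    have h3 : ∀ z ∈ W, z = P.β z e • f + P.β z f • e := fun z hz => by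
      by_contra h3
      obtain ⟨d, hd⟩ := P.R_ex (z - P.β z e • f - (P.ε * P.β z f) • e)
      refine hs _ _ H ⟨_, H.proj_mem hz, d, hd, Or.inl fun h4 => h3 ?_⟩
      rwa [ε_eq_one, one_mul, sub_sub, sub_eq_zero] at h4
    have h4 := h3 x hx
    have h5 := h3 y hy
    generalize P.β x e = a, P.β x f = b at h4
    generalize P.β y e = r, P.β y f = s at h5
    subst h4 h5
    simp only [P.add_left, P.add_right, P.smul_left, P.smul_right, h, H.fe, H.ef, ε_eq_one,
      self_eq_zero he, self_eq_zero H.hf] at hyx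
    by_cases ha : a = 0
    · have hb : b ≠ 0 := fun hb => hx0 (by simp [ha, hb])
      obtain rfl : r = 0 := by simpa [ha, hb] using hyx
      exact ⟨s * b⁻¹, by simp [ha, smul_smul, hb]⟩
    · refine ⟨r * a⁻¹, ?_⟩
      rw [smul_add, smul_smul, smul_smul]
      congr 2 <;> field_simp
      linear_combination hyx - r * b * h2
  push Not at h1
  have hc0 : c ≠ 0 := fun h => h1 x hx hx0 (h ▸ hc)
  obtain ⟨d, hd⟩ := P.R_ex y
  obtain ⟨a, ha⟩ := surjective_frobenius F 2 (d / c)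
  rw [frobenius_def] at ha
  have h3 := P.R_add hd (P.R_smul a hc)
  refine ⟨-a, ?_⟩
  rw [neg_smul, eq_neg_iff_add_eq_zero]
  by_contra h4
  refine h1 _ (add_mem hy (W.smul_mem a hx)) h4 (R_congr h3 rfl ?_)
  rw [h, P.smul_right, hyx, show a * c * a = a ^ 2 * c by ring, ha]
  field_simp
  linear_combination d * h2

theorem base_sq [Finite F] [Finite V] (hX : P.Full X) (hW : P.ND W)
    (hs : ∀ e f, P.Hyp W e f → ¬ P.Big W e f) : ∀ g ∈ brk X W, IsPElt 2 g → g ^ 2 = 1 := by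
  intro g hg hg2
  let N : V →ₗ[F] V := (g : V →ₗ[F] V) - LinearMap.id
  have hN : ∀ y, N y = g y - y := fun y => rfl
  have h1 : ∀ u z, g z = z → P.β (N u) z = 0 := fun u z hz => by
    rw [hN, P.sub_left, ← (hX.le hg.1).1 u z, hz, sub_self]
  ext y
  by_contra h2
  obtain ⟨_, ⟨u, rfl⟩, h3, h4⟩ := exists_fixed_of_isPGroup hg2.isPGroup_zpowers
    (LinearMap.range (N.comp N)) (e := N (N y)) (fun t ht w ⟨u, hu⟩ => ⟨t u, by
      have h5 : ∀ z, g (t z) = t (g z) := fun z =>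
        LinearEquiv.congr_fun (commute_of_mem_zpowers ht (Commute.refl g)).symm.eq z
      simp only [← hu, LinearMap.comp_apply, hN, map_sub, h5]⟩) ⟨y, rfl⟩ (fun h => h2 (by
        rw [hN, hN, map_sub] at h
        have h5 := add_self_vec F (g y - y)
        rw [pow_two]
        change g (g y) = y
        linear_combination (norm := module) h + h5))
  have h5 := h4 g (mem_zpowers g)
  rw [LinearMap.comp_apply] at h3 h5
  obtain ⟨a, ha⟩ := base_perp hW hs (hg.2 (N u)) h3 (h1 _ _ h5) (hg.2 u) (h1 _ _ h5)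
  rw [← hN, ← hN] at ha
  exact h3 (by rw [ha, map_smul, hN (N (N u)), h5, sub_self, smul_zero])

theorem sylB_brk [Finite F] [Finite V] (hX : P.Full X) (W : Submodule F V) (hW : P.ND W) :
    SylB (brk X W) := by
  induction W using WellFoundedLT.induction with | _ W ih => ?_
  by_cases hs : ∀ e f, P.Hyp W e f → ¬ P.Big W e f
  · exact sylB_of_sq (base_sq hX hW hs)
  push Not at hs
  obtain ⟨e, f, H, hb⟩ := hs
  have hQ : Q H.he (P.prp W e f) ≤ brk X W := fun t ⟨v, hv, c, ht⟩ => ⟨hX.mem H.he ht, fun x => by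
    rw [ht.2.2, add_sub_assoc, add_sub_cancel_left]
    exact sub_mem (W.smul_mem _ hv.1) (W.smul_mem _ H.eW)⟩
  have hN : ∀ g ∈ brk X (P.prp W e f), ∀ t ∈ Q H.he (P.prp W e f),
      g * t * g⁻¹ ∈ Q H.he (P.prp W e f) := fun g hg t ⟨v, hv, c, ht⟩ => by
    have h1 : g e = e := sub_eq_zero.1 (P.nondeg _ fun x => by
      obtain ⟨x, rfl⟩ := g.surjective x
      have := (hg.2 x).2.1
      rw [P.sub_left] at this
      rw [P.sub_right, (hX.le hg.1).1]
      linear_combination -this)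
    have h2 := ht.conj (hX.le hg.1)
    rw [h1] at h2
    exact ⟨_, by simpa using add_mem (hg.2 v) hv, _, h2⟩
  refine (ih _ H.lt (H.nd hW)).step (fun g hg => ⟨hg.1, fun x => (hg.2 x).1⟩) hQ
    (isPGroup_Q H.he _) (fun g hg => mem_normalizer_iff.2 fun t => ⟨hN g hg t, fun ht => ?_⟩)
    (sq_mem_Q H.he _) fun S hS hQS hSK g hg => ?_
  · simpa [mul_assoc] using hN _ (inv_mem hg) _ ht
  have h1 : ∀ g ∈ S, ∀ w ∈ W, g w ∈ W := fun g hg w hw => by
    simpa using add_mem ((hSK hg).2 w) hw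
  obtain ⟨x, hx, hx0, h2⟩ := exists_fixed_of_isPGroup hS W h1 H.eW H.ne_zero
  have h3 := H.fixed hW hb hx fun t ht => h2 t (hQS ht)
  generalize P.ε * P.β x f = r at h3
  subst h3
  have h4 : ∀ g ∈ S, g e = e := fun g hg => by
    have := h2 g hg
    rwa [map_smul, smul_right_inj (fun h => hx0 (by simp [h]))] at this
  have hI := hX.le (hSK hg).1
  obtain ⟨t, ht, h5⟩ := H.trans (hI.2 _ _ H.hf) (h1 g hg f H.fW) (by rw [← h4 g hg, hI.1, H.fe])
  have h6 := S.mul_mem (S.inv_mem (hQS ht)) hg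
  have h7 : (t⁻¹ * g) f = f := by rw [LinearEquiv.mul_apply, ← h5]; exact t.symm_apply_apply f
  have hI' := hX.le (hSK h6).1
  refine ⟨t, ht, (hSK h6).1, fun x => ⟨(hSK h6).2 x, ?_, ?_⟩⟩
  · rw [P.sub_left, ← hI'.1 x e, h4 _ h6, sub_self]
  · rw [P.sub_left, ← hI'.1 x f, h7, sub_self]

theorem propB [Finite F] [Finite V] {H G : Type*} [Group H] [Group G] [Finite G]
    (ρ : H →* (V ≃ₗ[F] V)) (hρ : Function.Injective ρ) (hX : P.Full ρ.range)
    (π : H →* G) (hπ : Function.Surjective π) : PropB G := by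
  have := sylB_brk hX ⊤ nd_top
  rw [brk_top] at this
  exact this.propB (π.comp (MonoidHom.ofInjective hρ).symm.toMonoidHom)
    (hπ.comp (MonoidHom.ofInjective hρ).symm.surjective)

end Two

end Polar

end LT
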