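import Cfsg.Agent.Lib.Lie.Roots
import Cfsg.Agent.Lib.Lie.Crit

/-!
# Root group data in finite groups: Bruhat decomposition
-/

set_option autoImplicit false
set_option linter.unusedSectionVars false

namespace LT

open Cfsg GT Subgroup
open scoped Pointwise

variable {ι R : Type*} [Fintype ι] [DecidableEq ι] [Finite R] {Γ : Type*} [Group Γ] [Finite Γ]

/-- The subgroup generated by the root groups of the roots in `Ψ`. -/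
def XS (X : R → Subgroup Γ) (Ψ : R → Prop) : Subgroup Γ := closure {x | ∃ r, Ψ r ∧ x ∈ X r}

theorem mem_XS {X : R → Subgroup Γ} {Ψ : R → Prop} {r : R} (h : Ψ r) {x : Γ} (hx : x ∈ X r) :
    x ∈ XS X Ψ := subset_closure ⟨r, h, hx⟩

theorem XS_le {X : R → Subgroup Γ} {Ψ : R → Prop} {K : Subgroup Γ} (h : ∀ r, Ψ r → X r ≤ K) :
    XS X Ψ ≤ K := (closure_le K).2 fun _ ⟨r, hr, hx⟩ => h r hr hx

theorem XS_mono {X : R → Subgroup Γ} {Ψ Ψ' : R → Prop} (h : ∀ r, Ψ r → Ψ' r) :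
    XS X Ψ ≤ XS X Ψ' := XS_le fun r hr _ hx => mem_XS (h r hr) hx

theorem conj_mem_XS {X : R → Subgroup Γ} {Ψ : R → Prop} {K : Subgroup Γ} {g : Γ}
    (h : ∀ r, Ψ r → ∀ x ∈ X r, g * x * g⁻¹ ∈ K) {y : Γ} (hy : y ∈ XS X Ψ) : g * y * g⁻¹ ∈ K :=
  XS_le (K := K.comap (MulAut.conj g).toMonoidHom) h hy

attribute [irreducible] XS

theorem mem_normalizer_of {K : Subgroup Γ} {g : Γ} (h : ∀ y ∈ K, g * y * g⁻¹ ∈ K) :
    g ∈ normalizer (K : Set Γ) := mem_normalizer_fintype h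

theorem conj_mem {K : Subgroup Γ} {g y : Γ} (h : g ∈ normalizer (K : Set Γ)) (hy : y ∈ K) :
    g * y * g⁻¹ ∈ K := (mem_normalizer_iff.1 h y).1 hy

/-- The roots `i a + j b` with `i, j > 0`. -/
def RootSys.cone (Φ : RootSys ι R) (a b c : R) : Prop :=
  ∃ i j : ℤ, 0 < i ∧ 0 < j ∧ Φ.wt c = i • Φ.wt a + j • Φ.wt b

/-- Root group data. -/
structure RGD (p : ℕ) (Γ : Type*) [Group Γ] (Φ : RootSys ι R) where
  X : R → Subgroup Γ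
  N : Subgroup (Γ × Equiv.Perm R)
  N_W : ∀ x ∈ N, x.2 ∈ Φ.W Set.univ
  N_X : ∀ x ∈ N, ∀ r, ∀ y ∈ X r, x.1 * y * x.1⁻¹ ∈ X (x.2 r)
  H_ord : ∀ h, (h, 1) ∈ N → ¬ p ∣ orderOf h
  ex_m : ∀ i, ∀ y ∈ X (Φ.neg (Φ.smp i)), y ≠ 1 →
    ∃ u ∈ X (Φ.smp i), ∃ u' ∈ X (Φ.smp i), (u * y * u', Φ.σ i) ∈ N
  ne_bot : ∀ i, X (Φ.neg (Φ.smp i)) ≠ ⊥
  comm : ∀ a b, b ≠ a → b ≠ Φ.neg a → ∀ x ∈ X a, ∀ y ∈ X b, x * y * x⁻¹ * y⁻¹ ∈ XS X (Φ.cone a b)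
  pgrp : IsPGroup p (XS X Φ.pos)
  disj : ∀ y ∈ XS X Φ.pos, y ∈ XS X (fun r => ¬ Φ.pos r) → y = 1

theorem RootSys.pos_inv_of_longest {Φ : RootSys ι R} {J : Set ι} {v : Equiv.Perm R}
    (hv : v ∈ Φ.W J) (h : ∀ r, Φ.pos r → Φ.sub J r → ¬ Φ.pos (v r)) {r : R} (hJ : Φ.sub J r) :
    Φ.pos (v⁻¹ r) ↔ ¬ Φ.pos r := by
  have h1 := (RootSys.sub_W (inv_mem hv)).2 hJ
  refine ⟨fun h2 => by simpa using h _ h2 h1, fun h2 => by_contra fun h3 => ?_⟩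
  have := h _ (Φ.pos_neg.2 h3) (RootSys.sub_neg.2 h1)
  simp [RootSys.W_neg hv, Φ.pos_neg, h2] at this

namespace RGD

open RootSys

variable {p : ℕ} [hp : Fact p.Prime] {Φ : RootSys ι R} (D : RGD p Γ Φ)

abbrev G := XS D.X fun _ => True
abbrev U := XS D.X Φ.pos
abbrev V := XS D.X fun r => ¬ Φ.pos r
abbrev L (J : Set ι) := XS D.X (Φ.sub J)
abbrev UJ (J : Set ι) := XS D.X fun r => Φ.pos r ∧ Φ.sub J r
abbrev VJ (J : Set ι) := XS D.X fun r => ¬ Φ.pos r ∧ Φ.sub J r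
abbrev Q (J K : Set ι) := XS D.X fun r => Φ.pos r ∧ Φ.sub J r ∧ ¬ Φ.sub K r

theorem sub_univ (r : R) : Φ.sub Set.univ r := fun _ h => absurd trivial h
theorem UJ_le (J : Set ι) : D.UJ J ≤ D.U := XS_mono fun _ h => h.1
theorem VJ_le (J : Set ι) : D.VJ J ≤ D.V := XS_mono fun _ h => h.1
theorem Q_le (J K : Set ι) : D.Q J K ≤ D.UJ J := XS_mono fun _ h => ⟨h.1, h.2.1⟩
theorem U_le : D.U ≤ D.UJ Set.univ := XS_mono fun r h => ⟨h, sub_univ r⟩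
theorem le_G (Ψ : R → Prop) : XS D.X Ψ ≤ D.G := XS_mono fun _ _ => trivial
theorem UJ_single (i : ι) : D.UJ {i} ≤ D.X (Φ.smp i) :=
  XS_le fun _ h => (congrArg D.X (eq_smp_of_sub h.1 h.2)).le

variable {D} {n : Γ} {w : Equiv.Perm R} {J K : Set ι}

theorem conj_XS (hn : (n, w) ∈ D.N) {Ψ Ψ' : R → Prop} (h : ∀ r, Ψ r → Ψ' (w r)) {y : Γ}
    (hy : y ∈ XS D.X Ψ) : n * y * n⁻¹ ∈ XS D.X Ψ' :=
  conj_mem_XS (fun r hr x hx => mem_XS (h r hr) (D.N_X _ hn r x hx)) hy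

theorem conj_XS' (hn : (n, w) ∈ D.N) {Ψ Ψ' : R → Prop} (h : ∀ r, Ψ r → Ψ' (w⁻¹ r)) {y : Γ}
    (hy : y ∈ XS D.X Ψ) : n⁻¹ * y * n ∈ XS D.X Ψ' := by
  simpa using conj_XS (n := n⁻¹) (w := w⁻¹) (inv_mem hn) h hy

theorem conj_X' (hn : (n, w) ∈ D.N) {Ψ : R → Prop} {r : R} (h : Ψ (w⁻¹ r)) {y : Γ}
    (hy : y ∈ D.X r) : n⁻¹ * y * n ∈ XS D.X Ψ :=
  mem_XS h (by simpa using D.N_X _ (inv_mem hn) r y hy)

theorem X_le_normalizer_Q {a : R} (hJ : Φ.sub J a) (ha : Φ.pos a ∨ Φ.sub K a) :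
    D.X a ≤ normalizer (D.Q J K : Set Γ) := fun x hx => by
  refine mem_normalizer_of fun y => conj_mem_XS fun b hb y hy => ?_
  obtain rfl | hba := eq_or_ne b a
  · exact mem_XS (r := b) hb (mul_mem (mul_mem hx hy) (inv_mem hx))
  obtain ⟨k, hk, h1⟩ : ∃ k, k ∉ K ∧ Φ.wt b k ≠ 0 := by simpa [RootSys.sub] using hb.2.2
  have h2 : 0 < Φ.wt b k := lt_of_le_of_ne (hb.1 k) h1.symm
  have h3 : 0 ≤ Φ.wt a k := ha.elim (fun h => h k) fun h => (h k hk).ge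
  have h4 := D.comm a b hba (fun h => by rw [h, Φ.wt_neg, Pi.neg_apply] at h2; omega) x hx y hy
  have h5 : XS D.X (Φ.cone a b) ≤ D.Q J K := XS_mono fun c ⟨i, j, hi, hj, hc⟩ => by
    have h6 : 0 < Φ.wt c k := by
      rw [hc, Pi.add_apply, Pi.smul_apply, Pi.smul_apply, smul_eq_mul, smul_eq_mul]; positivity
    exact ⟨Φ.pos_of_lt h6, fun l hl => by simp [hc, hJ l hl, hb.2.1 l hl],
      fun h => h6.ne' (h k hk)⟩
  simpa using mul_mem (h5 h4) (mem_XS (r := b) hb hy : y ∈ D.Q J K)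

theorem UJ_le_normalizer_Q : D.UJ J ≤ normalizer (D.Q J K : Set Γ) :=
  XS_le fun _ h => X_le_normalizer_Q h.2 (Or.inl h.1)

theorem exists_eq_mul (hK : K ⊆ J) {u : Γ} (hu : u ∈ D.UJ J) :
    ∃ q ∈ D.Q J K, ∃ x ∈ D.UJ K, q * x = u := by
  have h1 : D.UJ K ≤ D.UJ J := XS_mono fun r h => ⟨h.1, fun j hj => h.2 j fun h' => hj (hK h')⟩
  have h2 : D.UJ J ≤ D.Q J K ⊔ D.UJ K := XS_le fun r h x hx => by
    by_cases h' : Φ.sub K r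
    · exact mem_sup_right (mem_XS ⟨h.1, h'⟩ hx)
    · exact mem_sup_left (mem_XS ⟨h.1, h.2, h'⟩ hx)
  have h3 : u ∈ ((D.Q J K ⊔ D.UJ K : Subgroup Γ) : Set Γ) := h2 hu
  rwa [coe_mul_of_right_le_normalizer_left _ _ (h1.trans UJ_le_normalizer_Q)] at h3

theorem exists_n {H : Subgroup Γ} (h : ∀ i ∈ J, D.X (Φ.smp i) ≤ H ∧ D.X (Φ.neg (Φ.smp i)) ≤ H)
    (hw : w ∈ Φ.W J) : ∃ n ∈ H, (n, w) ∈ D.N := by
  refine Φ.W_ind (P := fun w => ∃ n ∈ H, (n, w) ∈ D.N) ⟨1, one_mem _, one_mem _⟩ ?_ hw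
  rintro i hi w - ⟨n, h1, h2⟩
  obtain ⟨⟨y, hy⟩, hy1⟩ := ne_bot_iff_exists_ne_one.1 (D.ne_bot i)
  obtain ⟨u, hu, u', hu', h3⟩ := D.ex_m i y hy fun h => hy1 (Subtype.ext h)
  exact ⟨_, mul_mem (mul_mem (mul_mem ((h i hi).1 hu) ((h i hi).2 hy)) ((h i hi).1 hu')) h1,
    mul_mem h3 h2⟩

theorem exists_n_L (hw : w ∈ Φ.W J) : ∃ n ∈ D.L J, (n, w) ∈ D.N :=
  exists_n (fun _ hi => ⟨fun _ => mem_XS (sub_smp.2 hi),
    fun _ => mem_XS (RootSys.sub_neg.2 (sub_smp.2 hi))⟩) hw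

theorem L_le {H : Subgroup Γ} (h1 : D.UJ J ≤ H) (h2 : ∀ i ∈ J, D.X (Φ.neg (Φ.smp i)) ≤ H) :
    D.L J ≤ H := by
  obtain ⟨v, hv, h3⟩ := Φ.exists_longest J
  obtain ⟨n, hn, h4⟩ := exists_n (D := D) (H := H) (fun i hi =>
    ⟨fun x hx => h1 (mem_XS ⟨Φ.pos_smp i, sub_smp.2 hi⟩ hx), h2 i hi⟩) hv
  refine XS_le fun r hr x hx => ?_
  by_cases h5 : Φ.pos r
  · exact h1 (mem_XS ⟨h5, hr⟩ hx)
  have := h1 (conj_X' h4 ⟨(pos_inv_of_longest hv h3 hr).2 h5, (sub_W (inv_mem hv)).2 hr⟩ hx)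
  simpa [mul_assoc] using mul_mem (mul_mem hn this) (inv_mem hn)

variable (D) in
/-- `g ∈ U_J N_J U_J`. -/
def Br (J : Set ι) (g : Γ) : Prop :=
  ∃ u ∈ D.UJ J, ∃ n w, (n, w) ∈ D.N ∧ w ∈ Φ.W J ∧ ∃ u' ∈ D.UJ J, g = u * n * u'

theorem Br.mul {g u u' : Γ} (h : D.Br J g) (hu : u ∈ D.UJ J) (hu' : u' ∈ D.UJ J) :
    D.Br J (u * g * u') := by
  obtain ⟨a, ha, n, w, h1, h2, b, hb, rfl⟩ := h
  exact ⟨_, mul_mem hu ha, n, w, h1, h2, _, mul_mem hb hu', by group⟩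

theorem br_step {i : ι} (hi : i ∈ J) (hn : (n, w) ∈ D.N) (hw : w ∈ Φ.W J) {x y : Γ}
    (hx : x ∈ D.X (Φ.smp i)) (hy : y ∈ D.X (Φ.neg (Φ.smp i))) : D.Br J (y * x * n) := by
  have hs : ∀ {x}, x ∈ D.X (Φ.smp i) → x ∈ D.UJ J := mem_XS ⟨Φ.pos_smp i, sub_smp.2 hi⟩
  have hc : ∀ {n w r x}, (n, w) ∈ D.N → w ∈ Φ.W J → Φ.sub J r → Φ.pos (w⁻¹ r) → x ∈ D.X r →
      n⁻¹ * x * n ∈ D.UJ J := fun {n w r x} hn hw h1 h2 hx =>
    conj_X' hn ⟨h2, (sub_W (inv_mem hw)).2 h1⟩ hx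
  have h1 : ∀ {n w x y}, (n, w) ∈ D.N → w ∈ Φ.W J → x ∈ D.X (Φ.smp i) →
      y ∈ D.X (Φ.neg (Φ.smp i)) → Φ.pos (w⁻¹ (Φ.smp i)) → D.Br J (y * x * n) := by
    intro n w x y hn hw hx hy h
    obtain rfl | hy1 := eq_or_ne y 1
    · exact ⟨x, hs hx, n, w, hn, hw, 1, one_mem _, by group⟩
    obtain ⟨a, ha, b, hb, h2⟩ := D.ex_m i y hy hy1
    exact ⟨_, inv_mem (hs ha), a * y * b * n, _, mul_mem h2 hn, mul_mem (Φ.σ_mem hi) hw, _,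
      hc hn hw (sub_smp.2 hi) h (mul_mem (inv_mem hb) hx), by group⟩
  by_cases h : Φ.pos (w⁻¹ (Φ.smp i))
  · exact h1 hn hw hx hy h
  have h' : Φ.pos (w⁻¹ (Φ.neg (Φ.smp i))) := by rwa [W_neg (inv_mem hw), pos_neg]
  obtain rfl | hx1 := eq_or_ne x 1
  · exact ⟨1, one_mem _, n, w, hn, hw, _, hc hn hw (RootSys.sub_neg.2 (sub_smp.2 hi)) h' hy, by group⟩
  obtain ⟨m, -, hm⟩ := exists_n_L (D := D) (Φ.σ_mem hi)
  have h2 := D.N_X _ (inv_mem hm) _ x hx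
  simp only [Prod.fst_inv, Prod.snd_inv, σ_inv, σ_smp, inv_inv] at h2
  obtain ⟨a, ha, b, hb, h3⟩ := D.ex_m i _ h2 (by simpa [mul_assoc, inv_mul_eq_one] using hx1)
  have h4 := D.N_X _ hm _ _ (inv_mem ha)
  simp only [σ_smp] at h4
  have h5 : Φ.σ i * w ∈ Φ.W J := mul_mem (Φ.σ_mem hi) hw
  have h6 : Φ.pos ((Φ.σ i * w)⁻¹ (Φ.smp i)) := by
    rwa [mul_inv_rev, σ_inv, Equiv.Perm.mul_apply, σ_smp]
  have h7 : (m * (a * (m⁻¹ * x * m) * b) * (m⁻¹ * n), Φ.σ i * w) ∈ D.N := by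
    convert mul_mem (mul_mem hm h3) (mul_mem (inv_mem hm) hn) using 1
    simp [σ_mul_σ, σ_inv]
  convert (h1 h7 h5 (one_mem _) (mul_mem hy h4) h6).mul (one_mem _)
    (hc (n := m⁻¹ * n) (mul_mem (inv_mem hm) hn) h5 (sub_smp.2 hi) h6 (inv_mem hb)) using 1
  group

theorem bruhat {g : Γ} (hg : g ∈ D.L J) : D.Br J g := by
  have h0 : ∀ k : Γ, (∀ g, D.Br J g → D.Br J (k * g)) →
      k ∈ MulAction.stabilizer Γ {g | D.Br J g} := fun k h =>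
    (MulAction.mem_stabilizer_set_iff_smul_set_subset (Set.toFinite _)).2
      (Set.smul_set_subset_iff.2 fun g hg => h g hg)
  have h1 := L_le (H := MulAction.stabilizer Γ {g | D.Br J g})
    (fun u hu => h0 u fun g hg => by simpa using hg.mul hu (one_mem _)) (fun i hi y hy => h0 y ?_) hg
  · simpa using (MulAction.mem_stabilizer_set.1 h1 1).2
      ⟨1, one_mem _, 1, 1, one_mem _, one_mem _, 1, one_mem _, by simp⟩
  rintro _ ⟨u, hu, n, w, hn, hw, u', hu', rfl⟩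
  obtain ⟨q, hq, x, hx, rfl⟩ := exists_eq_mul (Set.singleton_subset_iff.2 hi) hu
  convert (br_step hi hn hw (D.UJ_single i hx) hy).mul (D.Q_le _ _ (conj_mem (X_le_normalizer_Q
    (RootSys.sub_neg.2 (sub_smp.2 hi)) (K := {i}) (Or.inr (RootSys.sub_neg.2 (sub_smp.2 rfl))) hy) hq)) hu' using 1
  group

theorem exists_factor (hn : (n, w) ∈ D.N) {u : Γ} (hu : u ∈ D.U) :
    ∃ a ∈ D.U, n * a * n⁻¹ ∈ D.U ∧ ∃ y ∈ XS D.X (· ∈ Φ.inv w), u = a * y := by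
  induction hk : (Φ.inv w).ncard using Nat.strong_induction_on generalizing n w u with
  | _ k ih =>
  have hw := D.N_W _ hn
  by_cases h : ∀ i, Φ.pos (w (Φ.smp i))
  · exact ⟨u, hu, conj_XS hn (fun r hr => pos_W_of_smp hw (fun i _ => h i) hr (sub_univ r)) hu, 1,
      one_mem _, by simp⟩
  obtain ⟨i, hi⟩ := not_forall.1 h
  obtain ⟨m, -, hm⟩ := exists_n_L (D := D) (Φ.σ_mem (J := {i}) rfl)
  obtain ⟨q, hq, x, hx, rfl⟩ := exists_eq_mul (Set.subset_univ {i}) (D.U_le hu)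
  have hσ : ∀ r, Φ.pos r ∧ Φ.sub Set.univ r ∧ ¬ Φ.sub {i} r →
      Φ.pos (Φ.σ i r) ∧ Φ.sub Set.univ (Φ.σ i r) ∧ ¬ Φ.sub {i} (Φ.σ i r) := fun r hr =>
    ⟨pos_W_of_not_sub (Φ.σ_mem (J := {i}) rfl) hr.1 hr.2.2, sub_univ _,
      mt (sub_W (Φ.σ_mem (J := {i}) rfl)).1 hr.2.2⟩
  have h1 : m * q * m⁻¹ ∈ D.Q Set.univ {i} := conj_XS hm hσ hq
  obtain ⟨a, ha, h2, y, hy, h3⟩ := ih _ (hk ▸ ncard_inv_σ_lt hw hi) (n := n * m⁻¹)
    (mul_mem hn (inv_mem hm)) (D.UJ_le _ (D.Q_le _ _ h1)) rfl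
  have h4 : ∀ r ∈ Φ.inv (w * Φ.σ i), Φ.pos r ∧ Φ.sub Set.univ r ∧ ¬ Φ.sub {i} r := fun r hr =>
    ⟨hr.1, sub_univ r, fun h => hr.2 (by
      rwa [eq_smp_of_sub hr.1 h, Equiv.Perm.mul_apply, σ_smp, W_neg hw, pos_neg])⟩
  have h5 : a ∈ D.Q Set.univ {i} := by
    rw [← mul_mem_cancel_right (XS_mono h4 hy), ← h3]; exact h1
  refine ⟨_, D.UJ_le _ (D.Q_le _ _ (conj_XS' hm hσ h5)), by convert h2 using 1; group, _,
    mul_mem (conj_XS' hm (fun r hr => ⟨(hσ r (h4 r hr)).1, hr.2⟩) hy)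
      (mem_XS ⟨Φ.pos_smp i, hi⟩ (D.UJ_single i hx)), ?_⟩
  rw [← mul_left_inj x⁻¹, ← mul_right_inj m, ← mul_left_inj m⁻¹, mul_inv_cancel_right, h3]
  group

theorem eq_one_of_isPElt (hn : (n, 1) ∈ D.N) {a : Γ} (ha : a ∈ D.U) (h : IsPElt p (a * n)) :
    n = 1 := by
  have h1 : n ∈ normalizer (D.U : Set Γ) := mem_normalizer_of fun y => conj_XS hn fun _ h => h
  have h2 : ∀ k : ℕ, (a * n) ^ k * (n ^ k)⁻¹ ∈ D.U := fun k => by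
    induction k with
    | zero => simp
    | succ k ih =>
      convert mul_mem ha (conj_mem h1 ih) using 1
      rw [pow_succ', pow_succ']; group
  obtain ⟨k, hk⟩ := h.exists_pow_eq_one
  have h3 := h2 (p ^ k)
  rw [hk, one_mul, inv_mem_iff] at h3
  obtain ⟨l, hl⟩ := (isPElt_of_mem D.pgrp h3).exists_pow_eq_one
  rw [← pow_mul, ← pow_add] at hl
  by_contra h4
  exact D.H_ord n hn ((isPElt_of_pow_eq_one hl).dvd_orderOf h4)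

theorem exists_conj_V : ∃ n ∈ D.G, ∃ w, (n, w) ∈ D.N ∧ (∀ r, Φ.pos r → ¬ Φ.pos (w r)) ∧
    ∀ y, y ∈ D.V ↔ n⁻¹ * y * n ∈ D.U := by
  obtain ⟨v, hv, h3⟩ := Φ.exists_longest Set.univ
  obtain ⟨n, hn, h4⟩ := exists_n_L (D := D) hv
  refine ⟨n, D.le_G _ hn, v, h4, fun r hr => h3 r hr (sub_univ r), fun y => ⟨conj_XS' h4 fun r hr =>
    (pos_inv_of_longest hv h3 (sub_univ r)).2 hr, fun h => ?_⟩⟩
  simpa [mul_assoc] using conj_XS h4 (fun r hr => h3 r hr (sub_univ r)) h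

theorem isPElt_V {y : Γ} (hy : y ∈ D.V) : IsPElt p y := by
  obtain ⟨n, -, -, -, -, h⟩ := exists_conj_V (D := D)
  simpa [mul_assoc] using (isPElt_of_mem D.pgrp ((h y).1 hy)).conj n

theorem eq_one_of_eq_mul (hn : (n, w) ∈ D.N) {a b : Γ} (ha : a ∈ D.U) (hb : b ∈ D.V)
    (h : n = a * b) : w = 1 ∧ a = 1 ∧ b = 1 := by
  have hw := D.N_W _ hn
  obtain rfl : w = 1 := eq_one_of_pos hw fun i => by_contra fun hi => by
    obtain ⟨⟨y, hy⟩, hy1⟩ := ne_bot_iff_exists_ne_one.1 (D.ne_bot i)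
    have h1 : n * y * n⁻¹ ∈ D.U := mem_XS (by rwa [W_neg hw, pos_neg]) (D.N_X _ hn _ y hy)
    have h2 : b * y * b⁻¹ ∈ D.V := mul_mem (mul_mem hb (mem_XS (by
      rw [pos_neg, not_not]; exact Φ.pos_smp i) hy)) (inv_mem hb)
    have h3 := D.disj _ (by
      convert mul_mem (mul_mem (inv_mem ha) h1) ha using 1; rw [h]; group) h2
    exact hy1 (Subtype.ext (by simpa using h3))
  have h1 := eq_one_of_isPElt hn (inv_mem ha) (by simpa [h] using isPElt_V hb)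
  have h2 : b = 1 := D.disj b (by
    rw [eq_inv_of_mul_eq_one_right (h.symm.trans h1)]; exact inv_mem ha) hb
  exact ⟨rfl, by simpa [h, h2] using h1, h2⟩

theorem conj_inv_mem_V (hn : (n, w) ∈ D.N) {y : Γ} (hy : y ∈ XS D.X (· ∈ Φ.inv w)) :
    y ∈ D.U ∧ n * y * n⁻¹ ∈ D.V := ⟨XS_mono (fun _ h => h.1) hy, conj_XS hn (fun _ h => h.2) hy⟩

theorem mem_inv_of_conj (hn : (n, w) ∈ D.N) {y : Γ} (hy : y ∈ D.U) (h : n * y * n⁻¹ ∈ D.V) :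
    y ∈ XS D.X (· ∈ Φ.inv w) := by
  obtain ⟨a, -, h1, z, hz, rfl⟩ := exists_factor hn hy
  have h2 := D.disj _ h1 (by
    convert mul_mem h (inv_mem (conj_inv_mem_V hn hz).2) using 1; group)
  rwa [show a = 1 by simpa using h2, one_mul]

theorem bruhat_unique {n' : Γ} {w' : Equiv.Perm R} (hn : (n, w) ∈ D.N) (hn' : (n', w') ∈ D.N)
    {u u' y y' : Γ} (hu : u ∈ D.U) (hu' : u' ∈ D.U) (hy : y ∈ D.U) (hy' : y' ∈ D.U)
    (h1 : n * y * n⁻¹ ∈ D.V) (h2 : n' * y' * n'⁻¹ ∈ D.V) (h : u * n * y = u' * n' * y') :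
    w = w' ∧ u = u' ∧ n = n' ∧ y = y' := by
  obtain ⟨a, ha, h3, b, hb, h4⟩ := exists_factor hn (mul_mem hy (inv_mem hy'))
  obtain ⟨h5, h6, h7⟩ := eq_one_of_eq_mul (n := n' * n⁻¹) (mul_mem hn' (inv_mem hn))
    (mul_mem (mul_mem (inv_mem hu') hu) h3) (conj_inv_mem_V hn hb).2 (by
      rw [mul_inv_eq_iff_eq_mul] at h4
      rw [← mul_right_inj u', ← mul_left_inj (n * y'), ← mul_assoc, ← mul_assoc,
        inv_mul_cancel_right, ← h, h4]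
      group)
  obtain rfl : w' = w := mul_inv_eq_one.1 h5
  obtain rfl : b = 1 := by simpa using h7
  rw [mul_one] at h4
  have h8 : n' * n⁻¹ = 1 := by
    refine eq_one_of_isPElt (by simpa using mul_mem hn' (inv_mem hn)) (one_mem _) ?_
    rw [one_mul, show n' * n⁻¹ = u'⁻¹ * u * (n * a * n⁻¹) by
      rw [← h4, ← mul_right_inj u', ← mul_left_inj (n * y')]
      calc _ = u' * n' * y' := by group
        _ = _ := by rw [← h]; group, h6]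
    exact isPElt_one
  obtain rfl : n' = n := mul_inv_eq_one.1 h8
  have h9 := D.disj _ h3 (by rw [← h4]; convert mul_mem h1 (inv_mem h2) using 1; group)
  obtain rfl : y = y' := by rw [← mul_inv_eq_one, h4]; simpa using h9
  exact ⟨rfl, by simpa using h, rfl, rfl⟩

theorem bruhat' {g : Γ} (hg : g ∈ D.L J) : ∃ u ∈ D.U, ∃ n w, (n, w) ∈ D.N ∧ w ∈ Φ.W J ∧
    ∃ y ∈ D.U, n * y * n⁻¹ ∈ D.V ∧ g = u * n * y := by
  obtain ⟨u, hu, n, w, hn, hw, u', hu', rfl⟩ := bruhat hg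
  obtain ⟨a, -, h1, y, hy, rfl⟩ := exists_factor hn (D.UJ_le _ hu')
  exact ⟨_, mul_mem (D.UJ_le _ hu) h1, n, w, hn, hw, y, (conj_inv_mem_V hn hy).1,
    (conj_inv_mem_V hn hy).2, by group⟩

theorem G_le : D.G ≤ D.L Set.univ := XS_mono fun r _ => sub_univ r

theorem mem_UJ_of_mem_L {g : Γ} (hg : g ∈ D.L J) (hu : g ∈ D.U) : g ∈ D.UJ J := by
  obtain ⟨u, hu', n, w, hn, -, y, hy, rfl⟩ := bruhat hg
  obtain ⟨rfl, h, -⟩ := eq_one_of_eq_mul (a := n) hn (by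
    rwa [mul_mem_cancel_right (D.UJ_le _ hy), mul_mem_cancel_left (D.UJ_le _ hu')] at hu)
    (one_mem _) (mul_one n).symm
  rw [h, mul_one]; exact mul_mem hu' hy

theorem X_smp_ne (i : ι) : ∃ x ∈ D.X (Φ.smp i), x ≠ 1 := by
  obtain ⟨⟨y, hy⟩, hy1⟩ := ne_bot_iff_exists_ne_one.1 (D.ne_bot i)
  obtain ⟨m, -, hm⟩ := exists_n_L (D := D) (Φ.σ_mem (J := {i}) rfl)
  have := D.N_X _ hm _ y hy
  rw [← σ_smp, σ_σ] at this
  exact ⟨_, this, fun h => hy1 (Subtype.ext (by simpa using h))⟩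

theorem exists_of_mem_normalizer {g : Γ} (hg : g ∈ D.G) (h : g ∈ normalizer (D.U : Set Γ)) :
    ∃ u ∈ D.U, ∃ n, (n, 1) ∈ D.N ∧ g = u * n := by
  obtain ⟨u, hu, n, w, hn, hw, y, hy, -, rfl⟩ := bruhat' (G_le hg)
  rw [mul_mem_cancel_right (le_normalizer hy), mul_mem_cancel_left (le_normalizer hu)] at h
  obtain rfl : w = 1 := eq_one_of_pos hw fun i => by_contra fun hi => by
    obtain ⟨x, hx, hx1⟩ := X_smp_ne (D := D) i
    have := D.disj _ (conj_mem h (mem_XS (Φ.pos_smp i) hx)) 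
      (mem_XS (r := w (Φ.smp i)) hi (D.N_X _ hn _ x hx))
    exact hx1 (by simpa using this)
  exact ⟨_, mul_mem hu (conj_mem h hy), n, hn, by group⟩

theorem mem_N_of_conj {g : Γ} (hg : g ∈ D.G) (hw : w ∈ Φ.W Set.univ)
    (h : ∀ r, ∀ y ∈ D.X r, g * y * g⁻¹ ∈ D.X (w r)) : (g, w) ∈ D.N := by
  obtain ⟨n, hnG, hn⟩ := exists_n_L (D := D) hw
  have h1 : ∀ Ψ, n⁻¹ * g ∈ normalizer (XS D.X Ψ : Set Γ) := fun Ψ =>
    mem_normalizer_of fun y => conj_mem_XS fun r hr x hx => by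
      convert conj_X' hn (Ψ := Ψ) (by simpa using hr) (h r x hx) using 1; group
  obtain ⟨u, hu, m, hm, h2⟩ := exists_of_mem_normalizer
    (mul_mem (inv_mem (D.le_G _ hnG)) hg) (h1 _)
  have h3 : u ∈ normalizer (D.V : Set Γ) := by
    rw [← mul_mem_cancel_right (mem_normalizer_of fun y => conj_XS hm fun _ h => h), ← h2]
    exact h1 _
  obtain ⟨n0, h4, w0, h5, -, h6⟩ := exists_conj_V (D := D)
  obtain ⟨u', hu', m', hm', h7⟩ := exists_of_mem_normalizer (g := n0⁻¹ * u * n0)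
    (mul_mem (mul_mem (inv_mem h4) (D.le_G _ hu)) h4) (mem_normalizer_of fun y hy => by
      convert (h6 _).1 (conj_mem h3 ((h6 (n0 * y * n0⁻¹)).2 (by simpa [mul_assoc] using hy)))
        using 1
      group)
  have h8 := eq_one_of_isPElt hm' hu' (by
    rw [← h7]; simpa using (isPElt_of_mem D.pgrp hu).conj n0⁻¹)
  rw [h8, mul_one] at h7
  rw [D.disj u hu ((h6 u).2 (h7 ▸ hu')), one_mul, inv_mul_eq_iff_eq_mul] at h2
  simpa [h2] using mul_mem hn hm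

end RGD
end LT
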