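import Mathlib

/-!
# Finite root systems in coordinates and their Weyl groups
-/

set_option autoImplicit false
set_option linter.unusedSectionVars false

namespace LT

open Subgroup

/-- A finite root system given by coordinates with respect to the simple roots. -/
structure RootSys (ι R : Type*) [Fintype ι] [DecidableEq ι] where
  wt : R → ι → ℤ
  smp : ι → R
  neg : R → R
  cor : ι → (ι → ℤ) →+ ℤ
  ref : ι → R → R
  wt_inj : Function.Injective wt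
  wt_smp : ∀ i, wt (smp i) = Pi.single i 1
  wt_neg : ∀ r, wt (neg r) = -wt r
  dich : ∀ r, 0 ≤ wt r ∨ wt r ≤ 0
  wt_ne : ∀ r, wt r ≠ 0
  red : ∀ r i, (∀ j, j ≠ i → wt r j = 0) → r = smp i ∨ r = neg (smp i)
  cor_self : ∀ i, cor i (Pi.single i 1) = 2
  wt_ref : ∀ i r, wt (ref i r) = wt r - cor i (wt r) • Pi.single i 1

namespace RootSys

variable {ι R : Type*} [Fintype ι] [DecidableEq ι] [Finite R] (Φ : RootSys ι R)

def pos (r : R) : Prop := 0 ≤ Φ.wt r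

theorem neg_neg (r : R) : Φ.neg (Φ.neg r) = r := Φ.wt_inj (by simp [Φ.wt_neg])

theorem pos_neg {r : R} : Φ.pos (Φ.neg r) ↔ ¬ Φ.pos r := by
  rw [pos, pos, Φ.wt_neg, neg_nonneg]
  exact ⟨fun h h' => Φ.wt_ne r (le_antisymm h h'), (Φ.dich r).resolve_left⟩

theorem pos_smp (i : ι) : Φ.pos (Φ.smp i) := by
  rw [pos, Φ.wt_smp]; exact Pi.single_nonneg.2 zero_le_one

theorem pos_of_lt {r : R} {j : ι} (h : 0 < Φ.wt r j) : Φ.pos r :=
  (Φ.dich r).resolve_right fun h' => (h' j).not_gt h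

theorem smp_inj {i j : ι} (h : Φ.smp i = Φ.smp j) : i = j := by
  have := congrFun (congrArg Φ.wt h) i
  rw [Φ.wt_smp, Φ.wt_smp, Pi.single_eq_same, Pi.single_apply] at this
  by_contra h'; simp [h'] at this

theorem ref_ref (i : ι) (r : R) : Φ.ref i (Φ.ref i r) = r := Φ.wt_inj (by
  rw [Φ.wt_ref, Φ.wt_ref, map_sub, map_zsmul, Φ.cor_self, smul_eq_mul, sub_smul, mul_comm,
    mul_smul, two_smul]; abel)

/-- The simple reflections as permutations of the roots. -/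
def σ (i : ι) : Equiv.Perm R := ⟨Φ.ref i, Φ.ref i, Φ.ref_ref i, Φ.ref_ref i⟩

theorem σ_inv (i : ι) : (Φ.σ i)⁻¹ = Φ.σ i := rfl
theorem σ_σ (i : ι) (r : R) : Φ.σ i (Φ.σ i r) = r := Φ.ref_ref i r
theorem σ_mul_σ (i : ι) : Φ.σ i * Φ.σ i = 1 := Equiv.ext (Φ.ref_ref i)
theorem wt_σ (i : ι) (r : R) : Φ.wt (Φ.σ i r) = Φ.wt r - Φ.cor i (Φ.wt r) • Pi.single i 1 :=
  Φ.wt_ref i r

theorem wt_σ_ne {i j : ι} (h : j ≠ i) (r : R) : Φ.wt (Φ.σ i r) j = Φ.wt r j := by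
  simp [wt_σ, h]

theorem σ_smp (i : ι) : Φ.σ i (Φ.smp i) = Φ.neg (Φ.smp i) := Φ.wt_inj (by
  rw [wt_σ, Φ.wt_neg, Φ.wt_smp, Φ.cor_self, two_smul]; abel)

theorem exists_lt_of_ne {i : ι} {r : R} (hr : Φ.pos r) (h : r ≠ Φ.smp i) :
    ∃ j, j ≠ i ∧ 0 < Φ.wt r j := by
  by_contra! h'
  rcases Φ.red r i (fun j hj => le_antisymm (h' j hj) (hr j)) with h1 | h1
  · exact h h1
  · exact Φ.pos_neg.1 (h1 ▸ hr) (Φ.pos_smp i)

theorem pos_σ {i : ι} {r : R} (hr : Φ.pos r) (h : r ≠ Φ.smp i) :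
    Φ.pos (Φ.σ i r) ∧ Φ.σ i r ≠ Φ.smp i := by
  obtain ⟨j, hj, h1⟩ := Φ.exists_lt_of_ne hr h
  rw [← Φ.wt_σ_ne hj] at h1
  refine ⟨Φ.pos_of_lt h1, fun h2 => ?_⟩
  simp [h2, Φ.wt_smp, hj] at h1

/-- Standard parabolic subgroups of the Weyl group. -/
def W (J : Set ι) : Subgroup (Equiv.Perm R) := closure (Φ.σ '' J)

/-- The roots supported on `J`. -/
def sub (J : Set ι) (r : R) : Prop := ∀ j, j ∉ J → Φ.wt r j = 0

theorem σ_mem {J : Set ι} {i : ι} (h : i ∈ J) : Φ.σ i ∈ Φ.W J := subset_closure ⟨i, h, rfl⟩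

theorem W_le (J : Set ι) : Φ.W J ≤ Φ.W Set.univ := closure_mono (Set.image_mono J.subset_univ)

theorem W_ind {J : Set ι} {P : Equiv.Perm R → Prop} (h1 : P 1)
    (h : ∀ i ∈ J, ∀ w ∈ Φ.W J, P w → P (Φ.σ i * w)) {w : Equiv.Perm R} (hw : w ∈ Φ.W J) : P w := by
  induction hw using closure_induction_left with
  | one => exact h1
  | mul_left x hx y hy ih => obtain ⟨i, hi, rfl⟩ := hx; exact h i hi y hy ih
  | inv_mul_cancel x hx y hy ih => obtain ⟨i, hi, rfl⟩ := hx; exact h i hi y hy ih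

variable {Φ} {J : Set ι} {w : Equiv.Perm R}

theorem exists_lin (hw : w ∈ Φ.W J) :
    ∃ L : (ι → ℤ) →+ (ι → ℤ), ∀ r, Φ.wt (w r) = L (Φ.wt r) := by
  refine Φ.W_ind (P := fun w => ∃ L : (ι → ℤ) →+ (ι → ℤ), ∀ r, Φ.wt (w r) = L (Φ.wt r))
    ⟨AddMonoidHom.id _, fun _ => rfl⟩ ?_ hw
  rintro i - w - ⟨L, hL⟩
  exact ⟨L - (zmultiplesHom _ (Pi.single i 1)).comp ((Φ.cor i).comp L), fun r => by
    simp [wt_σ, hL]⟩

theorem wt_W (hw : w ∈ Φ.W J) (r : R) {j : ι} (hj : j ∉ J) : Φ.wt (w r) j = Φ.wt r j :=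
  Φ.W_ind (P := fun w => Φ.wt (w r) j = Φ.wt r j) rfl (fun i hi w _ h => by
    rw [Equiv.Perm.mul_apply, Φ.wt_σ_ne (fun e : j = i => hj (e ▸ hi)), h]) hw

theorem sub_W (hw : w ∈ Φ.W J) {r : R} : Φ.sub J (w r) ↔ Φ.sub J r :=
  forall₂_congr fun j hj => by rw [wt_W hw r hj]

theorem sub_neg {r : R} : Φ.sub J (Φ.neg r) ↔ Φ.sub J r := by simp [sub, Φ.wt_neg]

theorem sub_smp {i : ι} : Φ.sub J (Φ.smp i) ↔ i ∈ J := by
  refine ⟨fun h => by_contra fun h' => by simpa [Φ.wt_smp] using h i h', fun h j hj => ?_⟩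
  rw [Φ.wt_smp, Pi.single_eq_of_ne fun e : j = i => hj (e ▸ h)]

theorem pos_W_of_not_sub (hw : w ∈ Φ.W J) {r : R} (hr : Φ.pos r) (h : ¬ Φ.sub J r) :
    Φ.pos (w r) := by
  simp only [sub, not_forall] at h
  obtain ⟨j, hj, h⟩ := h
  exact Φ.pos_of_lt (j := j) (by rw [wt_W hw r hj]; exact lt_of_le_of_ne (hr j) (Ne.symm h))

theorem W_neg (hw : w ∈ Φ.W J) (r : R) : w (Φ.neg r) = Φ.neg (w r) := by
  obtain ⟨L, hL⟩ := exists_lin hw
  exact Φ.wt_inj (by rw [hL, Φ.wt_neg, Φ.wt_neg, hL, map_neg])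

theorem pos_W_of_smp {K : Set ι} (hw : w ∈ Φ.W J) (h : ∀ i ∈ K, Φ.pos (w (Φ.smp i))) {r : R}
    (hr : Φ.pos r) (hK : Φ.sub K r) : Φ.pos (w r) := by
  obtain ⟨L, hL⟩ := exists_lin hw
  rw [pos, hL, ← Finset.univ_sum_single (Φ.wt r), map_sum]
  refine Finset.sum_nonneg fun i _ => ?_
  by_cases hi : i ∈ K
  · rw [← mul_one (Φ.wt r i), ← smul_eq_mul, Pi.single_smul, map_zsmul, ← Φ.wt_smp, ← hL]
    exact smul_nonneg (hr i) (h i hi)
  · simp [hK i hi]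

theorem not_pos_W_of_smp {K : Set ι} (hw : w ∈ Φ.W J) (h : ∀ i ∈ K, ¬ Φ.pos (w (Φ.smp i))) {r : R}
    (hr : Φ.pos r) (hK : Φ.sub K r) : ¬ Φ.pos (w r) := by
  obtain ⟨L, hL⟩ := exists_lin hw
  rw [← Φ.pos_neg, pos, Φ.wt_neg, hL, ← Finset.univ_sum_single (Φ.wt r), map_sum,
    ← Finset.sum_neg_distrib]
  refine Finset.sum_nonneg fun i _ => ?_
  by_cases hi : i ∈ K
  · rw [← mul_one (Φ.wt r i), ← smul_eq_mul, Pi.single_smul, map_zsmul, ← Φ.wt_smp, ← hL,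
      ← smul_neg, ← Φ.wt_neg]
    exact smul_nonneg (hr i) (Φ.pos_neg.2 (h i hi))
  · simp [hK i hi]

theorem conj_σ (hw : w ∈ Φ.W J) {i j : ι} (h : w (Φ.smp i) = Φ.smp j) :
    w * Φ.σ i = Φ.σ j * w := by
  obtain ⟨L, hL⟩ := exists_lin hw
  obtain ⟨L', hL'⟩ := exists_lin (inv_mem hw)
  set φ := Φ.σ j * (w * Φ.σ i * w⁻¹) with hφ
  let f := (Φ.cor i).comp L' - Φ.cor j
  have h0 : L (Pi.single i 1) = Pi.single j 1 := by rw [← Φ.wt_smp, ← hL, h, Φ.wt_smp]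
  have h1 : f (Pi.single j 1) = 0 := by
    simp only [f, AddMonoidHom.sub_apply, AddMonoidHom.comp_apply, Φ.cor_self]
    rw [← Φ.wt_smp, ← hL', ← h, show w⁻¹ (w (Φ.smp i)) = Φ.smp i by simp, Φ.wt_smp, Φ.cor_self, sub_self]
  have h2 : ∀ r, Φ.wt (φ r) = Φ.wt r + f (Φ.wt r) • Pi.single j 1 := fun r => by
    have h3 : Φ.wt (w (Φ.σ i (w⁻¹ r))) = Φ.wt r - Φ.cor i (L' (Φ.wt r)) • Pi.single j 1 := by
      rw [hL, wt_σ, map_sub, map_zsmul, h0, ← hL, show w (w⁻¹ r) = r by simp, hL']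
    simp only [hφ, f, Equiv.Perm.mul_apply, wt_σ, h3, map_sub, map_zsmul, Φ.cor_self,
      AddMonoidHom.sub_apply, AddMonoidHom.comp_apply, smul_eq_mul, sub_smul, mul_two, add_smul]
    abel
  have h3 : ∀ (k : ℕ) r, Φ.wt ((φ ^ k) r) = Φ.wt r + (k * f (Φ.wt r)) • Pi.single j 1 := by
    intro k r
    induction k with
    | zero => simp
    | succ k ih =>
      rw [pow_succ', Equiv.Perm.mul_apply, h2, ih, map_add, map_zsmul, h1]
      simp [add_mul, add_smul, add_assoc]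
  have h4 : φ = 1 := Equiv.ext fun r => Φ.wt_inj (by
    have := congrFun (h3 (orderOf φ) r) j
    simp only [pow_orderOf_eq_one, Equiv.Perm.one_apply, Pi.add_apply, Pi.smul_apply,
      Pi.single_eq_same, smul_eq_mul, mul_one, left_eq_add, mul_eq_zero, Nat.cast_eq_zero,
      (orderOf_pos φ).ne', false_or] at this
    rw [h2, this, zero_smul, add_zero, Equiv.Perm.one_apply])
  rw [hφ, mul_eq_one_iff_inv_eq, σ_inv, eq_mul_inv_iff_mul_eq] at h4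
  exact h4.symm

theorem prod_mem (l : List ι) : (l.map Φ.σ).prod ∈ Φ.W Set.univ :=
  list_prod_mem fun _ hx => by
    obtain ⟨i, -, rfl⟩ := List.mem_map.1 hx
    exact Φ.σ_mem trivial

theorem exchange (l : List ι) (i : ι) (h : ¬ Φ.pos ((l.map Φ.σ).prod (Φ.smp i))) :
    ∃ l' : List ι, l'.length < l.length ∧ (l'.map Φ.σ).prod = (l.map Φ.σ).prod * Φ.σ i := by
  induction l with
  | nil => exact absurd (Φ.pos_smp i) h
  | cons j l ih =>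
    rw [List.map_cons, List.prod_cons] at h ⊢
    by_cases h1 : Φ.pos ((l.map Φ.σ).prod (Φ.smp i))
    · refine ⟨l, by simp, ?_⟩
      rw [mul_assoc, conj_σ (prod_mem l) (by_contra fun h2 => h (Φ.pos_σ h1 h2).1), ← mul_assoc,
        σ_mul_σ, one_mul]
    · obtain ⟨l', h2, h3⟩ := ih h1
      exact ⟨j :: l', by simpa using h2, by rw [List.map_cons, List.prod_cons, h3, mul_assoc]⟩

theorem eq_one_of_pos (hw : w ∈ Φ.W J) (h : ∀ i, Φ.pos (w (Φ.smp i))) : w = 1 := by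
  obtain ⟨l, rfl⟩ : ∃ l : List ι, (l.map Φ.σ).prod = w :=
    Φ.W_ind (P := fun w => ∃ l : List ι, (l.map Φ.σ).prod = w) ⟨[], rfl⟩
      (fun i _ w _ ⟨l, hl⟩ => ⟨i :: l, by rw [List.map_cons, List.prod_cons, hl]⟩) hw
  clear hw
  induction hn : l.length using Nat.strong_induction_on generalizing l with
  | _ n ih =>
  rcases l.eq_nil_or_concat with rfl | ⟨l, i, rfl⟩
  · rfl
  rw [List.concat_eq_append, List.map_append, List.prod_append] at h ⊢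
  simp only [List.map_cons, List.map_nil, List.prod_cons, List.prod_nil, mul_one] at h ⊢
  obtain ⟨l', h1, h2⟩ := exchange l i (by
    have := h i
    rwa [Equiv.Perm.mul_apply, σ_smp, W_neg (prod_mem l), pos_neg] at this)
  rw [← h2] at h ⊢
  exact ih _ (by rw [← hn]; simp; omega) l' h rfl

/-- The inversions of `w`. -/
def inv (Φ : RootSys ι R) (w : Equiv.Perm R) : Set R := {r | Φ.pos r ∧ ¬ Φ.pos (w r)}

theorem ncard_inv_lt {v : Equiv.Perm R} (hw : w ∈ Φ.W Set.univ) (hv : v ∈ Φ.W J) {i : ι}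
    (hi : i ∈ J) (h1 : ∀ r, Φ.pos r → Φ.sub J r → ¬ Φ.pos (w r))
    (h2 : ∀ r, Φ.pos r → Φ.sub J r → ¬ Φ.pos (v r)) :
    (∀ r ∈ Φ.inv (w * v⁻¹), ¬ Φ.sub J r) ∧ (Φ.inv (w * v⁻¹)).ncard < (Φ.inv w).ncard := by
  have h3 : ∀ r ∈ Φ.inv (w * v⁻¹), ¬ Φ.sub J r := fun r hr hJ => by
    have h4 := (sub_W (inv_mem hv)).2 hJ
    have h5 : ¬ Φ.pos (v⁻¹ r) := fun h => h2 _ h h4 (by simpa using hr.1)
    have := h1 _ (Φ.pos_neg.2 h5) (sub_neg.2 h4)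
    rw [W_neg hw, pos_neg, not_not] at this
    exact hr.2 this
  refine ⟨h3, ?_⟩
  rw [← Set.ncard_image_of_injective _ v⁻¹.injective]
  refine Set.ncard_lt_ncard ⟨?_, fun h => ?_⟩
  · rintro _ ⟨r, hr, rfl⟩
    exact ⟨pos_W_of_not_sub (inv_mem hv) hr.1 (h3 r hr), hr.2⟩
  · obtain ⟨r, hr, h4⟩ := h ⟨Φ.pos_smp i, h1 _ (Φ.pos_smp i) (sub_smp.2 hi)⟩
    exact h3 r hr ((sub_W (inv_mem hv)).1 (h4 ▸ sub_smp.2 hi))

theorem eq_smp_of_sub {i : ι} {r : R} (hr : Φ.pos r) (h : Φ.sub {i} r) : r = Φ.smp i :=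
  by_contra fun h' => by
    obtain ⟨j, hj, h1⟩ := Φ.exists_lt_of_ne hr h'
    exact h1.ne' (h j hj)

theorem ncard_inv_σ_lt (hw : w ∈ Φ.W Set.univ) {i : ι} (h : ¬ Φ.pos (w (Φ.smp i))) :
    (Φ.inv (w * Φ.σ i)).ncard < (Φ.inv w).ncard :=
  (ncard_inv_lt hw (Φ.σ_mem (J := {i}) rfl) rfl (fun r h1 h2 => eq_smp_of_sub h1 h2 ▸ h)
    fun r h1 h2 => by rw [eq_smp_of_sub h1 h2, σ_smp, pos_neg, not_not]; exact Φ.pos_smp i).2

variable (Φ) in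
theorem exists_longest (J : Set ι) :
    ∃ w ∈ Φ.W J, ∀ r, Φ.pos r → Φ.sub J r → ¬ Φ.pos (w r) := by
  obtain ⟨w, hw, h⟩ := Set.exists_max_image (Φ.W J : Set (Equiv.Perm R))
    (fun w => (Φ.inv w).ncard) (Set.toFinite _) ⟨1, one_mem _⟩
  refine ⟨w, hw, fun r => not_pos_W_of_smp hw fun i hi h1 => ?_⟩
  have h2 := mul_mem hw (Φ.σ_mem hi)
  have := ncard_inv_σ_lt (Φ.W_le J h2) (i := i)
    (by rwa [Equiv.Perm.mul_apply, σ_smp, W_neg hw, pos_neg, not_not])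
  rw [mul_assoc, σ_mul_σ, mul_one] at this
  exact (h _ h2).not_gt this

end RootSys
end LT
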