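import Cfsg.Agent.Lib.Lie.Twist

/-!
# Symmetries of root group data given by a relation; block triangular matrices
-/

set_option autoImplicit false
set_option linter.unusedSectionVars false

namespace LT

open Cfsg GT Subgroup RootSys RGD

variable {ι R : Type*} [Fintype ι] [DecidableEq ι] [Finite R] {Γ : Type*} [Group Γ] [Finite Γ]
variable {p : ℕ} [hp : Fact p.Prime] {Φ : RootSys ι R}

theorem RGD.eq_one_of_normal (D : RGD p Γ Φ) {N : Subgroup Γ} (hN : N ≤ D.G)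
    (hp : ∀ k ∈ N, IsPElt p k) (h : ∀ g ∈ D.G, ∀ k ∈ N, g * k * g⁻¹ ∈ N) {k : Γ} (hk : k ∈ N) :
    k = 1 := by
  have h1 := (tw_id D).isSylowIn
  have h2 : N ≤ D.U := (h1.le_of_normalizes (isPGroup_iff_forall_isPElt.2 hp) hN
    fun g hg => mem_normalizer_of (h g (h1.le hg))).trans inf_le_left
  obtain ⟨n, hn, w, -, -, h3⟩ := exists_conj_V (D := D)
  exact D.disj k (h2 hk) ((h3 k).2 (h2 (by simpa using h _ (inv_mem hn) k hk)))

theorem exists_sym_of_rel (D : RGD p Γ Φ) (Rel : Γ → Γ → Prop) (ρ : Equiv.Perm R)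
    (π : Equiv.Perm ι) (one : Rel 1 1)
    (mul : ∀ g ∈ D.G, ∀ g' ∈ D.G, ∀ h ∈ D.G, ∀ h' ∈ D.G, Rel g g' → Rel h h' → Rel (g * h) (g' * h'))
    (ker : ∀ k ∈ D.G, Rel 1 k → IsPElt p k)
    (X_map : ∀ r, ∀ x ∈ D.X r, ∃ y ∈ D.X (ρ r), Rel x y)
    (X_surj : ∀ r, ∀ y ∈ D.X (ρ r), ∃ x ∈ D.X r, Rel x y)
    (ρ_pos : ∀ r, Φ.pos (ρ r) ↔ Φ.pos r) (ρ_zero : ∀ r i, Φ.wt (ρ r) (π i) = 0 ↔ Φ.wt r i = 0)
    (ρ_smp : ∀ i, ρ (Φ.smp i) = Φ.smp (π i)) (ρ_σ : ∀ i r, ρ (Φ.σ i r) = Φ.σ (π i) (ρ r)) :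
    ∃ S : Sym D, S.π = π ∧ (∀ g ∈ D.G, ∀ g' ∈ D.G, Rel g g' → S.τ g = g') ∧
      ∀ g, g ∈ S.F ↔ g ∈ D.G ∧ Rel g g := by
  classical
  let A : Subgroup (Γ × Γ) :=
    { carrier := {x | x.1 ∈ D.G ∧ x.2 ∈ D.G ∧ Rel x.1 x.2}
      mul_mem' := fun {x y} hx hy => ⟨mul_mem hx.1 hy.1, mul_mem hx.2.1 hy.2.1,
        mul _ hx.1 _ hx.2.1 _ hy.1 _ hy.2.1 hx.2.2 hy.2.2⟩
      one_mem' := ⟨one_mem _, one_mem _, one⟩
      inv_mem' := fun {x} hx => by
        have h1 : ∀ n : ℕ, Rel (x ^ n).1 (x ^ n).2 := fun n => by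
          induction n with
          | zero => rw [pow_zero]; exact one
          | succ n ih =>
            rw [pow_succ]
            exact mul _ (pow_mem hx.1 n) _ (pow_mem hx.2.1 n) _ hx.1 _ hx.2.1 ih hx.2.2
        refine ⟨inv_mem hx.1, inv_mem hx.2.1, ?_⟩
        obtain ⟨n, hn⟩ := (mem_powers_iff_mem_zpowers.2 (inv_mem (mem_zpowers x)) :)
        exact hn ▸ h1 n }
  have h1 : ∀ g ∈ D.G, ∃ g', (g, g') ∈ A := fun g hg => by
    obtain ⟨x, hx, rfl⟩ := XS_le (K := A.map (MonoidHom.fst Γ Γ)) (fun r _ x hx => by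
      obtain ⟨y, hy, h⟩ := X_map r x hx
      exact ⟨(x, y), ⟨mem_XS trivial hx, mem_XS trivial hy, h⟩, rfl⟩) hg
    exact ⟨x.2, hx⟩
  have h2 : ∀ g ∈ D.G, ∃ g', (g', g) ∈ A := fun g hg => by
    obtain ⟨x, hx, rfl⟩ := XS_le (K := A.map (MonoidHom.snd Γ Γ)) (fun r _ y hy => by
      obtain ⟨r, rfl⟩ := ρ.surjective r
      obtain ⟨x, hx, h⟩ := X_surj r y hy
      exact ⟨(x, y), ⟨mem_XS trivial hx, mem_XS trivial hy, h⟩, rfl⟩) hg
    exact ⟨x.1, hx⟩
  have h3 : ∀ {g a b}, (g, a) ∈ A → (g, b) ∈ A → a = b := fun {g a b} ha hb => by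
    refine inv_mul_eq_one.1 (D.eq_one_of_normal (N := A.comap (MonoidHom.inr Γ Γ))
      (fun k hk => hk.2.1) (fun k hk => ker k hk.2.1 hk.2.2) (fun g hg k hk => ?_) ?_)
    · obtain ⟨g', h⟩ := h2 g hg
      simpa [mem_comap] using mul_mem (mul_mem h hk) (inv_mem h)
    · simpa [mem_comap] using mul_mem (inv_mem ha) hb
  choose! τ hτ using h1
  have h4 : ∀ g ∈ D.G, ∀ g' ∈ D.G, Rel g g' → τ g = g' := fun g hg g' hg' h =>
    h3 (hτ g hg) ⟨hg, hg', h⟩
  refine ⟨⟨τ, ρ, π, fun g hg h hh => h3 (hτ _ (mul_mem hg hh)) (mul_mem (hτ g hg) (hτ h hh)),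
    fun r x hx => ?_, fun r y hy => ?_, ρ_pos, ρ_zero, ρ_smp, ρ_σ⟩, rfl, h4,
    fun g => ⟨fun hg => ⟨hg.1, ?_⟩, fun hg => ⟨hg.1, h4 g hg.1 g hg.1 hg.2⟩⟩⟩
  · obtain ⟨y, hy, h⟩ := X_map r x hx
    rwa [h4 x (mem_XS trivial hx) y (mem_XS trivial hy) h]
  · obtain ⟨x, hx, h⟩ := X_surj r y hy
    exact ⟨x, hx, h4 x (mem_XS trivial hx) y (mem_XS trivial hy) h⟩
  · have := (hτ g hg.1).2.2
    rwa [show τ g = g from hg.2] at this

section Block

variable {I F : Type*} [Fintype I] [DecidableEq I] [Field F] (S : I → Prop) [DecidablePred S]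
  (κ : Equiv.Perm I) (θ η : F →+* F)

/-- The matrix preserves the span of the basis vectors in `S`. -/
def BTri (g : Matrix I I F) : Prop := ∀ i j, ¬ S i → S j → g i j = 0

/-- The two diagonal blocks of `g'` are twists of the interchanged diagonal blocks of `g`. -/
def BRel (g g' : Matrix I I F) : Prop :=
  ∀ i j, S i → S j → g' i j = θ (g (κ i) (κ j)) ∧ g' (κ i) (κ j) = η (g i j)

variable {S κ θ η} {g g' h h' : Matrix I I F}

theorem BTri.one : BTri S (1 : Matrix I I F) := fun _ _ hi hj =>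
  Matrix.one_apply_ne fun h => hi (h ▸ hj)

theorem BTri.mul (hg : BTri S g) (hh : BTri S h) : BTri S (g * h) := fun i j hi hj => by
  rw [Matrix.mul_apply]
  refine Finset.sum_eq_zero fun k _ => ?_
  by_cases hk : S k
  · rw [hg i k hi hk, zero_mul]
  · rw [hh k j hk hj, mul_zero]

theorem BTri.mul_apply (hh : BTri S h) (i : I) {j : I} (hj : S j) :
    (g * h) i j = ∑ k with S k, g i k * h k j := by
  rw [Matrix.mul_apply, Finset.sum_filter]
  refine Finset.sum_congr rfl fun k _ => ?_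
  split_ifs with hk
  · rfl
  · rw [hh k j hk hj, mul_zero]

theorem BTri.mul_apply' (hκ : ∀ i, S (κ i) ↔ ¬ S i) (hg : BTri S g) {i : I} (hi : S i) (j : I) :
    (g * h) (κ i) j = ∑ k with S k, g (κ i) (κ k) * h (κ k) j := by
  rw [Matrix.mul_apply, Finset.sum_filter, ← Equiv.sum_comp κ]
  refine Finset.sum_congr rfl fun k _ => ?_
  split_ifs with hk
  · rfl
  · rw [hg _ _ (fun h => (hκ i).1 h hi) ((hκ k).2 hk), zero_mul]

theorem BRel.one : BRel S κ θ η 1 1 := fun i j _ _ => by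
  simp [Matrix.one_apply, apply_ite θ, apply_ite η]

theorem BRel.mul (hκ : ∀ i, S (κ i) ↔ ¬ S i) (hg : BTri S g) (hg' : BTri S g') (hh : BTri S h)
    (hh' : BTri S h') (h1 : BRel S κ θ η g g') (h2 : BRel S κ θ η h h') :
    BRel S κ θ η (g * h) (g' * h') := fun i j hi hj => by
  rw [hh'.mul_apply i hj, hg.mul_apply' hκ hi, hg'.mul_apply' hκ hi, hh.mul_apply i hj, map_sum,
    map_sum]
  exact ⟨Finset.sum_congr rfl fun k hk => by
      have hk := (Finset.mem_filter.1 hk).2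
      rw [map_mul, (h1 i k hi hk).1, (h2 k j hk hj).1],
    Finset.sum_congr rfl fun k hk => by
      have hk := (Finset.mem_filter.1 hk).2
      rw [map_mul, (h1 i k hi hk).2, (h2 k j hk hj).2]⟩

theorem BRel.pow_eq_one [CharP F p] (hκ : ∀ i, S (κ i) ↔ ¬ S i) (hg : BTri S g)
    (h : BRel S κ θ η 1 g) : g ^ p = 1 := by
  have h1 : ∀ i j, (S i ↔ S j) → (g - 1) i j = 0 := fun i j hij => by
    by_cases hi : S i
    · simp [(h i j hi (hij.1 hi)).1, Matrix.one_apply, apply_ite θ]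
    · obtain ⟨i, rfl⟩ := κ.surjective i
      obtain ⟨j, rfl⟩ := κ.surjective j
      have h2 := hκ i
      have h3 := hκ j
      simp [(h i j (by tauto) (by tauto)).2, Matrix.one_apply, apply_ite η]
  have h2 : (g - 1) * (g - 1) = 0 := by
    ext i j
    rw [Matrix.mul_apply]
    refine Finset.sum_eq_zero fun k _ => ?_
    by_cases hk : S k
    · by_cases hj : S j
      · rw [h1 k j (by tauto), mul_zero]
      · by_cases hi : S i
        · rw [h1 i k (by tauto), zero_mul]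
        · rw [Matrix.sub_apply, hg i k hi hk, BTri.one i k hi hk, sub_self, zero_mul]
    · by_cases hj : S j
      · rw [Matrix.sub_apply g 1 k, hg k j hk hj, BTri.one k j hk hj, sub_self, mul_zero]
      · rw [h1 k j (by tauto), mul_zero]
  have h3 : ∀ n : ℕ, g ^ n = 1 + (n : F) • (g - 1) := fun n => by
    induction n with
    | zero => simp
    | succ n ih =>
      have h4 : (g - 1) * g = g - 1 := by
        rw [mul_sub, mul_one, sub_eq_zero] at h2; exact h2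
      rw [pow_succ, ih, add_mul, smul_mul_assoc, h4, one_mul]
      push_cast
      module
  rw [h3, CharP.cast_eq_zero, zero_smul, add_zero]

end Block

end LT
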