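import Cfsg.Agent.Lib.Lie.Eval
import Cfsg.Prelude.Def_ChevWords

/-!
# Packed tables for a Chevalley datum; evaluation of words in root elements
-/

set_option autoImplicit false

namespace LT

open Matrix Cfsg.Lie

/-- Packed tables. -/
structure Tab (D : ChevalleyDatum) where
  neg : ℕ
  smp : ℕ
  ref : List ℕ
  eta : List ℕ
  wt : List ℕ
  car : List ℕ
  cor : List ℕ
  row : List ℕ
  /-- commutator relations `(a, b, [(c, d, i, j), …])` -/
  cm : List (ℕ × ℕ × List (ℕ × ℤ × ℕ × ℕ))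

noncomputable section

def nth (L : List ℕ) (i : ℕ) : ℕ := List.rec (motive := fun _ => ℕ → ℕ) (fun _ => 0)
  (fun a _ ih j => Nat.rec a (fun j _ => ih j) j) L i
def g8 (x r : ℕ) : ℕ := Nat.land (Nat.shiftRight x (Nat.mul 8 r)) 255
def z4 (x : ℕ) : ℤ := Bool.rec (Int.negSucc (Nat.sub 7 x)) (Int.ofNat (Nat.sub x 8)) (Nat.ble 8 x)
def g4 (x r : ℕ) : ℤ := z4 (Nat.land (Nat.shiftRight x (Nat.mul 4 r)) 15)

def dec (l e : ℕ) : FV :=
  Nat.rec (motive := fun _ => ℕ → ℕ → FV) (fun _ _ => .nil) (fun _ ih e j => Bool.rec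
    (.cons (Nat.add l (Nat.shiftRight (Nat.land e 4095) 4)) j (z4 (Nat.land e 15))
      (ih (Nat.shiftRight e 12) (Nat.succ j))) .nil (Nat.beq e 0)) 3 e 1

def corFV (l : ℕ) (cor : List ℕ) (r : ℕ) (t : FV) : FV :=
  Nat.rec t (fun i ih => .cons i 1 (g4 (nth cor i) r) ih) l

def rest (l n : ℕ) (car cor : List ℕ) (r row ng k : ℕ) : FV :=
  Bool.rec (.cons (Nat.add l r) 1 (Int.neg (g4 (nth car k) r)) .nil) (Bool.rec
    (Bool.rec (dec l (Nat.land (Nat.shiftRight row (Nat.mul 36 (Nat.sub k l))) 68719476735))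
      (corFV l cor r (.cons (Nat.add l r) 2 (Int.negSucc 0) .nil)) (Nat.beq (Nat.sub k l) ng))
    .nil (Nat.ble n (Nat.sub k l))) (Nat.ble l k)

def chFV (l : ℕ) (L : List (ℕ × ℤ)) : ℕ → FV → FV :=
  List.rec (fun _ t => t) (fun a _ ih j t => .cons (Nat.add l a.1) (Nat.succ j) a.2 (ih (Nat.succ j) t)) L

def slowFV (l : ℕ) (L : List (ℕ × Array (ℕ × ℤ))) (s : ℕ) : FV :=
  List.rec .nil (fun e _ ih => Bool.rec ih (chFV l e.2.toList 0 ih) (Nat.beq e.1 s)) L

theorem ble_false {a b : ℕ} (h : b < a) : Nat.ble a b = false :=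
  Bool.eq_false_iff.2 fun h' => h.not_ge (Nat.le_of_ble_eq_true h')

theorem neg_eq (c : ℤ) : Int.neg c = -c := rfl

variable {D : ChevalleyDatum} (T : Tab D) {F : Type*} [Field F]

/-- The code of a basis vector. -/
def cd (D : ChevalleyDatum) : D.Idx → ℕ := Sum.elim Fin.val fun r => D.rank + r

/-- The basis vector with given code. -/
abbrev bs (F : Type*) [Field F] (D : ChevalleyDatum) : ℕ → D.Idx → F := bas F (cd D)

/-- The dimension. -/
def dm (D : ChevalleyDatum) : ℕ := Nat.add D.rank D.nroots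

theorem cd_inj : Function.Injective (cd D) := by
  rintro (i | i) (j | j) h <;> simp only [cd, Sum.elim_inl, Sum.elim_inr] at h
  · rw [Fin.ext h]
  · omega
  · omega
  · rw [Fin.ext (Nat.add_left_cancel h)]

theorem cd_lt (j : D.Idx) : cd D j < dm D := by
  rcases j with j | j <;> simp [cd, dm] <;> omega

theorem bs_cd (j : D.Idx) : bs F D (cd D j) = Pi.single j 1 :=
  funext fun k => by simp [bas, cd_inj.eq_iff, Pi.single_apply]

theorem bs_cases (k : ℕ) : (dm D ≤ k ∧ bs F D k = 0) ∨ ∃ j, k = cd D j := by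
  by_cases h : k < D.rank
  · exact Or.inr ⟨.inl ⟨k, h⟩, rfl⟩
  by_cases h' : k < dm D
  · exact Or.inr ⟨.inr ⟨k - D.rank, by simp [dm] at h'; omega⟩, by simp [cd]; omega⟩
  exact Or.inl ⟨not_lt.1 h', funext fun j => if_neg fun e : cd D j = k => h' (e ▸ cd_lt j)⟩

theorem ext_bs {A B : Matrix D.Idx D.Idx F} (h : ∀ k < dm D, A *ᵥ bs F D k = B *ᵥ bs F D k) :
    A = B := ext_of_mulVec_single fun j => by rw [← bs_cd]; exact h _ (cd_lt j)

namespace Tab

/-- The non-identity part of the columns of `x_r`. -/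
def R (r : ℕ) : ℕ → FV := rest D.rank D.nroots T.car T.cor r (nth T.row r) (g8 T.neg r)

/-- The tables agree with the datum. -/
def chk0 : Bool := all D.nroots fun r => Nat.beq (D.negIdx.getD r 0) (g8 T.neg r) &&
  (all D.rank fun i => ibeq ((D.cartanSR.getD i #[]).getD r 0) (g4 (nth T.car i) r) &&
    ibeq ((D.coroot.getD r #[]).getD i 0) (g4 (nth T.cor i) r)) &&
  (T.R r (Nat.add D.rank r)).beq .nil && all D.nroots fun s => Nat.beq s (g8 T.neg r) ||
    (T.R r (Nat.add D.rank s)).beq (slowFV D.rank (D.chain.getD r #[]).toList s)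

theorem ev_chFV (t : F) (L : List (ℕ × ℤ)) (j : ℕ) (v : FV) (u : D.Idx) :
    ev (bs F D) (t ^ ·) (chFV D.rank L j v) u = Sum.elim (fun _ => 0) (fun u : Fin D.nroots =>
      ((((L.zipIdx j).filter fun q => q.1.1 = u.1).map fun q => (q.2 + 1, q.1.2)).map
        fun km => (km.2 : F) * t ^ km.1).sum) u + ev (bs F D) (t ^ ·) v u := by
  induction L generalizing j with
  | nil => cases u <;> simp [chFV]
  | cons a L ih =>
    refine (congrArg (_ + ·) (ih (j + 1))).trans ?_
    rcases u with u | u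
    · have : (u : ℕ) ≠ D.rank + a.1 := by omega
      simp [bas, cd, this]
    by_cases h : a.1 = u
    · simp [bas, cd, h, add_assoc]
    · simp [bas, cd, h, Ne.symm h]

theorem ev_slowFV (t : F) (L : List (ℕ × Array (ℕ × ℤ))) (s : ℕ) (u : D.Idx) :
    ev (bs F D) (t ^ ·) (slowFV D.rank L s) u = Sum.elim (fun _ => 0) (fun u : Fin D.nroots =>
      (((L.filter fun e => e.1 = s).flatMap fun e => (e.2.toList.zipIdx.filter
        fun q => q.1.1 = u.1).map fun q => (q.2 + 1, q.1.2)).map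
        fun km => (km.2 : F) * t ^ km.1).sum) u := by
  induction L with
  | nil => cases u <;> simp [slowFV, ev]
  | cons e L ih =>
    change ev (bs F D) _ (Bool.rec (slowFV _ L s) (chFV _ _ 0 (slowFV _ L s)) (Nat.beq e.1 s)) u = _
    cases h : Nat.beq e.1 s
    · simpa [Nat.ne_of_beq_eq_false h] using ih
    · rw [ev_chFV, ih]
      cases u <;> simp [Nat.eq_of_beq_eq_true h]

theorem ev_corFV (t : F) (cor : List ℕ) (r : ℕ) (v : FV) (l : ℕ) (u : D.Idx) :
    ev (bs F D) (t ^ ·) (corFV l cor r v) u =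
      (if cd D u < l then g4 (nth cor (cd D u)) r * t else 0) + ev (bs F D) (t ^ ·) v u := by
  induction l with
  | zero => simp [corFV]
  | succ l ih =>
    refine (congrArg (_ + ·) ih).trans ?_
    rcases lt_trichotomy (cd D u) l with h | h | h
    · simp [bas, h, h.ne, h.trans l.lt_succ_self]
    · simp [bas, h]
    · simp [bas, h.ne', h.not_gt, Nat.lt_succ_iff, h.not_ge]

variable {T}

theorem xMat_bs (h : T.chk0 = true) (r : Fin D.nroots) (t : F) (k : ℕ) :
    D.xMat F r t *ᵥ bs F D k = bs F D k + ev (bs F D) (t ^ ·) (T.R r k) := by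
  simp only [chk0, all_iff, Bool.and_eq_true, Bool.or_eq_true, Nat.beq_eq, ibeq_iff] at h
  obtain ⟨⟨⟨h1, h2⟩, h3⟩, h4⟩ := h r r.2
  rcases bs_cases (F := F) (D := D) k with ⟨h5, h6⟩ | ⟨k, rfl⟩
  · simp only [dm, Nat.add_eq] at h5
    rw [h6, mulVec_zero, zero_add, R, rest, Nat.ble_eq_true_of_le (n := D.rank) (by omega),
      Nat.ble_eq_true_of_le (n := D.nroots) (by simp; omega)]
    rfl
  rw [bs_cd, mulVec_single_one]
  ext u
  rcases k with i | s
  · rw [R, rest, ble_false (a := D.rank) (b := cd D (.inl i)) i.2]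
    rcases u with u | u
    · have : (u : ℕ) ≠ D.rank + r := by omega
      simp [ChevalleyDatum.xMat, ev, bas, cd, this, Pi.single_apply]
    · simp [ChevalleyDatum.xMat, ev, bas, cd, Fin.val_inj, ← (h2 i i.2).1, neg_eq, neg_ite]
  by_cases h5 : s = r
  · subst h5
    rw [show T.R s (cd D (.inr s)) = .nil from FV.eq_of_beq h3]
    cases u <;> simp [ChevalleyDatum.xMat, ev, Pi.single_apply]
  by_cases h6 : s.1 = g8 T.neg r
  · have h8 : Nat.beq (Nat.sub (cd D (.inr s)) D.rank) (g8 T.neg r) = true := by simp [cd, h6]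
    rw [R, rest, Nat.ble_eq_true_of_le (n := D.rank) (by simp [cd]),
      ble_false (a := D.nroots) (by simp [cd]), h8]
    simp only [Pi.add_apply, ev_corFV]
    rcases u with u | u
    · have : (u : ℕ) ≠ D.rank + r := by omega
      simp [ChevalleyDatum.xMat, ev, bas, cd, this, h5, h1, h6, ← (h2 u u.2).2]
    · by_cases h7 : u = s
      · simp [ChevalleyDatum.xMat, ev, bas, cd, h5, h1, ← h6, h7, Fin.val_inj]
      · simp [ChevalleyDatum.xMat, ev, bas, cd, h5, h1, h6, h7, Fin.val_inj, neg_ite]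
  · rw [show T.R r (cd D (.inr s)) = _ from FV.eq_of_beq ((h4 s s.2).resolve_left h6), Pi.add_apply,
      ev_slowFV]
    cases u <;> simp [ChevalleyDatum.xMat, ChevalleyDatum.chainCoeff, h5, h1, h6, Pi.single_apply]

variable (T) in
/-- Apply a word in root elements with polynomial arguments. -/
def word (w : List (ℕ × FV)) (v : FV) : FV :=
  List.rec v (fun a _ ih => Bool.rec (appx (T.R a.1) a.2 ih) ih (Nat.ble D.nroots a.1)) w

variable (T) in
/-- Equality of two words modulo `p`. -/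
def weq (p : ℕ) (w w' : List (ℕ × FV)) : Bool :=
  all (dm D) fun k => eqv p (T.word w (.one k)) (T.word w' (.one k))

/-- The value of a formal word. -/
abbrev _root_.LT.wv (μ : ℕ → F) (w : List (ℕ × FV)) : List (ℕ × F) := w.map fun a => (a.1, pv μ a.2)

theorem ev_word (h : T.chk0 = true) (μ : ℕ →* F) (w : List (ℕ × FV)) (v : FV) :
    ev (bs F D) μ (T.word w v) = D.wordMat F (wv μ w) *ᵥ ev (bs F D) μ v := by
  induction w with
  | nil => simp [word, ChevalleyDatum.wordMat]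
  | cons a w ih =>
    change ev _ _ (Bool.rec (appx _ _ (T.word w v)) (T.word w v) _) =
      (D.x F a.1 _ * D.wordMat F (wv μ w)) *ᵥ _
    rw [← mulVec_mulVec, ← ih, ChevalleyDatum.x]
    split_ifs with h1
    · rw [ble_false h1]; exact ev_appx (xMat_bs h ⟨a.1, h1⟩ _) _
    · rw [Nat.ble_eq_true_of_le (not_lt.1 h1), one_mulVec]

theorem wordMat_bs (h : T.chk0 = true) (μ : ℕ →* F) (w : List (ℕ × FV)) (k : ℕ) :
    D.wordMat F (wv μ w) *ᵥ bs F D k = ev (bs F D) μ (T.word w (.one k)) := by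
  rw [ev_word h, ev_one]

theorem wordMat_apply (h : T.chk0 = true) (μ : ℕ →* F) (w : List (ℕ × FV)) (a k : D.Idx) :
    D.wordMat F (wv μ w) a k = pv μ (coord (cd D a) (T.word w (.one (cd D k)))) := by
  rw [pv_coord, ← wordMat_bs h, bs_cd, mulVec_single_one, col_apply]

theorem wordMat_eq (h : T.chk0 = true) {p : ℕ} (hp : (p : F) = 0) (μ : ℕ →* F)
    {w w' : List (ℕ × FV)} (hw : T.weq p w w' = true) :
    D.wordMat F (wv μ w) = D.wordMat F (wv μ w') :=
  ext_bs fun k hk => by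
    rw [wordMat_bs h, wordMat_bs h, ev_of_eqv hp _ _ (all_iff.1 hw k hk)]

end Tab

variable (D) in
/-- Columns out of range are zero. -/
def gd (f : ℕ → FV) (k : ℕ) : FV := Bool.rec (f k) .nil (Nat.ble (dm D) k)

variable (D F) in
/-- The integral matrix with columns `f k`. -/
def mat (f : ℕ → FV) : Matrix D.Idx D.Idx F := of fun a k => ev (bs F D) (1 : ℕ → F) (f (cd D k)) a

theorem mat_bs (f : ℕ → FV) (k : ℕ) :
    mat D F f *ᵥ bs F D k = ev (bs F D) (1 : ℕ → F) (gd D f k) := by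
  rcases bs_cases (F := F) (D := D) k with ⟨h5, h6⟩ | ⟨k, rfl⟩
  · rw [h6, gd, Nat.ble_eq_true_of_le h5, mulVec_zero]; rfl
  · rw [gd, ble_false (cd_lt k), bs_cd, mulVec_single_one]; rfl

theorem ev_mat (f : ℕ → FV) (μ : ℕ → F) (v : FV) :
    ev (bs F D) μ (appm (gd D f) v) = mat D F f *ᵥ ev (bs F D) μ v := ev_appm (mat_bs f) μ v

/-- The relation `M w = w' M` modulo `p`. -/
def Tab.ceq (p : ℕ) (f : ℕ → FV) (w w' : List (ℕ × FV)) : Bool := all (dm D) fun k =>
  eqv p (appm (gd D f) (T.word w (.one k))) (T.word w' (appm (gd D f) (.one k)))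

variable {T} in
theorem Tab.mat_mul_wordMat (h : T.chk0 = true) {p : ℕ} (hp : (p : F) = 0) (μ : ℕ →* F)
    {f : ℕ → FV} {w w' : List (ℕ × FV)} (hw : T.ceq p f w w' = true) :
    mat D F f * D.wordMat F (wv μ w) = D.wordMat F (wv μ w') * mat D F f :=
  ext_bs fun k hk => by
    have := ev_of_eqv hp (bs F D) μ (all_iff.1 hw k hk)
    rwa [ev_mat, ev_word h, ev_word h, ev_mat, ev_one, mulVec_mulVec, mulVec_mulVec] at this

end
end LT
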