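import Cfsg.Agent.Lib.Lie.Tab
import Cfsg.Agent.Lib.Lie.Chev

/-!
# From checked tables to Chevalley relations
-/

set_option autoImplicit false

namespace LT.Tab

open Matrix Cfsg.Lie

noncomputable section

variable {D : ChevalleyDatum} (T : Tab D) {F : Type*} [Field F]

def wf (r i : ℕ) : ℤ := g4 (nth T.wt i) r
def rf (i r : ℕ) : ℕ := g8 (nth T.ref i) r
def ng (r : ℕ) : ℕ := g8 T.neg r
def sm (i : ℕ) : ℕ := g8 T.smp i
def ht (r : ℕ) : ℤ := sumTo D.rank (T.wf r)
def hc (k : ℕ) : ℤ := Bool.rec 0 (T.ht (Nat.sub k D.rank)) (Nat.ble D.rank k)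

/-- The root system axioms. -/
def chk1 : Bool := (all D.rank fun i => decide (T.sm i < D.nroots) &&
    ibeq (g4 (nth T.car i) (T.sm i)) 2 &&
    all D.rank fun j => ibeq (T.wf (T.sm i) j) (if j = i then 1 else 0)) &&
  all D.nroots fun r => decide (T.ng r < D.nroots) &&
    (all D.rank fun j => ibeq (T.wf (T.ng r) j) (-T.wf r j)) &&
    ((all D.rank fun j => decide (0 ≤ T.wf r j)) || all D.rank fun j => decide (T.wf r j ≤ 0)) &&
    !(all D.rank fun j => ibeq (T.wf r j) 0) &&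
    (all D.nroots fun s => Nat.beq r s || !(all D.rank fun j => ibeq (T.wf r j) (T.wf s j))) &&
    all D.rank fun i => decide (T.rf i r < D.nroots) && (Nat.beq r (T.sm i) ||
      Nat.beq r (T.ng (T.sm i)) || !(all D.rank fun j => Nat.beq j i || ibeq (T.wf r j) 0)) &&
      all D.rank fun j => ibeq (T.wf (T.rf i r) j) (T.wf r j - if j = i then
        sumTo D.rank fun k => T.wf r k * g4 (nth T.car i) (T.sm k) else 0)

theorem chk1_iff : T.chk1 = true ↔ (∀ i < D.rank, (T.sm i < D.nroots ∧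
    g4 (nth T.car i) (T.sm i) = 2) ∧ ∀ j < D.rank, T.wf (T.sm i) j = if j = i then 1 else 0) ∧
  ∀ r < D.nroots, ((((T.ng r < D.nroots ∧ ∀ j < D.rank, T.wf (T.ng r) j = -T.wf r j) ∧
    ((∀ j < D.rank, 0 ≤ T.wf r j) ∨ ∀ j < D.rank, T.wf r j ≤ 0)) ∧ ¬ ∀ j < D.rank, T.wf r j = 0) ∧
    ∀ s < D.nroots, r = s ∨ ¬ ∀ j < D.rank, T.wf r j = T.wf s j) ∧
    ∀ i < D.rank, (T.rf i r < D.nroots ∧ ((r = T.sm i ∨ r = T.ng (T.sm i)) ∨
      ¬ ∀ j < D.rank, j = i ∨ T.wf r j = 0)) ∧ ∀ j < D.rank, T.wf (T.rf i r) j = T.wf r j -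
        if j = i then ∑ k : Fin D.rank, T.wf r k * g4 (nth T.car i) (T.sm k) else 0 := by
  simp only [chk1, all_iff, Bool.and_eq_true, Bool.or_eq_true, Nat.beq_eq, ibeq_iff, sumTo_eq,
    decide_eq_true_eq, Bool.not_eq_true', ← Bool.not_eq_true]

variable {T}

/-- The root system. -/
def Φ (h : T.chk1 = true) : RootSys (Fin D.rank) (Fin D.nroots) :=
  have h := T.chk1_iff.1 h
  { wt r i := T.wf r i
    smp i := ⟨T.sm i, (h.1 i i.2).1.1⟩
    neg r := ⟨T.ng r, (h.2 r r.2).1.1.1.1.1⟩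
    cor i := .mk' (fun v => ∑ k, v k * g4 (nth T.car i) (T.sm k)) fun v w => by
      simp [add_mul, Finset.sum_add_distrib]
    ref i r := ⟨T.rf i r, ((h.2 r r.2).2 i i.2).1.1⟩
    wt_inj r s e := Fin.ext (((h.2 r r.2).1.2 s s.2).resolve_right fun h' =>
      h' fun j hj => congrFun e ⟨j, hj⟩)
    wt_smp i := funext fun j => by simpa [Pi.single_apply, Fin.ext_iff] using (h.1 i i.2).2 j j.2
    wt_neg r := funext fun j => (h.2 r r.2).1.1.1.1.2 j j.2
    dich r := (h.2 r r.2).1.1.1.2.imp (fun h j => h j j.2) fun h j => h j j.2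
    wt_ne r e := (h.2 r r.2).1.1.2 fun j hj => congrFun e ⟨j, hj⟩
    red r i e := (((h.2 r r.2).2 i i.2).1.2.resolve_right fun h' => h' fun j hj =>
      (eq_or_ne j i).imp_right fun h1 => e ⟨j, hj⟩ (mt (congrArg Fin.val) h1)).imp Fin.ext Fin.ext
    cor_self i := by simpa [Pi.single_apply] using (h.1 i i.2).1.2
    wt_ref i r := funext fun j => by
      simpa [Pi.single_apply, Fin.ext_iff] using ((h.2 r r.2).2 i i.2).2 j j.2 }

theorem ht_eq (h : T.chk1 = true) (r : Fin D.nroots) : (Φ h).ht r = T.ht r :=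
  (sumTo_eq _ (T.wf r)).symm

theorem hti_eq (h : T.chk1 = true) (k : D.Idx) : (Φ h).hti k = T.hc (cd D k) := by
  rcases k with k | k
  · rw [hc, ble_false (a := D.rank) (b := cd D (.inl k)) k.2]; rfl
  · rw [hc, Nat.ble_eq_true_of_le (by simp [cd])]; simpa [cd, RootSys.hti] using ht_eq h k

variable (T)

/-- Homogeneity of the columns. -/
def chk2 : Bool := all D.nroots fun r => all (dm D) fun k => (T.R r k).all fun a j _ =>
  Nat.blt 0 j && ibeq (T.hc a) (T.hc k + j * T.ht r)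

/-- Additivity. -/
def chk3 : Bool := all D.nroots fun r =>
  T.weq 0 [(r, .cons 0 2 1 (.mon 3 1))] [(r, .mon 2 1), (r, .mon 3 1)]

/-- Columns of the Weyl group elements. -/
def nu (i k : ℕ) : FV := Bool.rec (.cons k 1 1 (.cons i 1 (Int.neg (g4 (nth T.car k) (T.sm i))) .nil))
  (.cons (Nat.add D.rank (T.rf i (Nat.sub k D.rank))) 1 (g4 (nth T.eta i) (Nat.sub k D.rank)) .nil)
  (Nat.ble D.rank k)

def sl2 (i r : ℕ) : Bool := (ibeq (g4 (nth T.cor i) r) 1 || ibeq (g4 (nth T.cor i) r) (-1)) &&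
  eqv 0 (T.word [(r, .mon 2 1)] (.one (D.rank + T.ng r))) (.cons (D.rank + T.ng r) 1 1
    (.cons i 2 (g4 (nth T.cor i) r) (.cons (D.rank + r) (2 * 2) (-1) .nil)))

/-- The rank one relations. -/
def chk4 : Bool := all D.rank fun i => T.sl2 i (T.sm i) && T.sl2 i (T.ng (T.sm i)) &&
  all (dm D) fun k => eqv 0 (T.word [(T.sm i, .mon 1 1), (T.ng (T.sm i), .mon 1 (-1)),
    (T.sm i, .mon 1 1)] (.one k)) (appm (gd D (T.nu i)) (.one k))

/-- The commutator relations. -/
def chk5 : Bool := (T.cm.all fun e => T.weq 0 [(e.1, .mon 2 1), (e.2.1, .mon 3 1)]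
    ((e.2.2.map fun c => (c.1, .mon (2 ^ c.2.2.1 * 3 ^ c.2.2.2) c.2.1)) ++
      [(e.2.1, .mon 3 1), (e.1, .mon 2 1)]) &&
    e.2.2.all fun c => decide (c.1 < D.nroots) && decide (0 < c.2.2.1) && decide (0 < c.2.2.2) &&
      all D.rank fun k => ibeq (T.wf c.1 k) (c.2.2.1 * T.wf e.1 k + c.2.2.2 * T.wf e.2.1 k)) &&
  all D.nroots fun a => !(all D.rank fun i => decide (T.ht (T.rf i a) ≤ T.ht a)) ||
    all D.nroots fun b => !(all D.rank fun i => !(Nat.beq (T.rf i a) a) ||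
      decide (T.ht (T.rf i b) ≤ T.ht b)) || Nat.beq b a || Nat.beq b (T.ng a) ||
      T.cm.any fun e => Nat.beq e.1 a && Nat.beq e.2.1 b

/-- Conjugation by the Weyl group elements. -/
def chk6 (i : ℕ) : Bool := all D.nroots fun r =>
  T.ceq 0 (T.nu i) [(r, .mon 2 1)] [(T.rf i r, .mon 2 (g4 (nth T.eta i) r))]

/-- All checks. -/
structure OK : Prop where
  c0 : T.chk0 = true
  c1 : T.chk1 = true
  c2 : T.chk2 = true
  c3 : T.chk3 = true
  c4 : T.chk4 = true
  c5 : T.chk5 = true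
  c6 : ∀ i < D.rank, T.chk6 i = true

variable {T} (h : T.OK)
include h

theorem xMat_apply (r : Fin D.nroots) (t : F) (a k : D.Idx) : D.xMat F r t a k =
    (1 : Matrix _ _ F) a k + ev (bs F D) (t ^ ·) (T.R r (cd D k)) a := by
  simpa [bs_cd, one_apply, Pi.single_apply] using congrFun (xMat_bs h.c0 r t (cd D k)) a

theorem ind {P : FV → Prop} (r : Fin D.nroots) (k : D.Idx) (h0 : P .nil) (h1 : ∀ a (j : ℕ) c v, 0 < j →
    T.hc a = T.hc (cd D k) + j * T.ht r → P v → P (.cons a j c v)) : P (T.R r (cd D k)) := by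
  have h2 := all_iff.1 (all_iff.1 h.c2 r r.2) _ (cd_lt k)
  generalize T.R r (cd D k) = v at h2
  induction v with
  | nil => exact h0
  | cons a j c v ih =>
    simp only [FV.all_cons, Bool.and_eq_true, Nat.blt_eq, ibeq_iff] at h2
    exact h1 a j c v h2.1.1 h2.1.2 (ih h2.2)

theorem xMat_zero (r : Fin D.nroots) : D.xMat F r 0 = 1 := Matrix.ext fun a k => by
  rw [xMat_apply h, add_eq_left]
  exact ind h (P := fun v => ev (bs F D) ((0 : F) ^ ·) v a = 0) r k rfl fun b j c v hj _ ih => by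
    simp [ev, ih, hj.ne']

theorem xMat_add (r : Fin D.nroots) (t u : F) :
    D.xMat F r (t + u) = D.xMat F r t * D.xMat F r u := by
  obtain ⟨μ, rfl, rfl⟩ := exists_mu2 t u
  simpa [ChevalleyDatum.wordMat, ChevalleyDatum.x, ev, FV.mon] using
    wordMat_eq h.c0 Nat.cast_zero μ (all_iff.1 h.c3 r r.2)

variable (F) in
/-- The root elements. -/
def x (r : Fin D.nroots) (t : F) : GL D.Idx F :=
  ⟨D.xMat F r t, D.xMat F r (-t), by rw [← xMat_add h, add_neg_cancel, xMat_zero h],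
    by rw [← xMat_add h, neg_add_cancel, xMat_zero h]⟩

theorem exists_word [Finite F] {P : Fin D.nroots → Prop} (w : List (ℕ × F))
    (hw : ∀ a ∈ w, ∃ h : a.1 < D.nroots, P ⟨a.1, h⟩) :
    ∃ g ∈ XS (fun r => Subgroup.closure (Set.range (x F h r))) P, g.1 = D.wordMat F w := by
  induction w with
  | nil => exact ⟨1, one_mem _, rfl⟩
  | cons a w ih =>
    obtain ⟨g, hg, h1⟩ := ih fun b hb => hw b (List.mem_cons_of_mem _ hb)
    obtain ⟨h2, h3⟩ := hw a List.mem_cons_self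
    exact ⟨x F h ⟨a.1, h2⟩ a.2 * g, mul_mem (mem_XS h3 (Subgroup.subset_closure ⟨_, rfl⟩)) hg, by
      simp [h1, x, ChevalleyDatum.wordMat, ChevalleyDatum.x, h2]⟩

theorem nu_eq (i : Fin D.rank) : (x F h ((Φ h.c1).smp i) 1 *
    x F h ((Φ h.c1).neg ((Φ h.c1).smp i)) (-1) * x F h ((Φ h.c1).smp i) 1).1 = mat D F (T.nu i) :=
  ext_bs fun k hk => by
    have h1 := all_iff.1 h.c4 i i.2
    simp only [Bool.and_eq_true, all_iff] at h1
    have h2 := ev_of_eqv Nat.cast_zero (bs F D) (1 : ℕ →* F) (h1.2 k hk)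
    rw [ev_mat, ev_word h.c0, ev_one] at h2
    have h3 : T.sm i < D.nroots := ((Φ h.c1).smp i).2
    have h4 : T.ng (T.sm i) < D.nroots := ((Φ h.c1).neg ((Φ h.c1).smp i)).2
    simpa [ChevalleyDatum.wordMat, ChevalleyDatum.x, pv_mon, h3, h4, x, Φ, mul_assoc] using h2

variable (F) in
/-- The Chevalley relations. -/
def chev [Finite F] : Chev F (Φ h.c1) where
  x := x F h
  ν i := _
  add r t u := Units.ext (xMat_add h r t u)
  ν_eq _ := rfl
  ν_x i r t := ⟨g4 (nth T.eta i) r * t, Units.ext (by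
    obtain ⟨μ, rfl, -⟩ := exists_mu2 t t
    have h3 : T.rf i r < D.nroots := ((Φ h.c1).ref i r).2
    rw [Units.val_mul, Units.val_mul _ (_ * _ * _), nu_eq]
    simpa [ChevalleyDatum.wordMat, ChevalleyDatum.x, pv_mon, h3, x, Φ, RootSys.σ] using
      mat_mul_wordMat h.c0 Nat.cast_zero μ (all_iff.1 (h.c6 i i.2) r r.2))⟩
  ν_e i r := ⟨g4 (nth T.eta i) r, by
    rw [nu_eq, eR, eR, ← bs_cd, ← bs_cd, mat_bs, gd, ble_false (cd_lt _), nu,
      Nat.ble_eq_true_of_le (by simp [cd])]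
    simp [ev, cd, Φ, RootSys.σ]⟩
  tor r s t := Units.ext (Matrix.ext fun a k => by
    simp only [Units.val_mul, dg, diagonal_mul, mul_diagonal, x, xMat_apply h, mul_add, add_mul,
      hti_eq, ht_eq]
    refine congrArg₂ _ (by by_cases e : a = k <;> simp [one_apply, e]) (ind h (P := fun v =>
      _ * ev (bs F D) _ v a = ev (bs F D) _ v a * _) r k (by simp [ev]) fun b j c v _ h1 ih => ?_)
    simp only [ev, Pi.add_apply, mul_add, add_mul, ih, Pi.smul_apply, bas, add_left_inj]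
    split_ifs with h2
    · rw [h2, h1, _root_.zpow_add, mul_comm (j : ℤ), _root_.zpow_mul, zpow_natCast]
      simp only [smul_eq_mul, Units.val_mul, Units.val_pow_eq_pow_val]; ring
    · simp)
  tri r t a k := by
    simp only [x, xMat_apply h, add_eq_left, hti_eq, ht_eq]
    refine ind h (P := fun v => ev (bs F D) _ v a = 0 ∨ _) r k (Or.inl rfl)
      fun b j c v hj h1 ih => ?_
    by_cases h2 : cd D a = b
    · exact Or.inr ⟨j, by omega, h2 ▸ h1⟩
    · simpa [ev, bas, h2] using ih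
  sl2 i r hr := by
    have h1 := all_iff.1 h.c4 i i.2
    simp only [Bool.and_eq_true] at h1
    have h2 : T.sl2 i r = true := by rcases hr with rfl | rfl; exacts [h1.1.1, h1.1.2]
    simp only [sl2, Bool.and_eq_true, Bool.or_eq_true, ibeq_iff] at h2
    refine ⟨g4 (nth T.cor i) r, by rcases h2.1 with e | e <;> simp [e], fun t => ?_⟩
    obtain ⟨μ, rfl, -⟩ := exists_mu2 t t
    have h3 := ev_of_eqv Nat.cast_zero (bs F D) μ h2.2
    rw [ev_word h.c0, ev_one] at h3
    simp only [eR, ← bs_cd]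
    simpa [ChevalleyDatum.wordMat, ChevalleyDatum.x, pv_mon, ev, -Nat.reduceMul, sq, cd, x, Φ,
      sub_eq_add_neg, add_assoc] using h3
  comm a ha b hb h1 h2 t u := by
    have h3 := h.c5
    simp only [chk5, List.all_eq_true, all_iff, Bool.and_eq_true, Bool.or_eq_true, Nat.beq_eq,
      ibeq_iff, decide_eq_true_eq, Bool.not_eq_true', ← Bool.not_eq_true, List.any_eq_true] at h3
    obtain ⟨⟨a', b', w⟩, he, rfl, rfl⟩ := (((h3.2 a a.2).resolve_left fun h' => h' fun i hi => by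
      simpa only [ht_eq] using! ha ⟨i, hi⟩) b b.2).resolve_left (by
      simp only [not_or, not_not]
      exact ⟨⟨fun i hi => or_iff_not_imp_left.2 fun h' => by
        simpa only [ht_eq] using! hb ⟨i, hi⟩ (Fin.ext (not_not.1 h')), mt Fin.ext h1⟩,
        fun e => h2 (Fin.ext e)⟩)
    obtain ⟨μ, rfl, rfl⟩ := exists_mu2 t u
    obtain ⟨g, hg, h4⟩ := exists_word h (P := (Φ h.c1).cone a b) (wv μ (w.map fun c =>
        (c.1, .mon (2 ^ c.2.2.1 * 3 ^ c.2.2.2) c.2.1))) fun c hc => by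
      simp only [List.mem_map, exists_exists_and_eq_and] at hc
      obtain ⟨c, hc, rfl⟩ := hc
      obtain ⟨⟨⟨h5, h6⟩, h7⟩, h8⟩ := (h3.1 _ he).2 c hc
      exact ⟨h5, c.2.2.1, c.2.2.2, by omega, by omega, funext fun k => h8 k k.2⟩
    convert hg using 1
    rw [mul_inv_eq_iff_eq_mul, mul_inv_eq_iff_eq_mul]
    refine Units.ext ?_
    simpa [ChevalleyDatum.wordMat, ChevalleyDatum.x, pv_mon, h4, x, mul_assoc] using
      wordMat_eq h.c0 Nat.cast_zero μ (h3.1 _ he).1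

theorem G_eq [Finite F] (p : ℕ) [Fact p.Prime] [CharP F p] : ((chev F h).rgd p).G = D.group F :=
  le_antisymm (XS_le fun r _ => (Subgroup.closure_le _).2 fun _ ⟨t, ht⟩ =>
    Subgroup.subset_closure ⟨r, t, ht ▸ rfl⟩) ((Subgroup.closure_le _).2 fun _ ⟨r, t, ht⟩ =>
      mem_XS (r := r) trivial (Subgroup.subset_closure ⟨t, Units.ext ht.symm⟩))

variable [Finite F] {G : Type*} [Group G] [Finite G]

theorem propA (p : ℕ) [Fact p.Prime] [CharP F p] (e : G ≃* D.group F) : PropA p G :=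
  (tw_id ((chev F h).rgd p)).propA (G_eq (F := F) h p ▸ e)

theorem propB [CharP F 2] (e : G ≃* D.group F) : PropB G :=
  (tw_id ((chev F h).rgd 2)).propB (fun i x hx => by
    obtain ⟨t, rfl⟩ := (chev F h).mem_X (((chev F h).rgd 2).UJ_single i (by
      simpa only [Sym.orb_id] using! hx.1))
    rw [sq, ← Chev.add, CharTwo.add_self_eq_zero, Chev.zero]
    exact one_mem _) (G_eq (F := F) h 2 ▸ e)

end
end LT.Tab
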