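import Cfsg.Agent.Lib.Lie.RGD

/-!
# Twisted groups attached to root group data
-/

set_option autoImplicit false
set_option linter.unusedSectionVars false

namespace LT

open Cfsg GT Subgroup RootSys RGD

variable {ι R : Type*} [Fintype ι] [DecidableEq ι] [Finite R] {Γ : Type*} [Group Γ] [Finite Γ]
variable {p : ℕ} [hp : Fact p.Prime] {Φ : RootSys ι R}

/-- An endomorphism `τ` of the group of `D` permuting the root groups along a symmetry. -/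
structure Sym (D : RGD p Γ Φ) where
  τ : Γ → Γ
  ρ : Equiv.Perm R
  π : Equiv.Perm ι
  mul : ∀ g ∈ D.G, ∀ h ∈ D.G, τ (g * h) = τ g * τ h
  X_map : ∀ r, ∀ x ∈ D.X r, τ x ∈ D.X (ρ r)
  X_surj : ∀ r, ∀ y ∈ D.X (ρ r), ∃ x ∈ D.X r, τ x = y
  ρ_pos : ∀ r, Φ.pos (ρ r) ↔ Φ.pos r
  ρ_zero : ∀ r i, Φ.wt (ρ r) (π i) = 0 ↔ Φ.wt r i = 0
  ρ_smp : ∀ i, ρ (Φ.smp i) = Φ.smp (π i)
  ρ_σ : ∀ i r, ρ (Φ.σ i r) = Φ.σ (π i) (ρ r)

namespace Sym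

variable {D : RGD p Γ Φ} (S : Sym D)

theorem one : S.τ 1 = 1 := by
  have := S.mul 1 (one_mem _) 1 (one_mem _)
  rwa [one_mul, left_eq_mul] at this

theorem inv {g : Γ} (hg : g ∈ D.G) : S.τ g⁻¹ = (S.τ g)⁻¹ :=
  eq_inv_of_mul_eq_one_left (by rw [← S.mul _ (inv_mem hg) _ hg, inv_mul_cancel, S.one])

theorem conj {g h : Γ} (hg : g ∈ D.G) (hh : h ∈ D.G) :
    S.τ (g * h * g⁻¹) = S.τ g * S.τ h * (S.τ g)⁻¹ := by
  rw [S.mul _ (mul_mem hg hh) _ (inv_mem hg), S.mul _ hg _ hh, S.inv hg]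

/-- The fixed points of `τ`. -/
def F : Subgroup Γ where
  carrier := {g | g ∈ D.G ∧ S.τ g = g}
  mul_mem' := fun {g h} hg hh => ⟨mul_mem hg.1 hh.1, by rw [S.mul g hg.1 h hh.1, hg.2, hh.2]⟩
  one_mem' := ⟨one_mem _, S.one⟩
  inv_mem' := fun {g} hg => ⟨inv_mem hg.1, by rw [S.inv hg.1, hg.2]⟩

/-- The orbit of a simple root. -/
def orb (i : ι) : Set ι := {j | S.π.SameCycle i j}

theorem mem_orb (i : ι) : i ∈ S.orb i := Equiv.Perm.SameCycle.refl _ _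

theorem sub_ρ {i : ι} {r : R} : Φ.sub (S.orb i) (S.ρ r) ↔ Φ.sub (S.orb i) r :=
  ⟨fun h j hj => (S.ρ_zero r j).1 (h _ (mt Equiv.Perm.sameCycle_apply_right.1 hj)), fun h j hj => by
    obtain ⟨k, rfl⟩ := S.π.surjective j
    exact (S.ρ_zero r k).2 (h k (mt Equiv.Perm.sameCycle_apply_right.2 hj))⟩

theorem map_XS {Ψ : R → Prop} (h : ∀ r, Ψ r → Ψ (S.ρ r)) {y : Γ} (hy : y ∈ XS D.X Ψ) :
    S.τ y ∈ XS D.X Ψ :=
  (XS_le (K := { carrier := {g | g ∈ D.G ∧ S.τ g ∈ XS D.X Ψ}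
                 mul_mem' := fun {g h} hg hh =>
                   ⟨mul_mem hg.1 hh.1, by rw [S.mul g hg.1 h hh.1]; exact mul_mem hg.2 hh.2⟩
                 one_mem' := ⟨one_mem _, by rw [S.one]; exact one_mem _⟩
                 inv_mem' := fun {g} hg => ⟨inv_mem hg.1, by rw [S.inv hg.1]; exact inv_mem hg.2⟩ })
    (fun r hr x hx => ⟨mem_XS trivial hx, mem_XS (h r hr) (S.X_map r x hx)⟩) hy).2

theorem map_U {y : Γ} (hy : y ∈ D.U) : S.τ y ∈ D.U := S.map_XS (fun r => (S.ρ_pos r).2) hy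
theorem map_V {y : Γ} (hy : y ∈ D.V) : S.τ y ∈ D.V := S.map_XS (fun r => mt (S.ρ_pos r).1) hy

theorem conj_W {w : Equiv.Perm R} (hw : w ∈ Φ.W Set.univ) : S.ρ * w * S.ρ⁻¹ ∈ Φ.W Set.univ := by
  refine Φ.W_ind (P := fun w => S.ρ * w * S.ρ⁻¹ ∈ Φ.W Set.univ) (by simp) (fun i _ w _ h => ?_) hw
  convert mul_mem (Φ.σ_mem (Set.mem_univ (S.π i))) h using 1
  ext r
  simp [S.ρ_σ]

variable {n : Γ} {w : Equiv.Perm R}

theorem map_N (hn : (n, w) ∈ D.N) (hG : n ∈ D.G) : (S.τ n, S.ρ * w * S.ρ⁻¹) ∈ D.N := by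
  refine mem_N_of_conj (S.map_XS (fun _ h => h) hG) (S.conj_W (D.N_W _ hn)) fun r y hy => ?_
  obtain ⟨r, rfl⟩ := S.ρ.surjective r
  obtain ⟨x, hx, rfl⟩ := S.X_surj r y hy
  rw [← S.conj hG (mem_XS trivial hx)]
  simpa using S.X_map _ _ (D.N_X _ hn r x hx)

theorem bruhat_fix {J : Set ι} {g : Γ} (hg : g ∈ D.L J) (hF : g ∈ S.F) :
    ∃ u ∈ D.U ⊓ S.F, ∃ n ∈ S.F, ∃ w, (n, w) ∈ D.N ∧ w ∈ Φ.W J ∧ S.ρ * w = w * S.ρ ∧
      ∃ y ∈ D.U ⊓ S.F, n * y * n⁻¹ ∈ D.V ∧ g = u * n * y := by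
  obtain ⟨u, hu, n, w, hn, hw, y, hy, h1, rfl⟩ := bruhat' hg
  have huG := D.le_G _ hu
  have hyG := D.le_G _ hy
  have hnG : n ∈ D.G := by
    have := hF.1
    rwa [mul_mem_cancel_right hyG, mul_mem_cancel_left huG] at this
  obtain ⟨h2, h3, h4, h5⟩ := bruhat_unique (S.map_N hn hnG) hn (S.map_U hu) hu (S.map_U hy) hy
    (S.conj hnG hyG ▸ S.map_V h1) h1
    (by rw [← S.mul _ huG _ hnG, ← S.mul _ (mul_mem huG hnG) _ hyG, hF.2])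
  exact ⟨u, ⟨hu, huG, h3⟩, n, ⟨hnG, h4⟩, w, hn, hw, mul_inv_eq_iff_eq_mul.1 h2, y, ⟨hy, hyG, h5⟩,
    h1, rfl⟩

theorem not_pos_orb (hw : w ∈ Φ.W Set.univ) (hc : S.ρ * w = w * S.ρ) {i : ι}
    (h : ¬ Φ.pos (w (Φ.smp i))) {r : R} (hr : Φ.pos r) (hJ : Φ.sub (S.orb i) r) :
    ¬ Φ.pos (w r) := by
  refine not_pos_W_of_smp hw (fun j hj => ?_) hr hJ
  obtain ⟨k, rfl⟩ := Equiv.Perm.SameCycle.exists_nat_pow_eq hj
  clear hj
  induction k with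
  | zero => exact h
  | succ k ih =>
    rwa [pow_succ', Equiv.Perm.mul_apply, ← S.ρ_smp, ← Equiv.Perm.mul_apply, ← hc,
      Equiv.Perm.mul_apply, S.ρ_pos]

end Sym

/-- `K` is the twisted group attached to `S`. -/
structure Tw {D : RGD p Γ Φ} (S : Sym D) (K : Subgroup Γ) : Prop where
  le : K ≤ S.F
  memU : ∀ i, D.UJ (S.orb i) ⊓ S.F ≤ K
  memV : ∀ i, D.VJ (S.orb i) ⊓ S.F ≤ K
  gen : K ≤ closure {x | x ∈ K ∧ (x ∈ D.U ∨ ∃ i, x ∈ D.VJ (S.orb i))}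
  ne : ∀ i, ∃ x ∈ K, x ∈ D.VJ (S.orb i) ∧ x ≠ 1

namespace Tw

variable {D : RGD p Γ Φ} {S : Sym D} {K : Subgroup Γ} (T : Tw S K) {n : Γ} {w : Equiv.Perm R}
include T

theorem exists_nJ (i : ι) : ∃ n ∈ K, ∃ v, (n, v) ∈ D.N ∧ v ∈ Φ.W (S.orb i) ∧
    S.ρ * v = v * S.ρ ∧ ∀ r, Φ.pos r → Φ.sub (S.orb i) r → ¬ Φ.pos (v r) := by
  obtain ⟨x, hx, hV, hx1⟩ := T.ne i
  have hL : x ∈ D.L (S.orb i) := XS_mono (fun _ h => h.2) hV
  obtain ⟨u, hu, n, hnF, v, hn, hv, hc, y, hy, h1, rfl⟩ := S.bruhat_fix hL (T.le hx)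
  have h2 : y ∈ D.UJ (S.orb i) := XS_mono (fun r hr => ⟨hr.1, by_contra fun h =>
    hr.2 (pos_W_of_not_sub hv hr.1 h)⟩) (mem_inv_of_conj hn hy.1 h1)
  have h3 : u ∈ D.UJ (S.orb i) := by
    obtain ⟨a, ha, n', v', hn', hv', b, hb, h3⟩ := bruhat hL
    obtain ⟨c, hc, h4, z, hz, rfl⟩ := exists_factor hn' (D.UJ_le _ hb)
    have h5 : z ∈ D.UJ (S.orb i) := XS_mono (fun r hr => ⟨hr.1, by_contra fun h =>
      hr.2 (pos_W_of_not_sub hv' hr.1 h)⟩) hz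
    rw [(bruhat_unique hn hn' hu.1 (mul_mem (D.UJ_le _ ha) h4) hy.1 (D.UJ_le _ h5) h1
      (conj_inv_mem_V hn' hz).2 (by rw [h3]; group)).2.1]
    rw [mul_mem_cancel_right h5] at hb
    exact mul_mem ha (mem_UJ_of_mem_L (conj_XS hn' (fun r hr => (sub_W hv').2 hr.2) hb) h4)
  rw [mul_mem_cancel_right (T.memU i ⟨h2, hy.2⟩), mul_mem_cancel_left (T.memU i ⟨h3, hu.2⟩)] at hx
  refine ⟨n, hx, v, hn, hv, hc, fun r => ?_⟩
  obtain ⟨j, hj⟩ : ∃ j, ¬ Φ.pos (v (Φ.smp j)) := by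
    by_contra! h
    obtain rfl := eq_one_of_pos hv h
    have h4 : n * y * n⁻¹ ∈ D.U := conj_XS hn (fun _ h => h) hy.1
    have h5 : u * n * y = u * (n * y * n⁻¹) * n := by group
    have h6 := eq_one_of_isPElt hn (mul_mem hu.1 h4) (h5 ▸ isPElt_V (D.VJ_le _ hV))
    exact hx1 (D.disj _ (by rw [h6, mul_one]; exact mul_mem hu.1 hy.1) (D.VJ_le _ hV))
  have h4 : S.orb i = S.orb j := by
    have : j ∈ S.orb i := sub_smp.1 (by_contra fun h => hj (pos_W_of_not_sub hv (Φ.pos_smp j) h))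
    exact Set.ext fun k => ⟨this.symm.trans, this.trans⟩
  rw [h4]
  exact S.not_pos_orb (D.N_W _ hn) hc hj

theorem exists_ne (i : ι) : ∃ x ∈ D.UJ (S.orb i) ⊓ S.F, x ≠ 1 := by
  obtain ⟨x, hx, hV, hx1⟩ := T.ne i
  obtain ⟨m, hm, v, h1, h2, -, h3⟩ := T.exists_nJ i
  exact ⟨m⁻¹ * x * m, ⟨conj_XS' h1 (fun r hr => ⟨(pos_inv_of_longest h2 h3 hr.2).2 hr.1,
    (sub_W (inv_mem h2)).2 hr.2⟩) hV, T.le (mul_mem (mul_mem (inv_mem hm) hx) hm)⟩,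
    by simpa [mul_assoc, inv_mul_eq_one] using hx1⟩

theorem pos_of_conj (hn : (n, w) ∈ D.N) (hc : S.ρ * w = w * S.ρ) {i : ι}
    (h : ∀ x ∈ D.UJ (S.orb i) ⊓ S.F, n * x * n⁻¹ ∈ D.U) : Φ.pos (w (Φ.smp i)) := by
  by_contra hi
  obtain ⟨x, hx, hx1⟩ := T.exists_ne i
  have := D.disj _ (h x hx)
    (conj_XS hn (fun r hr => S.not_pos_orb (D.N_W _ hn) hc hi hr.1 hr.2) hx.1)
  exact hx1 (by simpa using this)

omit T in
theorem split {i : ι} {y : Γ} (hy : y ∈ D.U ⊓ S.F) {m : Γ} {v : Equiv.Perm R} (h1 : (m, v) ∈ D.N)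
    (h2 : v ∈ Φ.W (S.orb i)) (h3 : ∀ r, Φ.pos r → Φ.sub (S.orb i) r → ¬ Φ.pos (v r)) :
    ∃ q ∈ D.Q Set.univ (S.orb i) ⊓ S.F, ∃ x ∈ D.UJ (S.orb i) ⊓ S.F, q * x = y := by
  obtain ⟨q, hq, x, hx, rfl⟩ := exists_eq_mul (Set.subset_univ (S.orb i)) (D.U_le hy.1)
  have h4 : S.τ q ∈ D.Q Set.univ (S.orb i) :=
    S.map_XS (fun r hr => ⟨(S.ρ_pos r).2 hr.1, sub_univ _, mt S.sub_ρ.1 hr.2.2⟩) hq
  have h5 : S.τ x ∈ D.UJ (S.orb i) := S.map_XS (fun r hr => ⟨(S.ρ_pos r).2 hr.1, S.sub_ρ.2 hr.2⟩) hx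
  have h6 := hy.2.2
  rw [S.mul _ (D.le_G _ hq) _ (D.le_G _ hx)] at h6
  have h7 : q⁻¹ * S.τ q = x * (S.τ x)⁻¹ := by
    rw [inv_mul_eq_iff_eq_mul, ← mul_assoc, ← h6, mul_inv_cancel_right]
  have h8 := D.disj _ (conj_XS h1 (fun r hr => pos_W_of_not_sub h2 hr.1 hr.2.2)
    (mul_mem (inv_mem hq) h4)) (h7 ▸ conj_XS h1 (fun r hr => h3 r hr.1 hr.2)
      (mul_mem hx (inv_mem h5)))
  have h9 : q⁻¹ * S.τ q = 1 := by simpa using h8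
  exact ⟨q, ⟨hq, D.le_G _ hq, (inv_mul_eq_one.1 h9).symm⟩, x,
    ⟨hx, D.le_G _ hx, (mul_inv_eq_one.1 (h7 ▸ h9)).symm⟩, rfl⟩

theorem mem_closure (hn : (n, w) ∈ D.N) (hc : S.ρ * w = w * S.ρ) {y : Γ} (hy : y ∈ D.U ⊓ S.F)
    (h : n * y * n⁻¹ ∈ D.V) : y ∈ closure {t | ∃ m ∈ K, ∃ i, ∃ x ∈ D.UJ (S.orb i) ⊓ S.F,
      t = m * x * m⁻¹ ∧ ∀ z ∈ D.UJ (S.orb i), m * z * m⁻¹ ∈ XS D.X (· ∈ Φ.inv w)} := by
  induction hk : (Φ.inv w).ncard using Nat.strong_induction_on generalizing n w y with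
  | _ k ih =>
  have hw := D.N_W _ hn
  by_cases h0 : ∀ i, Φ.pos (w (Φ.smp i))
  · obtain rfl := eq_one_of_pos hw h0
    have := D.disj _ (conj_XS hn (fun _ h => h) hy.1) h
    rw [show y = 1 by simpa using this]
    exact one_mem _
  obtain ⟨i, hi⟩ := not_forall.1 h0
  obtain ⟨m, hm, v, h1, h2, h3, h4⟩ := T.exists_nJ i
  obtain ⟨q, hq, x, hx, rfl⟩ := split hy h1 h2 h4
  have h5 : ∀ r, Φ.pos r → Φ.sub (S.orb i) r → ¬ Φ.pos (w r) := fun r => S.not_pos_orb hw hc hi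
  have h6 : D.UJ (S.orb i) ≤ XS D.X (· ∈ Φ.inv w) := XS_mono fun r hr => ⟨hr.1, h5 r hr.1 hr.2⟩
  obtain ⟨h7, h8⟩ := ncard_inv_lt hw h2 (S.mem_orb i) h5 h4
  refine mul_mem ?_ (subset_closure ⟨1, one_mem _, i, x, hx, by simp, fun z hz => by simpa using h6 hz⟩)
  have h9 := ih _ (hk ▸ h8) (n := n * m⁻¹) (w := w * v⁻¹) (mul_mem hn (inv_mem h1)) (by
      rw [← mul_assoc, hc, mul_assoc, mul_assoc, (show Commute S.ρ v from h3).inv_right.eq])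
    (y := m * q * m⁻¹) ⟨conj_XS h1 (fun r hr => pos_W_of_not_sub h2 hr.1 hr.2.2) hq.1,
      S.F.mul_mem (S.F.mul_mem (T.le hm) hq.2) (S.F.inv_mem (T.le hm))⟩
    (by convert mul_mem h (inv_mem (conj_inv_mem_V hn (h6 hx.1)).2) using 1; group) rfl
  have h10 := (closure_le (Subgroup.comap (MulAut.conj m⁻¹).toMonoidHom (closure {t | ∃ m ∈ K,
    ∃ i, ∃ x ∈ D.UJ (S.orb i) ⊓ S.F, t = m * x * m⁻¹ ∧
      ∀ z ∈ D.UJ (S.orb i), m * z * m⁻¹ ∈ XS D.X (· ∈ Φ.inv w)}))).2 ?_ h9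
  · simpa [mul_assoc] using h10
  rintro _ ⟨m', hm', j, x', hx', rfl, h11⟩
  refine subset_closure ⟨m⁻¹ * m', mul_mem (inv_mem hm) hm', j, x', hx', by simp [mul_assoc],
    fun z hz => ?_⟩
  convert conj_XS' h1 (Ψ' := (· ∈ Φ.inv w)) (fun r hr =>
    ⟨pos_W_of_not_sub (inv_mem h2) hr.1 (h7 r hr), hr.2⟩) (h11 z hz) using 1
  group

theorem le_closure : D.U ⊓ S.F ≤ closure {t | ∃ m ∈ K, ∃ i, ∃ x ∈ D.UJ (S.orb i) ⊓ S.F,
    t = m * x * m⁻¹ ∧ ∀ z ∈ D.UJ (S.orb i), m * z * m⁻¹ ∈ D.U} := fun y hy => by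
  obtain ⟨n, -, w, hn, h1, -⟩ := exists_conj_V (D := D)
  have hw := D.N_W _ hn
  have h2 : w⁻¹ * (S.ρ * w * S.ρ⁻¹) = 1 := eq_one_of_pos (mul_mem (inv_mem hw) (S.conj_W hw))
    fun i => (pos_inv_of_longest hw (fun r h _ => h1 r h) (sub_univ _)).2 (by
      rw [Equiv.Perm.mul_apply, Equiv.Perm.mul_apply, S.ρ_pos]
      exact h1 _ ((S.ρ_pos _).1 (by simpa using Φ.pos_smp i)))
  refine closure_mono ?_ (T.mem_closure hn (by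
    rwa [inv_mul_eq_one, eq_mul_inv_iff_mul_eq, eq_comm] at h2) hy (conj_XS hn h1 hy.1))
  rintro _ ⟨m, hm, i, x, hx, rfl, h⟩
  exact ⟨m, hm, i, x, hx, rfl, fun z hz => XS_mono (fun _ h => h.1) (h z hz)⟩

theorem isSylowIn : IsSylowIn p (D.U ⊓ S.F) K := by
  have h1 : D.U ⊓ S.F ≤ K := T.le_closure.trans ((closure_le K).2 (by
    rintro _ ⟨m, hm, i, x, hx, rfl, -⟩
    exact mul_mem (mul_mem hm (T.memU i hx)) (inv_mem hm)))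
  have h2 := D.pgrp.to_inf_left (K := S.F)
  refine isSylowIn_of_maximal h2 h1 fun P hP hPK hUP => by_contra fun hne => ?_
  haveI := hP.isNilpotent
  obtain ⟨⟨g, hg⟩, h3, h4⟩ := SetLike.exists_of_lt (Group.normalizerCondition_of_isNilpotent
    ((D.U ⊓ S.F).subgroupOf P) (lt_top_iff_ne_top.2 fun h => hne
      (le_antisymm (subgroupOf_eq_top.1 h) hUP)))
  have h5 : g ∈ normalizer ((D.U ⊓ S.F : Subgroup Γ) : Set Γ) := mem_normalizer_of fun y hy =>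
    (conj_mem h3 (y := ⟨y, hUP hy⟩) hy :)
  obtain ⟨u, hu, n, -, w, hn, hw, hc, y, hy, -, rfl⟩ :=
    S.bruhat_fix (G_le (T.le (hPK hg)).1) (T.le (hPK hg))
  rw [mul_mem_cancel_right (le_normalizer hy), mul_mem_cancel_left (le_normalizer hu)] at h5
  obtain rfl := eq_one_of_pos hw fun i => T.pos_of_conj hn hc fun x hx =>
    (conj_mem h5 ⟨D.UJ_le _ hx.1, hx.2⟩).1
  have h6 := eq_one_of_isPElt hn (mul_mem hu.1 (conj_mem h5 hy).1)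
    (by convert isPElt_of_mem hP hg using 1; group)
  exact h4 (by simpa [mem_subgroupOf, h6] using mul_mem hu hy)

theorem propA {G : Type*} [Group G] [Finite G] (e : G ≃* K) : PropA p G := by
  refine propA_of_equiv e T.isSylowIn.le T.isSylowIn.isPGroup fun a ha hU =>
    T.gen.trans ((closure_le _).2 ?_)
  rintro x ⟨hx, h | ⟨i, h⟩⟩
  · exact hU ⟨h, T.le hx⟩
  obtain ⟨m, hm, v, h1, h2, h3, h4⟩ := T.exists_nJ i
  have hN : ∀ {g : Γ} {A : Subgroup Γ}, g ∈ S.F → g ∈ normalizer (A : Set Γ) →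
      g ∈ normalizer ((A ⊓ S.F : Subgroup Γ) : Set Γ) := fun hg h => mem_normalizer_of fun y hy =>
    ⟨conj_mem h hy.1, S.F.mul_mem (S.F.mul_mem hg hy.2) (S.F.inv_mem hg)⟩
  have hUQ : D.U ⊓ S.F ≤ normalizer ((D.Q Set.univ (S.orb i) ⊓ S.F : Subgroup Γ) : Set Γ) :=
    fun u hu => hN hu.2 (UJ_le_normalizer_Q (D.U_le hu.1))
  have hmQ := hN (T.le hm) (mem_normalizer_of fun y => conj_XS h1 (Ψ := fun r => Φ.pos r ∧
    Φ.sub Set.univ r ∧ ¬ Φ.sub (S.orb i) r) fun r hr =>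
      ⟨pos_W_of_not_sub h2 hr.1 hr.2.2, sub_univ _, mt (sub_W h2).1 hr.2.2⟩)
  have hj : ∀ {n w}, (n, w) ∈ D.N → S.ρ * w = w * S.ρ →
      n ∈ normalizer ((D.Q Set.univ (S.orb i) ⊓ S.F : Subgroup Γ) : Set Γ) →
      ∀ j, j ∉ S.orb i → Φ.pos (w (Φ.smp j)) := fun hn hc h j hj =>
    T.pos_of_conj hn hc fun x hx => D.UJ_le _ (D.Q_le _ _ (conj_mem h ⟨XS_mono (fun r hr =>
      ⟨hr.1, sub_univ _, fun h => Φ.wt_ne r (funext fun k => by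
        by_cases hk : k ∈ S.orb i
        · exact hr.2 k fun h' => hj (hk.trans h'.symm)
        · exact h k hk)⟩) hx.1, hx.2⟩).1)
  have hH : ∀ {n}, n ∈ S.F → (n, 1) ∈ D.N → n ∈ normalizer ((D.U ⊓ S.F : Subgroup Γ) : Set Γ) :=
    fun hn h => hN hn (mem_normalizer_of fun y => conj_XS h fun _ h => h)
  have := ha.conj_fix hU T.isSylowIn (inf_le_inf_right _ ((D.Q_le _ _).trans (D.UJ_le _))) hUQ hm
    hmQ (fun g hg h5 => ?_) (u := m⁻¹ * x * m) ⟨conj_XS' h1 (fun r hr =>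
      (pos_inv_of_longest h2 h4 hr.2).2 hr.1) h, T.le (mul_mem (mul_mem (inv_mem hm) hx) hm)⟩
  · simpa [mul_assoc] using this
  obtain ⟨u, hu, n, hnF, w, hn, hw, hc, y, hy, -, rfl⟩ := S.bruhat_fix (G_le (T.le hg).1) (T.le hg)
  rw [mul_mem_cancel_right (hUQ hy), mul_mem_cancel_left (hUQ hu)] at h5
  by_cases h6 : ∀ j, Φ.pos (w (Φ.smp j))
  · obtain rfl := eq_one_of_pos hw h6
    exact Or.inl (mul_mem (mul_mem (le_normalizer hu) (hH hnF hn)) (le_normalizer hy))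
  obtain ⟨j, h6⟩ := not_forall.1 h6
  have h7 : S.orb i = S.orb j := by
    have : j ∈ S.orb i := by_contra fun h => h6 (hj hn hc h5 j h)
    exact Set.ext fun k => ⟨this.symm.trans, this.trans⟩
  have h8 : w * v⁻¹ = 1 := eq_one_of_pos (mul_mem hw (inv_mem (Φ.W_le _ h2))) fun k => by
    by_cases hk : k ∈ S.orb i
    · exact by_contra fun h => (ncard_inv_lt hw h2 (S.mem_orb i) (fun r hr hs =>
        S.not_pos_orb hw hc h6 hr (h7 ▸ hs)) h4).1 _ ⟨Φ.pos_smp k, h⟩ (sub_smp.2 hk)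
    · exact hj (n := n * m⁻¹) (w := w * v⁻¹) (mul_mem hn (inv_mem h1)) (by
        rw [← mul_assoc, hc, mul_assoc, mul_assoc, (show Commute S.ρ v from h3).inv_right.eq])
        (mul_mem h5 (inv_mem hmQ)) k hk
  obtain rfl := mul_inv_eq_one.1 h8
  refine Or.inr ⟨u, hu, ?_⟩
  convert mul_mem (hH (mul_mem (inv_mem (T.le hm)) hnF)
    (by simpa using mul_mem (inv_mem h1) hn)) (le_normalizer hy) using 1
  group

end Tw

theorem Tw.propB {D : RGD 2 Γ Φ} {S : Sym D} {K : Subgroup Γ} (T : Tw S K)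
    (h : ∀ i, ∀ x ∈ D.UJ (S.orb i) ⊓ S.F, x ^ 2 ∈ ⁅D.UJ (S.orb i) ⊓ S.F, D.UJ (S.orb i) ⊓ S.F⁆)
    {G : Type*} [Group G] [Finite G] (e : G ≃* K) : PropB G := by
  refine propB_of_surjective e.symm.toMonoidHom e.symm.surjective T.isSylowIn T.le_closure ?_
  rintro _ ⟨m, hm, i, x, hx, rfl, h1⟩
  have h2 : (D.UJ (S.orb i) ⊓ S.F).map (MulAut.conj m).toMonoidHom ≤ D.U ⊓ S.F := by
    rintro _ ⟨z, hz, rfl⟩
    exact ⟨h1 z hz.1, S.F.mul_mem (S.F.mul_mem (T.le hm) hz.2) (S.F.inv_mem (T.le hm))⟩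
  refine ⟨h2 ⟨x, hx, rfl⟩, commutator_mono h2 h2 ?_⟩
  rw [← map_commutator, conj_pow]
  exact ⟨_, h i x hx, rfl⟩

/-- The trivial symmetry. -/
def Sym.id (D : RGD p Γ Φ) : Sym D where
  τ := _root_.id
  ρ := 1
  π := 1
  mul _ _ _ _ := rfl
  X_map _ _ h := h
  X_surj _ y h := ⟨y, h, rfl⟩
  ρ_pos _ := Iff.rfl
  ρ_zero _ _ := Iff.rfl
  ρ_smp _ := rfl
  ρ_σ _ _ := rfl

theorem Sym.orb_id (D : RGD p Γ Φ) (i : ι) : (Sym.id D).orb i = {i} :=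
  Set.ext fun _ => Equiv.Perm.sameCycle_one.trans eq_comm

theorem tw_id (D : RGD p Γ Φ) : Tw (Sym.id D) D.G where
  le _ h := ⟨h, rfl⟩
  memU _ _ h := h.2.1
  memV _ _ h := h.2.1
  gen := G_le.trans (L_le (fun u hu => subset_closure ⟨D.le_G _ hu, Or.inl (D.UJ_le _ hu)⟩)
    fun i _ x hx => subset_closure ⟨mem_XS trivial hx, Or.inr ⟨i, mem_XS ⟨by
      simpa [pos_neg] using Φ.pos_smp i, RootSys.sub_neg.2 (sub_smp.2 (Sym.mem_orb _ i))⟩ hx⟩⟩)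
  ne i := by
    obtain ⟨⟨y, hy⟩, hy1⟩ := ne_bot_iff_exists_ne_one.1 (D.ne_bot i)
    exact ⟨y, mem_XS trivial hy, mem_XS ⟨by simpa [pos_neg] using Φ.pos_smp i,
      RootSys.sub_neg.2 (sub_smp.2 (Sym.mem_orb _ i))⟩ hy, fun h => hy1 (Subtype.ext h)⟩

end LT
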